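import Cfsg.Agent.Lib.Characters.Basic
import Cfsg.Agent.Lib.Brauer.Monomial
import Cfsg.Agent.Lib.Brauer.Characterization

/-!
# Norm one generalized characters; coprime power maps on characters
-/

namespace Cfsg.Agent.Lib.BC78.PowChar

open scoped ComplexConjugate
open Cfsg.Agent.Lib.Induced.Basic Cfsg.Agent.Lib.Characters.Basic

universe u

variable {G : Type u} [Group G] [Fintype G]

/-- A generalized character of norm one and positive degree is an irreducible character. -/
theorem isIrr_of_norm_one {θ : G → ℂ} (hθ : Cfsg.IsGeneralizedCharacter G θ)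
    (h1 : Cfsg.classInner θ θ = 1) (hpos : 0 < (θ 1).re) : Cfsg.IsIrrCharacter G θ := by
  classical
  haveI := Fintype.ofFinite (Cfsg.IrrCharacter G)
  obtain ⟨a, b, ha, hb, rfl⟩ := hθ
  have hc : ∀ ψ : Cfsg.IrrCharacter G, ∃ c : ℤ, Cfsg.classInner (a - b) ψ = c := by
    intro ψ
    obtain ⟨i, hi⟩ := exists_classInner_nat ha (isCharacter_irr ψ)
    obtain ⟨j, hj⟩ := exists_classInner_nat hb (isCharacter_irr ψ)
    exact ⟨(i : ℤ) - j, by rw [classInner_sub_left, hi, hj]; push_cast; rfl⟩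
  choose c hc using hc
  have hexp : a - b = ∑ ψ : Cfsg.IrrCharacter G, (c ψ : ℂ) • (ψ : G → ℂ) := by
    conv_lhs => rw [character_eq_finsum ha, character_eq_finsum hb,
      finsum_eq_sum_of_fintype, finsum_eq_sum_of_fintype, ← Finset.sum_sub_distrib]
    refine Finset.sum_congr rfl fun ψ _ => ?_
    rw [← hc, classInner_sub_left, sub_smul]
  have hnorm : ∑ ψ : Cfsg.IrrCharacter G, c ψ * c ψ = 1 := by
    have h2 : Cfsg.classInner (a - b) (a - b) =
        ∑ ψ : Cfsg.IrrCharacter G, (c ψ : ℂ) * (c ψ : ℂ) := by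
      conv_lhs => arg 2; rw [hexp]
      rw [classInner_sum_right]
      refine Finset.sum_congr rfl fun ψ _ => ?_
      rw [classInner_smul_right, hc, map_intCast]
    rw [h1] at h2
    exact_mod_cast h2.symm
  obtain ⟨ψ, hψ⟩ : ∃ ψ, c ψ ≠ 0 := by
    by_contra hcon
    push Not at hcon
    simp [hcon] at hnorm
  have hψ1 : c ψ * c ψ = 1 ∧ ∀ φ, φ ≠ ψ → c φ = 0 := by
    have h3 := Finset.add_sum_erase Finset.univ (fun φ => c φ * c φ) (Finset.mem_univ ψ)
    simp only [hnorm] at h3
    have h4 : 0 ≤ ∑ φ ∈ Finset.univ.erase ψ, c φ * c φ :=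
      Finset.sum_nonneg fun φ _ => mul_self_nonneg _
    have h5 : 1 ≤ c ψ * c ψ := Int.one_le_abs (mul_self_ne_zero.2 hψ) |>.trans_eq
      (abs_of_nonneg (mul_self_nonneg _))
    have h6 : ∑ φ ∈ Finset.univ.erase ψ, c φ * c φ = 0 := by omega
    refine ⟨by omega, fun φ hφ => ?_⟩
    exact mul_self_eq_zero.1 ((Finset.sum_eq_zero_iff_of_nonneg fun φ _ => mul_self_nonneg _).1 h6 φ
      (Finset.mem_erase.2 ⟨hφ, Finset.mem_univ _⟩))
  have heq : a - b = (c ψ : ℂ) • (ψ : G → ℂ) := by
    rw [hexp]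
    refine Finset.sum_eq_single ψ (fun φ _ hφ => ?_) (fun h => absurd (Finset.mem_univ _) h)
    rw [hψ1.2 φ hφ, Int.cast_zero, zero_smul]
  obtain ⟨n, hn, hnψ⟩ := exists_degree_pos ψ
  rcases Int.eq_one_or_neg_one_of_mul_eq_one hψ1.1 with h | h
  · rw [heq, h, Int.cast_one, one_smul]
    exact ψ.2
  · exfalso
    rw [heq, h] at hpos
    simp only [Pi.smul_apply, smul_eq_mul, Int.cast_neg, Int.cast_one, hnψ, neg_mul, one_mul,
      Complex.neg_re, Complex.natCast_re] at hpos
    have : (0 : ℝ) ≤ n := Nat.cast_nonneg n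
    linarith

omit [Fintype G] in
theorem mem_of_pow_mem [Finite G] {H : Subgroup G} {k : ℕ} (hk : k.Coprime (Nat.card G)) {y : G}
    (hy : y ^ k ∈ H) : y ∈ H := by
  have h := (powCoprime (G := G) hk.symm).left_inv y
  obtain ⟨m, hm⟩ := exists_pow_eq_self_of_coprime (x := y)
    (Nat.Coprime.coprime_dvd_right (orderOf_dvd_natCard y) hk)
  rw [← hm]
  exact H.pow_mem hy m

theorem indFun_pow (H : Subgroup G) (l : H → ℂ) {k : ℕ} (hk : k.Coprime (Nat.card G)) :
    (fun g => Cfsg.indFun H l (g ^ k)) = Cfsg.indFun H (fun h => l (h ^ k)) := by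
  classical
  funext g
  simp only [indFun_apply]
  congr 1
  refine Finset.sum_congr rfl fun x _ => ?_
  have e : x⁻¹ * g ^ k * x = (x⁻¹ * g * x) ^ k := by
    simpa using (conj_pow (a := x⁻¹) (b := g) (i := k)).symm
  by_cases hx : x⁻¹ * g * x ∈ H
  · rw [dif_pos hx, dif_pos (e ▸ H.pow_mem hx k)]
    exact congrArg l (Subtype.ext e)
  · rw [dif_neg hx, dif_neg (fun h => hx (mem_of_pow_mem hk (e ▸ h)))]

/-- Galois conjugates, in the form `g ↦ χ (g ^ k)` with `k` coprime to the order, of irreducible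
characters are irreducible. -/
theorem isIrrCharacter_pow {χ : G → ℂ} (hχ : Cfsg.IsIrrCharacter G χ) {k : ℕ}
    (hk : k.Coprime (Nat.card G)) : Cfsg.IsIrrCharacter G (fun g => χ (g ^ k)) := by
  have hc := IsCharacter_of_isIrrCharacter hχ
  have hbij : Function.Bijective (fun g : G => g ^ k) := (powCoprime (G := G) hk.symm).bijective
  apply isIrr_of_norm_one
  · apply Cfsg.Agent.Lib.Brauer.Characterization.isGeneralized_of_mem (P := fun _ => True)
    have hm := Cfsg.Agent.Lib.Brauer.Monomial.char_mem hc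
    clear hc hχ
    induction hm using Submodule.span_induction with
    | mem x hx =>
      obtain ⟨H, -, l, rfl⟩ := hx
      rw [indFun_pow H l hk]
      refine Submodule.subset_span ⟨H, trivial, l ^ k, ?_⟩
      congr 1
      funext h
      rw [map_pow]
      rfl
    | zero => exact Submodule.zero_mem _
    | add x y _ _ h1 h2 => exact Submodule.add_mem _ h1 h2
    | smul r x _ h => exact Submodule.smul_mem _ r h
  · rw [← classInner_self_irr ⟨χ, hχ⟩, Cfsg.classInner, Cfsg.classInner]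
    congr 1
    exact Fintype.sum_bijective _ hbij _ _ fun g => rfl
  · simp only [one_pow]
    obtain ⟨n, hn, hnχ⟩ := exists_degree_pos (⟨χ, hχ⟩ : Cfsg.IrrCharacter G)
    have h : χ 1 = (n : ℂ) := hnχ
    rw [h, Complex.natCast_re]
    exact_mod_cast hn

end Cfsg.Agent.Lib.BC78.PowChar
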