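import Cfsg.Agent.Lib.Characters.Diag
import Cfsg.Prelude.Def_Blocks
import Mathlib.FieldTheory.AlgebraicClosure
import Mathlib.FieldTheory.Galois.Infinite
import Mathlib.RingTheory.IntegralClosure.IntegrallyClosed
import Mathlib.RingTheory.Int.Basic
import Mathlib.RingTheory.Localization.FractionRing
import Mathlib.RingTheory.Polynomial.RationalRoot
import Mathlib.RingTheory.RootsOfUnity.Complex
import Mathlib.Analysis.SpecialFunctions.Log.Basic

/-!
# Galois conjugation of character values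

Automorphisms of the algebraic closure of `ℚ` inside `ℂ` act on character values through
coprime powers of the argument; consequences for sums of absolute squares.
-/

namespace Cfsg.Agent.Lib.BC78.Galois

open scoped ComplexConjugate

universe u

variable {G : Type u} [Group G] [Finite G]

/-- The field of algebraic numbers. -/
noncomputable abbrev Alg : IntermediateField ℚ ℂ := algebraicClosure ℚ ℂ

theorem mem_alg_of_isIntegral {z : ℂ} (h : IsIntegral ℤ z) : z ∈ Alg :=
  mem_algebraicClosure_iff'.2 h.tower_top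

/-- The exponent by which an automorphism moves the roots of unity of order dividing `|G|`. -/
theorem exists_exponent (σ : Alg ≃ₐ[ℚ] Alg) {n : ℕ} (hn : n ≠ 0) :
    ∃ k : ℕ, k.Coprime n ∧ ∀ (z : ℂ) (hz : z ^ n = 1) (hm : z ∈ Alg),
      ((σ ⟨z, hm⟩ : Alg) : ℂ) = z ^ k := by
  haveI : NeZero n := ⟨hn⟩
  have hζ := Complex.isPrimitiveRoot_exp n hn
  set ζ := Complex.exp (2 * Real.pi * Complex.I / n)
  have hζm : ζ ∈ Alg := mem_alg_of_isIntegral
    (IsIntegral.of_pow (Nat.pos_of_ne_zero hn) (by rw [hζ.pow_eq_one]; exact isIntegral_one))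
  have h1 : IsPrimitiveRoot ((σ ⟨ζ, hζm⟩ : Alg) : ℂ) n := by
    have h2 : IsPrimitiveRoot (⟨ζ, hζm⟩ : Alg) n :=
      IsPrimitiveRoot.of_map_of_injective (f := Alg.val) hζ Subtype.val_injective
    exact (h2.map_of_injective σ.injective).map_of_injective (f := Alg.val) Subtype.val_injective
  obtain ⟨k, -, hk⟩ := hζ.eq_pow_of_pow_eq_one h1.pow_eq_one
  refine ⟨k, ?_, fun z hz hm => ?_⟩
  · rw [← hζ.pow_iff_coprime (Nat.pos_of_ne_zero hn), hk]
    exact h1
  · obtain ⟨i, -, rfl⟩ := hζ.eq_pow_of_pow_eq_one hz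
    rw [show (⟨ζ ^ i, hm⟩ : Alg) = (⟨ζ, hζm⟩ : Alg) ^ i from Subtype.ext (by simp), map_pow]
    push_cast
    rw [← hk, ← pow_mul, ← pow_mul, mul_comm]

/-- Galois automorphisms act on all character values by a common power map on the group. -/
theorem exists_exponent_char (σ : Alg ≃ₐ[ℚ] Alg) :
    ∃ k : ℕ, k.Coprime (Nat.card G) ∧ ∀ (χ : G → ℂ), Cfsg.IsCharacter G χ → ∀ (g : G)
      (hm : χ g ∈ Alg), ((σ ⟨χ g, hm⟩ : Alg) : ℂ) = χ (g ^ k) := by
  classical
  obtain ⟨k, hk, hσ⟩ := exists_exponent σ (n := Nat.card G) Nat.card_pos.ne'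
  refine ⟨k, hk, ?_⟩
  rintro χ ⟨n, ρ, rfl⟩ g hm
  obtain ⟨ι, hι, b, ζ, hb, -, hchar⟩ := Cfsg.Agent.Lib.Characters.Diag.exists_eigenbasis_card ρ g
  have hmem : ∀ i, ζ i ∈ Alg := fun i => mem_alg_of_isIntegral
    (IsIntegral.of_pow Nat.card_pos (by rw [(hb i).2]; exact isIntegral_one))
  have h1 : (⟨ρ.character g, hm⟩ : Alg) = ∑ i, (⟨ζ i, hmem i⟩ : Alg) := by
    apply Subtype.ext
    push_cast
    exact hchar
  have h2 : ∀ i, (ρ (g ^ k)) (b i) = ζ i ^ k • b i := by
    intro i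
    rw [map_pow]
    clear hk hσ
    induction k with
    | zero => simp
    | succ k ih => rw [pow_succ, Module.End.mul_apply, (hb i).1, map_smul, ih, smul_smul, pow_succ']
  rw [h1, map_sum]
  push_cast
  rw [show ρ.character (g ^ k) = ∑ i, ζ i ^ k from
    Cfsg.Agent.Lib.Characters.Diag.trace_eq_sum_eigenvalues b _ _ h2]
  exact Finset.sum_congr rfl fun i _ => hσ _ (hb i).2 (hmem i)

/-- An algebraic integer fixed by every automorphism is a rational integer. -/
theorem exists_int_of_fixed {z : ℂ} (hz : IsIntegral ℤ z)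
    (h : ∀ σ : Alg ≃ₐ[ℚ] Alg, ((σ ⟨z, mem_alg_of_isIntegral hz⟩ : Alg) : ℂ) = z) :
    ∃ m : ℤ, (m : ℂ) = z := by
  haveI : IsAlgClosure ℚ Alg := algebraicClosure.isAlgClosure ℚ ℂ
  haveI : IsGalois ℚ Alg := IsAlgClosure.isGalois ℚ Alg
  have h1 : (⟨z, mem_alg_of_isIntegral hz⟩ : Alg) ∈ Set.range (algebraMap ℚ Alg) :=
    (InfiniteGalois.mem_range_algebraMap_iff_fixed _).2 fun σ => Subtype.ext (h σ)
  obtain ⟨q, hq⟩ := h1
  have hq' : algebraMap ℚ ℂ q = z := congrArg Subtype.val hq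
  have h2 : IsIntegral ℤ q := by
    rw [← isIntegral_algebraMap_iff (algebraMap ℚ ℂ).injective, hq']
    exact hz
  obtain ⟨m, hm⟩ := IsIntegrallyClosed.isIntegral_iff.1 h2
  refine ⟨m, ?_⟩
  rw [← hq', ← hm]
  simp

/-- On a set closed under coprime powers where a character does not vanish, the sum of the
absolute squares is at least the cardinality. -/
theorem card_le_sum_normSq {χ : G → ℂ} (hχ : Cfsg.IsCharacter G χ) (S : Finset G)
    (hS : ∀ g ∈ S, ∀ k : ℕ, k.Coprime (Nat.card G) → g ^ k ∈ S) (hne : ∀ g ∈ S, χ g ≠ 0) :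
    (S.card : ℝ) ≤ ∑ g ∈ S, Complex.normSq (χ g) := by
  classical
  obtain ⟨n, ρ, hρ⟩ := id hχ
  have hint : ∀ g, IsIntegral ℤ (χ g) := fun g => hρ ▸
    Cfsg.Agent.Lib.Characters.Diag.isIntegral_char ρ g
  have hconj : ∀ g, conj (χ g) = χ g⁻¹ := fun g => hρ ▸
    (Cfsg.Agent.Lib.Characters.Diag.char_inv_eq_conj ρ g).symm
  let z : ℂ := ∏ g ∈ S, χ g * χ g⁻¹
  have hz : IsIntegral ℤ z := IsIntegral.prod _ fun g _ => (hint g).mul (hint g⁻¹)
  have hreal : z = ((∏ g ∈ S, Complex.normSq (χ g) : ℝ) : ℂ) := by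
    rw [Complex.ofReal_prod]
    refine Finset.prod_congr rfl fun g _ => ?_
    rw [← hconj, Complex.mul_conj]
  obtain ⟨m, hm⟩ := exists_int_of_fixed hz (by
    intro σ
    obtain ⟨k, hk, hσ⟩ := exists_exponent_char (G := G) σ
    have hmem : ∀ g, χ g ∈ Alg := fun g => mem_alg_of_isIntegral (hint g)
    have h1 : (⟨z, mem_alg_of_isIntegral hz⟩ : Alg) =
        ∏ g ∈ S, (⟨χ g, hmem g⟩ : Alg) * ⟨χ g⁻¹, hmem g⁻¹⟩ := by
      apply Subtype.ext
      push_cast
      rfl
    rw [h1, map_prod]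
    simp only [map_mul]
    push_cast
    simp only [hσ χ hχ, inv_pow]
    have hbij := powCoprime (G := G) hk.symm
    have hset : S.image (fun g => g ^ k) = S := by
      apply Finset.eq_of_subset_of_card_le
      · intro x hx
        obtain ⟨g, hg, rfl⟩ := Finset.mem_image.1 hx
        exact hS g hg k hk
      · rw [Finset.card_image_of_injective]
        intro a b hab
        exact (powCoprime (G := G) hk.symm).injective hab
    conv_rhs => rw [show z = ∏ g ∈ S, χ g * χ g⁻¹ from rfl, ← hset]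
    rw [Finset.prod_image]
    intro a _ b _ hab
    exact (powCoprime (G := G) hk.symm).injective hab)
  have hpos : ∀ g ∈ S, 0 < Complex.normSq (χ g) := fun g hg => Complex.normSq_pos.2 (hne g hg)
  have h1 : 1 ≤ ∏ g ∈ S, Complex.normSq (χ g) := by
    have hP : 0 < ∏ g ∈ S, Complex.normSq (χ g) := Finset.prod_pos hpos
    have hm' : (m : ℝ) = ∏ g ∈ S, Complex.normSq (χ g) := by
      have := hm.trans hreal
      exact_mod_cast this
    rw [← hm'] at hP ⊢
    have : (0 : ℤ) < m := by exact_mod_cast hP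
    exact_mod_cast this
  have h2 : (0 : ℝ) ≤ Real.log (∏ g ∈ S, Complex.normSq (χ g)) := Real.log_nonneg h1
  rw [Real.log_prod (fun g hg => (hpos g hg).ne')] at h2
  have h3 := h2.trans (Finset.sum_le_sum fun g hg => Real.log_le_sub_one_of_pos (hpos g hg))
  rw [Finset.sum_sub_distrib, Finset.sum_const, nsmul_one] at h3
  linarith

end Cfsg.Agent.Lib.BC78.Galois
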