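import Cfsg.Agent.Lib.Characters.Basic
import Cfsg.Agent.Lib.Induced.Character

/-!
# Elementary Clifford theory

Conjugates of characters of a normal subgroup, conjugacy of constituents of a restriction, and
restriction in the invariant case.
-/

namespace Cfsg.Agent.Lib.BC78.Clifford

open scoped ComplexConjugate
open Cfsg.Agent.Lib.Induced.Basic Cfsg.Agent.Lib.Characters.Basic

universe u

variable {G : Type u} [Group G] (N : Subgroup G) [hNn : N.Normal]

/-- The conjugate function `n ↦ θ (g n g⁻¹)`. -/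
def conjFun (θ : N → ℂ) (g : G) : N → ℂ := fun n => θ ⟨g * n * g⁻¹, hNn.conj_mem n n.2 g⟩

theorem conjFun_conjFun (θ : N → ℂ) (g h : G) :
    conjFun N (conjFun N θ g) h = conjFun N θ (g * h) := by
  funext n
  exact congrArg θ (Subtype.ext (by simp [mul_assoc]))

theorem conjFun_one (θ : N → ℂ) : conjFun N θ 1 = θ := by
  funext n
  exact congrArg θ (Subtype.ext (by simp))

theorem conjFun_mem {θ : N → ℂ} (hθ : Cfsg.IsClassFunction N θ) {g : G} (hg : g ∈ N) :
    conjFun N θ g = θ := by
  funext n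
  have h := hθ n ⟨g, hg⟩
  rw [← h]
  rfl

theorem isIrr_conjFun {θ : N → ℂ} (hθ : Cfsg.IsIrrCharacter N θ) (g : G) :
    Cfsg.IsIrrCharacter N (conjFun N θ g) :=
  isIrrCharacter_comp (MulAut.conjNormal g : MulAut N).toMonoidHom
    (MulAut.conjNormal g : MulAut N).surjective hθ

/-- The conjugate of an irreducible character. -/
def conjIrr (θ : Cfsg.IrrCharacter N) (g : G) : Cfsg.IrrCharacter N :=
  ⟨conjFun N θ g, isIrr_conjFun N θ.2 g⟩

theorem conjIrr_conjIrr (θ : Cfsg.IrrCharacter N) (g h : G) :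
    conjIrr N (conjIrr N θ g) h = conjIrr N θ (g * h) :=
  Subtype.ext (conjFun_conjFun N _ g h)

theorem conjIrr_one (θ : Cfsg.IrrCharacter N) : conjIrr N θ 1 = θ :=
  Subtype.ext (conjFun_one N _)

theorem conjIrr_mem (θ : Cfsg.IrrCharacter N) {g : G} (hg : g ∈ N) : conjIrr N θ g = θ :=
  Subtype.ext (conjFun_mem N (isClassFunction_irr θ) hg)

variable [Fintype G] [Fintype N]

theorem classInner_conjFun_left (θ : N → ℂ) (φ : G → ℂ) (hφ : Cfsg.IsClassFunction G φ) (g : G) :
    Cfsg.classInner (fun n : N => φ n) (conjFun N θ g) =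
      Cfsg.classInner (fun n : N => φ n) θ := by
  simp only [Cfsg.classInner]
  congr 1
  refine Fintype.sum_equiv (MulAut.conjNormal g : MulAut N).toEquiv _ _ fun n => ?_
  have h1 : ((MulAut.conjNormal g : MulAut N) n : G) = g * n * g⁻¹ := MulAut.conjNormal_apply g n
  simp only [MulEquiv.toEquiv_eq_coe, EquivLike.coe_coe]
  rw [h1, hφ]
  rfl

/-- Restriction of an induced function to a normal subgroup. -/
theorem indFun_restrict_normal (θ : N → ℂ) (n : N) :
    Cfsg.indFun N θ n = (Nat.card N : ℂ)⁻¹ * ∑ g : G, conjFun N θ g n := by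
  simp only [Cfsg.indFun]
  congr 1
  refine Fintype.sum_equiv (Equiv.inv G) _ _ fun x => ?_
  rw [Cfsg.Agent.Lib.Induced.Basic.extendByZero_of_mem N θ
    (by simpa using hNn.conj_mem n n.2 x⁻¹)]
  exact congrArg θ (Subtype.ext (by simp))

/-- The constituents of the restriction of an irreducible character are conjugate. -/
theorem exists_conj_eq (χ : Cfsg.IrrCharacter G) (θ θ' : Cfsg.IrrCharacter N)
    (h : Cfsg.classInner (fun n : N => (χ : G → ℂ) n) θ ≠ 0)
    (h' : Cfsg.classInner (fun n : N => (χ : G → ℂ) n) θ' ≠ 0) :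
    ∃ g : G, conjIrr N θ g = θ' := by
  classical
  by_contra hcon
  push Not at hcon
  have hInd : Cfsg.IsCharacter G (Cfsg.indFun N (θ : N → ℂ)) :=
    Cfsg.Agent.Lib.Induced.Character.isCharacter_indFun N (isCharacter_irr θ)
  have hzero : Cfsg.classInner (fun n : N => Cfsg.indFun N (θ : N → ℂ) n) θ' = 0 := by
    have e : (fun n : N => Cfsg.indFun N (θ : N → ℂ) n) =
        ∑ g : G, (Nat.card N : ℂ)⁻¹ • conjFun N (θ : N → ℂ) g := by
      funext n
      rw [indFun_restrict_normal, Finset.mul_sum, Finset.sum_apply]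
      rfl
    rw [e, classInner_sum_left]
    refine Finset.sum_eq_zero fun g _ => ?_
    rw [classInner_smul_left]
    have := classInner_irr_of_ne (hcon g)
    change (Nat.card N : ℂ)⁻¹ * Cfsg.classInner (conjIrr N θ g : N → ℂ) θ' = 0
    rw [this, mul_zero]
  -- the induced character decomposes into irreducibles with nonnegative multiplicities
  haveI := Fintype.ofFinite (Cfsg.IrrCharacter G)
  have hdec := character_eq_finsum hInd
  rw [finsum_eq_sum_of_fintype] at hdec
  have hres : (fun n : N => Cfsg.indFun N (θ : N → ℂ) n) =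
      ∑ ψ : Cfsg.IrrCharacter G,
        Cfsg.classInner (Cfsg.indFun N (θ : N → ℂ)) ψ • (fun n : N => (ψ : G → ℂ) n) := by
    funext n
    have := congrFun hdec (n : G)
    simpa [Finset.sum_apply] using this
  rw [hres, classInner_sum_left] at hzero
  simp only [classInner_smul_left] at hzero
  have hnat : ∀ ψ : Cfsg.IrrCharacter G, ∃ k : ℕ,
      Cfsg.classInner (Cfsg.indFun N (θ : N → ℂ)) ψ *
        Cfsg.classInner (fun n : N => (ψ : G → ℂ) n) θ' = k := by
    intro ψ
    obtain ⟨a, ha⟩ := exists_classInner_nat hInd (isCharacter_irr ψ)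
    obtain ⟨b, hb⟩ := exists_classInner_nat (G := N)
      (isCharacter_comp N.subtype (isCharacter_irr ψ)) (isCharacter_irr θ')
    exact ⟨a * b, by rw [ha]; change _ * Cfsg.classInner ((ψ : G → ℂ) ∘ N.subtype) θ' = _
                     rw [hb, Nat.cast_mul]⟩
  choose k hk using hnat
  simp only [hk] at hzero
  have hk0 : ∀ ψ, k ψ = 0 := by
    have : ∑ ψ, k ψ = 0 := by exact_mod_cast hzero
    exact fun ψ => (Finset.sum_eq_zero_iff.1 this) ψ (Finset.mem_univ _)
  have hc := hk χ
  rw [hk0 χ, Nat.cast_zero, mul_eq_zero] at hc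
  rcases hc with hc | hc
  · rw [frobenius_reciprocity N (θ : N → ℂ) (isClassFunction_irr χ)] at hc
    apply h
    rw [← classInner_conj_symm, hc, map_zero]
  · exact h' hc

/-- Every restriction has a constituent. -/
theorem exists_constituent (χ : Cfsg.IrrCharacter G) :
    ∃ θ : Cfsg.IrrCharacter N, Cfsg.classInner (fun n : N => (χ : G → ℂ) n) θ ≠ 0 := by
  by_contra hcon
  push Not at hcon
  have h := character_eq_finsum (isCharacter_comp (G := G) N.subtype (isCharacter_irr χ))
  have h0 : ∀ ψ : Cfsg.IrrCharacter N,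
      Cfsg.classInner ((χ : G → ℂ) ∘ N.subtype) (ψ : N → ℂ) = 0 := hcon
  simp only [h0, zero_smul, finsum_zero] at h
  exact apply_one_ne_zero χ (by simpa using congrFun h 1)

/-- Conjugates of a constituent are constituents. -/
theorem classInner_conjIrr (χ : Cfsg.IrrCharacter G) (θ : Cfsg.IrrCharacter N) (g : G) :
    Cfsg.classInner (fun n : N => (χ : G → ℂ) n) (conjIrr N θ g) =
      Cfsg.classInner (fun n : N => (χ : G → ℂ) n) θ :=
  classInner_conjFun_left N _ _ (isClassFunction_irr χ) g

/-- If the constituent is invariant then the restriction is a multiple of it. -/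
theorem restrict_eq_mul (χ : Cfsg.IrrCharacter G) (θ : Cfsg.IrrCharacter N)
    (hinv : ∀ g : G, conjIrr N θ g = θ)
    (h : Cfsg.classInner (fun n : N => (χ : G → ℂ) n) θ ≠ 0) :
    ∃ e : ℕ, e ≠ 0 ∧ Cfsg.classInner (fun n : N => (χ : G → ℂ) n) θ = e ∧
      ∀ n : N, (χ : G → ℂ) n = (e : ℂ) * (θ : N → ℂ) n := by
  have hχN : Cfsg.IsCharacter N (fun n : N => (χ : G → ℂ) n) :=
    isCharacter_comp N.subtype (isCharacter_irr χ)
  obtain ⟨e, he⟩ := exists_classInner_nat hχN (isCharacter_irr θ)
  refine ⟨e, fun h0 => h (by rw [he, h0, Nat.cast_zero]), he, fun n => ?_⟩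
  have hd := character_eq_finsum hχN
  rw [finsum_eq_single _ θ] at hd
  · have := congrFun hd n
    rw [this, he]
    rfl
  · intro ψ hψ
    by_cases h1 : Cfsg.classInner (fun n : N => (χ : G → ℂ) n) ψ = 0
    · rw [h1, zero_smul]
    · obtain ⟨g, hg⟩ := exists_conj_eq N χ θ ψ h h1
      exact absurd (hg.symm.trans (hinv g)) hψ

end Cfsg.Agent.Lib.BC78.Clifford
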