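import Cfsg.Agent.Lib.BC78.Clifford
import Cfsg.Agent.Lib.BrauerMap.Basic
import Cfsg.Agent.Lib.Blocks.LocalRing
import Cfsg.Agent.Lib.Characters.Complete
import Cfsg.Agent.Lib.Characters.Kernel
import Cfsg.Agent.Lib.Characters.Degree
import Cfsg.Agent.Lib.Clifford.Extension
import Mathlib.Data.ZMod.Basic
import Mathlib.Algebra.Field.ZMod

/-!
# Characters fixed by a p-subgroup

Congruences modulo `p` for characters of a normal subgroup under the conjugation action of a
`p`-subgroup, extension of fixed characters of `p`-prime degree, and kernels of constituents.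
-/

namespace Cfsg.Agent.Lib.BC78.CoprimeFix

open scoped ComplexConjugate
open Cfsg.Agent.Lib.Induced.Basic Cfsg.Agent.Lib.Characters.Basic Cfsg.Agent.Lib.BC78.Clifford

universe u

variable {G : Type u} [Group G]

/-- The natural degree of an irreducible character. -/
noncomputable def deg (χ : Cfsg.IrrCharacter G) : ℕ := Cfsg.charDegree (χ : G → ℂ)

theorem apply_one_eq_deg (χ : Cfsg.IrrCharacter G) : (χ : G → ℂ) 1 = (deg χ : ℂ) := by
  obtain ⟨n, -, h⟩ := exists_degree_pos χ
  rw [deg, Cfsg.charDegree, h]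
  simp

theorem deg_conjIrr (N : Subgroup G) [N.Normal] (θ : Cfsg.IrrCharacter N) (g : G) :
    deg (conjIrr N θ g) = deg θ := by
  have h : (conjIrr N θ g : N → ℂ) 1 = (θ : N → ℂ) 1 :=
    congrArg (θ : N → ℂ) (Subtype.ext (by simp))
  rw [deg, deg, Cfsg.charDegree, Cfsg.charDegree, h]

/-- Nonvanishing inner products are transitive through restriction along homomorphisms. -/
theorem inner_ne_zero_comp {H K : Type u} [Group H] [Group K] [Fintype H] [Fintype K] (f : K →* H)
    {χ : H → ℂ} (hχ : Cfsg.IsCharacter H χ) (ψ : Cfsg.IrrCharacter H) {φ : K → ℂ}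
    (hφ : Cfsg.IsCharacter K φ) (h1 : Cfsg.classInner χ ψ ≠ 0)
    (h2 : Cfsg.classInner ((ψ : H → ℂ) ∘ f) φ ≠ 0) : Cfsg.classInner (χ ∘ f) φ ≠ 0 := by
  classical
  haveI := Fintype.ofFinite (Cfsg.IrrCharacter H)
  have hd := character_eq_finsum hχ
  rw [finsum_eq_sum_of_fintype] at hd
  have e : χ ∘ f = ∑ η : Cfsg.IrrCharacter H, Cfsg.classInner χ η • ((η : H → ℂ) ∘ f) := by
    funext k
    have := congrFun hd (f k)
    simpa [Finset.sum_apply] using this
  rw [e, classInner_sum_left]
  simp only [classInner_smul_left]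
  have hnat : ∀ η : Cfsg.IrrCharacter H, ∃ n : ℕ,
      Cfsg.classInner χ η * Cfsg.classInner ((η : H → ℂ) ∘ f) φ = n := by
    intro η
    obtain ⟨a, ha⟩ := exists_classInner_nat hχ (isCharacter_irr η)
    obtain ⟨b, hb⟩ := exists_classInner_nat (isCharacter_comp f (isCharacter_irr η)) hφ
    exact ⟨a * b, by rw [ha, hb, Nat.cast_mul]⟩
  choose n hn using hnat
  simp only [hn]
  intro hzero
  have h0 : n ψ = 0 := Finset.sum_eq_zero_iff.1
    (by exact_mod_cast hzero : ∑ η, n η = 0) ψ (Finset.mem_univ _)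
  have := hn ψ
  rw [h0, Nat.cast_zero, mul_eq_zero] at this
  exact this.elim h1 h2

/-- If an element is in the kernel of a character, it is in the kernel of each constituent. -/
theorem constituent_ker [Fintype G] {χ : G → ℂ} (hχ : Cfsg.IsCharacter G χ)
    (ψ : Cfsg.IrrCharacter G) (h : Cfsg.classInner χ ψ ≠ 0) {g : G} (hg : χ g = χ 1) :
    (ψ : G → ℂ) g = (ψ : G → ℂ) 1 := by
  classical
  haveI := Fintype.ofFinite (Cfsg.IrrCharacter G)
  have hd := character_eq_finsum hχ
  rw [finsum_eq_sum_of_fintype] at hd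
  have h1 : ∑ η : Cfsg.IrrCharacter G,
      (Cfsg.classInner χ η * ((η : G → ℂ) 1 - (η : G → ℂ) g)).re = 0 := by
    rw [← Complex.re_sum]
    have e1 := congrFun hd g
    have e2 := congrFun hd 1
    simp only [Finset.sum_apply, Pi.smul_apply, smul_eq_mul] at e1 e2
    simp only [mul_sub, Finset.sum_sub_distrib]
    rw [← e1, ← e2, hg, sub_self, Complex.zero_re]
  have hnn : ∀ η : Cfsg.IrrCharacter G,
      0 ≤ (Cfsg.classInner χ η * ((η : G → ℂ) 1 - (η : G → ℂ) g)).re := by
    intro η
    obtain ⟨a, ha⟩ := exists_classInner_nat hχ (isCharacter_irr η)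
    rw [ha, Complex.mul_re, Complex.natCast_re, Complex.natCast_im, zero_mul, sub_zero]
    refine mul_nonneg (Nat.cast_nonneg a) ?_
    have h2 := norm_apply_le (isCharacter_irr η) g
    rw [apply_one_eq_deg, Complex.norm_natCast] at h2
    rw [Complex.sub_re, apply_one_eq_deg, Complex.natCast_re]
    linarith [Complex.re_le_norm ((η : G → ℂ) g)]
  have h3 := (Finset.sum_eq_zero_iff_of_nonneg fun η _ => hnn η).1 h1 ψ (Finset.mem_univ _)
  obtain ⟨a, ha⟩ := exists_classInner_nat hχ (isCharacter_irr ψ)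
  rw [ha] at h h3
  rw [Complex.mul_re, Complex.natCast_re, Complex.natCast_im, zero_mul, sub_zero,
    mul_eq_zero] at h3
  rcases h3 with h3 | h3
  · exact absurd (by exact_mod_cast h3 : a = 0) (fun h0 => h (by rw [h0, Nat.cast_zero]))
  · have h2 := norm_apply_le (isCharacter_irr ψ) g
    rw [apply_one_eq_deg, Complex.norm_natCast] at h2
    rw [Complex.sub_re, apply_one_eq_deg, Complex.natCast_re, sub_eq_zero] at h3
    have h4 : ‖(ψ : G → ℂ) g‖ = ((ψ : G → ℂ) g).re :=
      le_antisymm (h3 ▸ h2) (Complex.re_le_norm _)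
    rw [apply_one_eq_deg]
    apply Complex.ext
    · rw [Complex.natCast_re, h3]
    · rw [Complex.natCast_im]
      have h5 := Complex.norm_mul_self_eq_normSq ((ψ : G → ℂ) g)
      rw [h4, Complex.normSq_apply] at h5
      exact mul_self_eq_zero.1 (by linarith)

/-- A character with degree prime to `p` has an irreducible constituent of degree prime to `p`. -/
theorem exists_constituent_not_dvd [Fintype G] {χ : G → ℂ} (hχ : Cfsg.IsCharacter G χ) {p n : ℕ}
    (hn : χ 1 = n) (hp : ¬ p ∣ n) :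
    ∃ ψ : Cfsg.IrrCharacter G, Cfsg.classInner χ ψ ≠ 0 ∧ ¬ p ∣ deg ψ := by
  classical
  haveI := Fintype.ofFinite (Cfsg.IrrCharacter G)
  have hd := character_eq_finsum hχ
  rw [finsum_eq_sum_of_fintype] at hd
  choose a ha using fun η => exists_classInner_nat hχ (isCharacter_irr (G := G) η)
  have h1 : n = ∑ η, a η * deg η := by
    have := congrFun hd 1
    simp only [Finset.sum_apply, Pi.smul_apply, smul_eq_mul, hn, apply_one_eq_deg, ha] at this
    exact_mod_cast this
  by_contra hcon
  push Not at hcon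
  apply hp
  rw [h1]
  refine Finset.dvd_sum fun η _ => ?_
  by_cases h0 : Cfsg.classInner χ η = 0
  · rw [ha] at h0
    have : a η = 0 := by exact_mod_cast h0
    simp [this]
  · exact Dvd.dvd.mul_left (hcon η h0) _

section action

variable (N : Subgroup G) [hNn : N.Normal] (P : Subgroup G)

/-- A character of `N` fixed by `P`. -/
def IsFixed (θ : Cfsg.IrrCharacter N) : Prop := ∀ u ∈ P, conjIrr N θ u = θ

variable [Fintype G] [Fintype N] {p : ℕ} [hp : Fact p.Prime] (hP : IsPGroup p P)
include hP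

/-- Sums of conjugation invariant functions on irreducible characters modulo `p`. -/
theorem sum_irr_fixed [Fintype (Cfsg.IrrCharacter N)] {k : Type*} [CommRing k] [CharP k p]
    (f : Cfsg.IrrCharacter N → k) (hf : ∀ u ∈ P, ∀ θ, f (conjIrr N θ u) = f θ)
    [DecidablePred (IsFixed N P)] :
    ∑ θ, f θ = ∑ θ with IsFixed N P θ, f θ := by
  classical
  letI : MulAction P (Cfsg.IrrCharacter N) :=
    { smul := fun u θ => conjIrr N θ (u : G)⁻¹
      one_smul := fun θ => by
        change conjIrr N θ ((1 : P) : G)⁻¹ = θ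
        simp [conjIrr_one]
      mul_smul := fun a b θ => by
        change conjIrr N θ ((a * b : P) : G)⁻¹ = conjIrr N (conjIrr N θ (b : G)⁻¹) (a : G)⁻¹
        rw [conjIrr_conjIrr, Subgroup.coe_mul, mul_inv_rev] }
  rw [Cfsg.Agent.Lib.BrauerMap.Basic.sum_eq_sum_fixed hP f
    (fun u θ => hf _ (inv_mem u.2) θ)]
  refine Finset.sum_congr (Finset.filter_congr fun θ _ => ?_) fun _ _ => rfl
  exact ⟨fun h u hu => by
    have h' : conjIrr N θ (u⁻¹)⁻¹ = θ := h ⟨u⁻¹, inv_mem hu⟩
    rwa [inv_inv] at h', fun h u => h _ (inv_mem u.2)⟩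

/-- An irreducible character of degree prime to `p` has a fixed constituent on a normal subgroup
of degree prime to `p`. -/
theorem exists_fixed_constituent (χ : Cfsg.IrrCharacter G) (hχ : ¬ p ∣ deg χ) :
    ∃ θ : Cfsg.IrrCharacter N, IsFixed N P θ ∧ ¬ p ∣ deg θ ∧
      Cfsg.classInner (fun n : N => (χ : G → ℂ) n) θ ≠ 0 := by
  classical
  haveI := Fintype.ofFinite (Cfsg.IrrCharacter N)
  have hc : Cfsg.IsCharacter N (fun n : N => (χ : G → ℂ) n) :=
    isCharacter_comp N.subtype (isCharacter_irr χ)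
  choose a ha using fun η => exists_classInner_nat hc (isCharacter_irr (G := N) η)
  have h1 : deg χ = ∑ η, a η * deg η := by
    have := congrFun (character_eq_finsum hc) 1
    rw [finsum_eq_sum_of_fintype] at this
    simp only [Finset.sum_apply, Pi.smul_apply, smul_eq_mul, apply_one_eq_deg, ha,
      Subgroup.coe_one] at this
    exact_mod_cast this
  have hinv : ∀ u ∈ P, ∀ η, ((a (conjIrr N η u) * deg (conjIrr N η u) : ℕ) : ZMod p) =
      ((a η * deg η : ℕ) : ZMod p) := by
    intro u _ η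
    have h : (a (conjIrr N η u) : ℂ) = a η := by rw [← ha, ← ha, classInner_conjIrr]
    rw [deg_conjIrr, show a (conjIrr N η u) = a η by exact_mod_cast h]
  have h2 := sum_irr_fixed N P hP (fun η => ((a η * deg η : ℕ) : ZMod p)) hinv
  rw [← Nat.cast_sum, ← h1] at h2
  have h3 : ∑ η with IsFixed N P η, ((a η * deg η : ℕ) : ZMod p) ≠ 0 := by
    rw [← h2]
    exact fun h => hχ ((ZMod.natCast_eq_zero_iff _ _).1 h)
  obtain ⟨θ, hθ, hθ0⟩ := Finset.exists_ne_zero_of_sum_ne_zero h3
  refine ⟨θ, (Finset.mem_filter.1 hθ).2, fun h => hθ0 ?_, fun h => hθ0 ?_⟩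
  · exact (ZMod.natCast_eq_zero_iff _ _).2 (dvd_mul_of_dvd_right h _)
  · have : a θ = 0 := by
      have h' := ha θ
      rw [h] at h'
      exact_mod_cast h'.symm
    simp [this]

/-- A residue map from the algebraic integers to a ring of characteristic `p`. -/
theorem exists_residue : ∃ M : Ideal Cfsg.AlgInt, M.IsMaximal ∧ CharP (Cfsg.AlgInt ⧸ M) p := by
  obtain ⟨M, hM⟩ := Cfsg.Agent.Lib.Blocks.exists_isPModular p hp.out
  haveI := hM.2.1
  exact ⟨M, hM.2.1, Cfsg.Agent.Lib.Blocks.charP_residue hM⟩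

/-- If no nontrivial element of `N` centralizes `P`, the only fixed character of degree prime to
`p` is the trivial one. -/
theorem fixed_eq_one (hC : N ⊓ Subgroup.centralizer (P : Set G) = ⊥) (θ : Cfsg.IrrCharacter N)
    (hfix : IsFixed N P θ) (hdeg : ¬ p ∣ deg θ) : θ = oneChar N := by
  classical
  obtain ⟨M, hM, hch⟩ := exists_residue (p := p) (G := G) P hP
  haveI := hM
  by_contra hne
  apply hdeg
  have hint : ∀ n : N, IsIntegral ℤ ((θ : N → ℂ) n) := isIntegral_apply (isCharacter_irr θ)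
  have h0 : ∑ n : N, (⟨(θ : N → ℂ) n, hint n⟩ : Cfsg.AlgInt) = 0 := by
    apply Subtype.ext
    push_cast
    have h := classInner_irr_of_ne hne
    simp only [Cfsg.classInner, oneChar_apply, map_one, mul_one, mul_eq_zero, inv_eq_zero,
      Nat.cast_eq_zero, Nat.card_pos.ne', false_or] at h
    exact h
  letI : MulAction P N := MulAction.compHom N ((MulAut.conjNormal (H := N)).comp P.subtype)
  have hsmul : ∀ (u : P) (n : N), ((u • n : N) : G) = u * n * (u : G)⁻¹ := fun u n =>
    MulAut.conjNormal_apply (u : G) n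
  let f : N → Cfsg.AlgInt ⧸ M := fun n => Ideal.Quotient.mk M ⟨(θ : N → ℂ) n, hint n⟩
  have h1 := Cfsg.Agent.Lib.BrauerMap.Basic.sum_eq_sum_fixed hP f (fun u n => by
    refine congrArg (Ideal.Quotient.mk M) (Subtype.ext ?_)
    exact (congrArg (θ : N → ℂ) (Subtype.ext (hsmul u n))).trans
      (congrFun (congrArg Subtype.val (hfix u u.2)) n))
  simp only [f] at h1
  rw [← map_sum, h0, map_zero, Finset.sum_eq_single 1] at h1
  · have h2 : (⟨(θ : N → ℂ) 1, hint 1⟩ : Cfsg.AlgInt) = (deg θ : Cfsg.AlgInt) := by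
      apply Subtype.ext
      push_cast
      exact apply_one_eq_deg θ
    rw [h2, map_natCast] at h1
    exact (CharP.cast_eq_zero_iff (Cfsg.AlgInt ⧸ M) p _).1 h1.symm
  · intro n hn hn1
    exfalso
    apply hn1
    have hfixn := (Finset.mem_filter.1 hn).2
    have : (n : G) ∈ N ⊓ Subgroup.centralizer (P : Set G) :=
      ⟨n.2, Subgroup.mem_centralizer_iff.2 fun u hu => by
        have h := congrArg Subtype.val (hfixn ⟨u, hu⟩)
        rw [hsmul] at h
        exact mul_inv_eq_iff_eq_mul.1 h⟩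
    rw [hC, Subgroup.mem_bot] at this
    exact Subtype.ext this
  · intro h
    exfalso
    exact h (Finset.mem_filter.2 ⟨Finset.mem_univ _, fun u => Subtype.ext (by rw [hsmul]; simp)⟩)

/-- If a nontrivial element of `N` centralizes `P`, some nontrivial fixed character of `N` has
degree prime to `p`. -/
theorem exists_fixed_ne_one {c : N} (hc : c ≠ 1)
    (hcP : (c : G) ∈ Subgroup.centralizer (P : Set G)) :
    ∃ θ : Cfsg.IrrCharacter N, IsFixed N P θ ∧ ¬ p ∣ deg θ ∧ θ ≠ oneChar N := by
  classical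
  obtain ⟨M, hM, hch⟩ := exists_residue (p := p) (G := G) P hP
  haveI := hM
  haveI := Fintype.ofFinite (Cfsg.IrrCharacter N)
  by_contra hcon
  push Not at hcon
  have hint : ∀ θ : Cfsg.IrrCharacter N, IsIntegral ℤ ((θ : N → ℂ) c) := fun θ =>
    isIntegral_apply (isCharacter_irr θ) c
  let z : Cfsg.IrrCharacter N → Cfsg.AlgInt := fun θ => (deg θ : Cfsg.AlgInt) * ⟨_, hint θ⟩
  have h0 : ∑ θ, z θ = 0 := by
    apply Subtype.ext
    simp only [z]
    push_cast
    have h := Cfsg.Agent.Lib.Characters.Complete.sum_degree_mul_apply (G := N) c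
    rw [if_neg hc] at h
    simpa [apply_one_eq_deg] using h
  have h1 := sum_irr_fixed N P hP (fun θ => Ideal.Quotient.mk M (z θ)) (fun u hu θ => by
    simp only [z, deg_conjIrr]
    refine congrArg (fun a => Ideal.Quotient.mk M ((deg θ : Cfsg.AlgInt) * a)) (Subtype.ext ?_)
    change (θ : N → ℂ) _ = (θ : N → ℂ) c
    refine congrArg (θ : N → ℂ) (Subtype.ext ?_)
    change u * (c : G) * u⁻¹ = c
    rw [mul_inv_eq_iff_eq_mul]
    exact Subgroup.mem_centralizer_iff.1 hcP u hu)
  rw [← map_sum, h0, map_zero, Finset.sum_eq_single (oneChar N)] at h1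
  · have h2 : deg (oneChar N) = 1 := by
      have h := apply_one_eq_deg (oneChar N)
      rw [oneChar_apply] at h
      exact_mod_cast h.symm
    have h3 : z (oneChar N) = 1 := by
      apply Subtype.ext
      simp only [z, h2]
      push_cast
      rw [oneChar_apply, one_mul]
    rw [h3, map_one] at h1
    exact zero_ne_one h1
  · intro θ hθ hne
    simp only [z]
    rw [map_mul, map_natCast]
    have : p ∣ deg θ := by
      by_contra hnd
      exact hne (hcon θ (Finset.mem_filter.1 hθ).2 hnd)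
    rw [(CharP.cast_eq_zero_iff (Cfsg.AlgInt ⧸ M) p _).2 this, zero_mul]
  · intro h
    exfalso
    apply h
    refine Finset.mem_filter.2 ⟨Finset.mem_univ _, fun u _ => Subtype.ext ?_⟩
    funext n
    rfl

end action

/-- A character of `p`-prime degree fixed by a supplementing subgroup extends to the whole group
when the index is a power of `p` and `N` has order prime to `p`. -/
theorem exists_extension [Fintype G] (N : Subgroup G) [hNn : N.Normal] {p m : ℕ}
    [hp : Fact p.Prime] (hidx : N.index = p ^ m) (hcard : ¬ p ∣ Nat.card N)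
    (θ : Cfsg.IrrCharacter N) (hinv : ∀ g : G, conjIrr N θ g = θ) (hdeg : ¬ p ∣ deg θ) :
    ∃ η : Cfsg.IrrCharacter G, ∀ n : N, (η : G → ℂ) n = (θ : N → ℂ) n := by
  have hcop : ∀ {d : ℕ}, ¬ p ∣ d → Nat.Coprime N.index d := fun {d} hd => by
    rw [hidx]
    exact Nat.Coprime.pow_left m (hp.out.coprime_iff_not_dvd.2 hd)
  have hinv' : ∀ (g : G) (n : N),
      (θ : N → ℂ) ⟨g * n * g⁻¹, hNn.conj_mem n n.2 g⟩ = (θ : N → ℂ) n := fun g n =>
    congrFun (congrArg Subtype.val (hinv g)) n
  obtain ⟨lam, hlam⟩ := Cfsg.Agent.Lib.Clifford.Extension.exists_detHom θ.2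
  have hlaminv : ∀ (g : G) (n : N), lam ⟨g * n * g⁻¹, hNn.conj_mem n n.2 g⟩ = lam n := by
    intro g n
    apply Units.ext
    have h1 := fun x : N => congrFun hlam x
    obtain ⟨k, ρ, hρ, hρθ⟩ := exists_rep θ
    haveI := hρ
    change Cfsg.Agent.Lib.Clifford.Linear.toFunHom lam _ =
      Cfsg.Agent.Lib.Clifford.Linear.toFunHom lam _
    rw [h1, h1, ← hρθ, Cfsg.Agent.Lib.Clifford.Rep.detChar_eq ρ]
    exact Cfsg.Agent.Lib.Clifford.Rep.det_eq_of_char ρ
      (Cfsg.Agent.Lib.Clifford.Extension.conjRep N ρ g)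
      (funext fun x => by
        change ρ.character _ = ρ.character x
        rw [hρθ]
        exact hinv' g x) n
  have hord : Nat.Coprime N.index (orderOf lam) := by
    refine hcop fun h => hcard (h.trans ?_)
    apply orderOf_dvd_of_pow_eq_one
    ext x
    rw [MonoidHom.pow_apply, ← map_pow, pow_card_eq_one', map_one, MonoidHom.one_apply]
  obtain ⟨μ, hμ, -⟩ := Cfsg.Agent.Lib.Clifford.Linear.exists_coprime_extension N lam hlaminv hord
  obtain ⟨χ, hχ, hres, -⟩ := Cfsg.Agent.Lib.Clifford.Extension.exists_extension_char N θ.2 hinv'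
    (apply_one_eq_deg θ) (hcop hdeg) μ (fun n => by rw [hμ]; exact congrFun hlam n)
  exact ⟨⟨χ, hχ⟩, hres⟩

end Cfsg.Agent.Lib.BC78.CoprimeFix
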