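import Cfsg.Prelude.Def_Blocks
import Mathlib.LinearAlgebra.Eigenspace.Charpoly
import Mathlib.RingTheory.IntegralClosure.IsIntegralClosure.Basic
import Mathlib.Analysis.Complex.Polynomial.Basic
import Mathlib.NumberTheory.NumberField.Basic

/-!
# Character values as sums of roots of unity
-/

namespace Cfsg.Agent.Lib.BC78.Roots

universe u

variable {G : Type u} [Group G]

/-- The value of a character at `g` is a sum of `charDegree` many roots of unity of exponent any
`m` killing `g`. -/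
theorem exists_roots {χ : G → ℂ} (hχ : Cfsg.IsCharacter G χ) (g : G) {m : ℕ} (hm : g ^ m = 1) :
    ∃ s : Multiset ℂ, Multiset.card s = Cfsg.charDegree χ ∧ χ g = s.sum ∧ ∀ z ∈ s, z ^ m = 1 := by
  obtain ⟨n, ρ, rfl⟩ := hχ
  have hsp : (ρ g).charpoly.Splits := IsAlgClosed.splits _
  refine ⟨(ρ g).charpoly.roots, ?_,
    Module.End.trace_eq_sum_roots_charpoly_of_splits hsp, fun z hz => ?_⟩
  · rw [← hsp.natDegree_eq_card_roots, LinearMap.charpoly_natDegree]
    simp [Cfsg.charDegree]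
  · have hroot : (ρ g).charpoly.IsRoot z := Polynomial.isRoot_of_mem_roots hz
    have hev : Module.End.HasEigenvalue (ρ g) z :=
      Module.End.hasEigenvalue_iff_isRoot_charpoly _ _ |>.2 hroot
    obtain ⟨v, hv⟩ := hev.exists_hasEigenvector
    have h1 : ((ρ g) ^ m) v = z ^ m • v := hv.pow_apply m
    rw [← map_pow, hm, map_one] at h1
    have h2 : (1 : ℂ) • v = z ^ m • v := by simpa using h1
    exact (smul_left_injective ℂ hv.2 h2).symm

theorem charDegree_cast {χ : G → ℂ} (hχ : Cfsg.IsCharacter G χ) :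
    (Cfsg.charDegree χ : ℂ) = χ 1 := by
  obtain ⟨n, ρ, rfl⟩ := hχ
  simp [Cfsg.charDegree]

theorem isIntegral_of_pow_eq_one {z : ℂ} {m : ℕ} (hm : m ≠ 0) (h : z ^ m = 1) :
    IsIntegral ℤ z := by
  apply IsIntegral.of_pow (Nat.pos_of_ne_zero hm)
  rw [h]
  exact isIntegral_one

theorem isIntegral_char [Finite G] {χ : G → ℂ} (hχ : Cfsg.IsCharacter G χ) (g : G) :
    IsIntegral ℤ (χ g) := by
  obtain ⟨s, -, hs, hpow⟩ := exists_roots hχ g (pow_orderOf_eq_one g)
  rw [hs]
  exact IsIntegral.multiset_sum fun z hz =>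
    isIntegral_of_pow_eq_one (orderOf_pos g).ne' (hpow z hz)

/-- In a residue ring of characteristic `p` a character agrees with its degree at `p`-elements. -/
theorem char_eq_degree_mod {χ : G → ℂ} (hχ : Cfsg.IsCharacter G χ) (g : G) {p j : ℕ}
    [Fact p.Prime] (hg : g ^ p ^ j = 1) {k : Type*} [CommRing k] [IsDomain k] [CharP k p]
    (f : Cfsg.AlgInt →+* k) (hint : IsIntegral ℤ (χ g)) :
    f ⟨χ g, hint⟩ = (Cfsg.charDegree χ : k) := by
  obtain ⟨s, hcard, hs, hpow⟩ := exists_roots hχ g hg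
  have hz : ∀ z ∈ s, IsIntegral ℤ z := fun z hz =>
    isIntegral_of_pow_eq_one (pow_ne_zero _ (Fact.out : p.Prime).ne_zero) (hpow z hz)
  let t : Multiset Cfsg.AlgInt := s.attach.map fun z => ⟨z.1, hz z.1 z.2⟩
  have ht : (⟨χ g, hint⟩ : Cfsg.AlgInt) = t.sum := by
    apply Subtype.ext
    rw [AddSubmonoidClass.coe_multiset_sum, Multiset.map_map]
    simp only [Function.comp_apply]
    rw [Multiset.attach_map_val]
    exact hs
  have h1 : ∀ y ∈ t.map f, y = 1 := by
    intro y hy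
    obtain ⟨a, ha, rfl⟩ := Multiset.mem_map.1 hy
    obtain ⟨z, -, rfl⟩ := Multiset.mem_map.1 ha
    have h2 : f ⟨z.1, hz z.1 z.2⟩ ^ p ^ j = 1 := by
      rw [← map_pow, ← map_one f]
      congr 1
      exact Subtype.ext (by simpa using hpow z.1 z.2)
    have h3 : (f ⟨z.1, hz z.1 z.2⟩ - 1) ^ p ^ j = 0 := by
      rw [sub_pow_char_pow, h2, one_pow, sub_self]
    exact sub_eq_zero.1 (eq_zero_of_pow_eq_zero h3)
  rw [ht, map_multiset_sum, Multiset.eq_replicate_card.2 h1, Multiset.sum_replicate, nsmul_one]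
  simp [t, hcard]

end Cfsg.Agent.Lib.BC78.Roots
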