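import Cfsg.Agent.Lib.Blocks.SecondMain
import Cfsg.Agent.Lib.Blocks.DefectGroup

/-!
# Blocks are determined at regular classes of full defect

Two characters lie in the same block as soon as their central characters agree modulo the maximal
ideal wherever the idempotent of one of the blocks is a unit.
-/

set_option autoImplicit false

namespace Cfsg.Agent.Lib.BC78.RegClasses

open MonoidAlgebra
open Cfsg.Agent.Lib.Blocks

universe u

variable {G : Type u} [Group G] [Finite G] {p : ℕ} {M : Ideal Cfsg.AlgInt} [M.IsMaximal]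

/-- Agreement on the support of the idempotent gives the same block. -/
theorem sameBlock_of_support (χ ψ : Cfsg.IrrCharacter G)
    (h : ∀ g : G, ¬ Cfsg.MemLocalIdeal M (Cfsg.blockCoeff (Cfsg.blockOf M (χ : G → ℂ)) g) →
      Cfsg.MemLocalIdeal M (Cfsg.centralChar (χ : G → ℂ) g - Cfsg.centralChar (ψ : G → ℂ) g)) :
    Cfsg.SameBlock M (χ : G → ℂ) (ψ : G → ℂ) := by
  classical
  haveI : Finite (ConjClasses G) := Quotient.finite _
  haveI := Fintype.ofFinite (ConjClasses G)
  set B := Cfsg.blockOf M (χ : G → ℂ)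
  have hB : Cfsg.IsPBlock M B := isPBlock_blockOf χ
  set e := blockIdemR hB with he
  have hex : ∀ φ : Cfsg.IrrCharacter G, (omegaR M φ e : ℂ) =
      ∑ c : ConjClasses G, Cfsg.blockCoeff B c.out * Cfsg.centralChar (φ : G → ℂ) c.out := by
    intro φ
    rw [coe_omegaR, omega_eq_sum]
    refine Finset.sum_congr rfl fun c _ => ?_
    congr 1
  have hd : Cfsg.MemLocalIdeal M ((omegaR M χ e : ℂ) - omegaR M ψ e) := by
    rw [hex, hex, ← Finset.sum_sub_distrib]
    refine memLocalIdeal_sum _ fun c _ => ?_
    rw [← mul_sub]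
    by_cases hc : Cfsg.MemLocalIdeal M (Cfsg.blockCoeff B c.out)
    · exact memLocalIdeal_mul_right hc
        (sub_mem (centralChar_mem_localRing χ _) (centralChar_mem_localRing ψ _))
    · exact memLocalIdeal_mul_left (memLocalRing_blockCoeff hB _) (h _ hc)
  have hres : residue M (omegaR M χ e) = residue M (omegaR M ψ e) :=
    memLocalIdeal_sub_iff.mp hd
  rw [← omegaBar_mapCenter, ← omegaBar_mapCenter] at hres
  change omegaBar M χ (blockIdemBar hB) = omegaBar M ψ (blockIdemBar hB) at hres
  rw [omegaBar_blockIdemBar, omegaBar_blockIdemBar, if_pos (mem_blockOf_self χ)] at hres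
  by_contra hne
  rw [if_neg (show ψ ∉ B from hne)] at hres
  exact one_ne_zero hres

variable [hp : Fact p.Prime] (hM : Cfsg.IsPModular p M)

include hM in
/-- A Sylow subgroup of the centralizer at a unit coefficient has order at most the defect. -/
theorem factorization_le {B : Set (Cfsg.IrrCharacter G)} (hB : Cfsg.IsPBlock M B) {h : G}
    (hh : ¬ Cfsg.MemLocalIdeal M (Cfsg.blockCoeff B h)) :
    (Nat.card (Subgroup.centralizer ({h} : Set G))).factorization p ≤ Cfsg.blockDefect p B := by
  obtain ⟨D, hD⟩ := exists_isDefectGroup (p := p) hB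
  let P : Sylow p (Subgroup.centralizer ({h} : Set G)) := default
  obtain ⟨x, hx⟩ := exists_conj_le_isDefectGroup hM hB hD hh
    (P.2.map (Subgroup.centralizer ({h} : Set G)).subtype) (Subgroup.map_subtype_le _)
  have hc := Subgroup.card_le_of_le hx
  rw [card_map_conj, card_isDefectGroup hM hB hD, Nat.card_congr
    ((P : Subgroup (Subgroup.centralizer ({h} : Set G))).equivMapOfInjective _
      (Subgroup.centralizer ({h} : Set G)).subtype_injective).symm.toEquiv,
    P.card_eq_multiplicity] at hc
  exact (Nat.pow_le_pow_iff_right hp.out.one_lt).1 hc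

include hM in
/-- A nonzero central character forces a centralizer of order at least the defect. -/
theorem le_factorization {B : Set (Cfsg.IrrCharacter G)} (hB : Cfsg.IsPBlock M B) {h : G}
    {χ : Cfsg.IrrCharacter G} (hχ : χ ∈ B)
    (hh : ¬ Cfsg.MemLocalIdeal M (Cfsg.centralChar (χ : G → ℂ) h)) :
    Cfsg.blockDefect p B ≤ (Nat.card (Subgroup.centralizer ({h} : Set G))).factorization p := by
  obtain ⟨D, hD⟩ := exists_isDefectGroup (p := p) hB
  obtain ⟨g, hg, Q, rfl⟩ := id hD
  let P : Sylow p (Subgroup.centralizer ({h} : Set G)) := default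
  obtain ⟨x, hx⟩ := exists_conj_le_of_blockCoeff hM hB ⟨χ, hχ, hh⟩ P hg.2.1
    (Q.2.map (Subgroup.centralizer ({g} : Set G)).subtype) (Subgroup.map_subtype_le _)
  have hc := Subgroup.card_le_of_le hx
  rw [card_map_conj, card_isDefectGroup hM hB hD, Nat.card_congr
    ((P : Subgroup (Subgroup.centralizer ({h} : Set G))).equivMapOfInjective _
      (Subgroup.centralizer ({h} : Set G)).subtype_injective).symm.toEquiv,
    P.card_eq_multiplicity] at hc
  exact (Nat.pow_le_pow_iff_right hp.out.one_lt).1 hc

include hM in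
/-- Agreement on regular classes gives the same block. -/
theorem sameBlock_of_regular (χ ψ : Cfsg.IrrCharacter G)
    (h : ∀ g : G, ¬ p ∣ orderOf g →
      Cfsg.MemLocalIdeal M (Cfsg.centralChar (χ : G → ℂ) g - Cfsg.centralChar (ψ : G → ℂ) g)) :
    Cfsg.SameBlock M (χ : G → ℂ) (ψ : G → ℂ) :=
  sameBlock_of_support χ ψ fun g hg => h g fun hd =>
    hg (blockCoeff_eq_zero_of_dvd hM (isPBlock_blockOf χ) hd ▸ memLocalIdeal_zero)

end Cfsg.Agent.Lib.BC78.RegClasses
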