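import Cfsg.Prelude.Def_Characters
import Mathlib.RepresentationTheory.Character
import Mathlib.GroupTheory.Subgroup.Center
import Mathlib.Analysis.Complex.Polynomial.Basic

/-!
# Irreducible characters and central elements
-/

namespace Cfsg.Agent.Lib.BC78.Central

open scoped ComplexConjugate

universe u

variable {G : Type u} [Group G]

theorem scalar_of_mem_center {n : ℕ} (ρ : Representation ℂ G (Fin n → ℂ)) (hρ : ρ.IsIrreducible)
    {z : G} (hz : z ∈ Subgroup.center G) : ∃ c : ℂ, ρ z = c • LinearMap.id := by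
  haveI := hρ
  let f : Representation.IntertwiningMap ρ ρ := ⟨ρ z, fun g => by
    change ρ z * ρ g = ρ g * ρ z
    rw [← map_mul, ← map_mul, Subgroup.mem_center_iff.1 hz g]⟩
  obtain ⟨c, hc⟩ :=
    (Representation.IsIrreducible.algebraMap_intertwiningMap_bijective_of_isAlgClosed (ρ := ρ)).2 f
  refine ⟨c, ?_⟩
  have h := congrArg Representation.IntertwiningMap.toLinearMap hc
  rw [show ρ z = f.toLinearMap from rfl, ← h]
  rfl

theorem irr_degree_ne_zero {χ : G → ℂ} (hχ : Cfsg.IsIrrCharacter G χ) : χ 1 ≠ 0 := by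
  obtain ⟨n, ρ, hρ, rfl⟩ := hχ
  haveI := hρ
  rw [Representation.char_one, Nat.cast_ne_zero, Module.finrank_fin_fun]
  rintro rfl
  obtain ⟨a, b, hab⟩ := (IsSimpleOrder.toNontrivial : Nontrivial (Subrepresentation ρ)).exists_pair_ne
  exact hab (Subrepresentation.toSubmodule_injective (Subsingleton.elim _ _))

theorem char_mul_central {χ : G → ℂ} (hχ : Cfsg.IsIrrCharacter G χ) {z : G}
    (hz : z ∈ Subgroup.center G) (g : G) : χ (z * g) = χ z / χ 1 * χ g := by
  have hne := irr_degree_ne_zero hχ
  obtain ⟨n, ρ, hρ, rfl⟩ := hχ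
  obtain ⟨c, hc⟩ := scalar_of_mem_center ρ hρ hz
  have h : ∀ y, ρ.character (z * y) = c * ρ.character y := by
    intro y
    simp only [Representation.character, map_mul, hc]
    rw [show (c • LinearMap.id : Module.End ℂ (Fin n → ℂ)) * ρ y = c • ρ y from by
      ext v; simp, map_smul, smul_eq_mul]
  have h1 := h 1
  rw [mul_one] at h1
  rw [h g, h1]
  field_simp

theorem irr_of_comm_degree (hG : ∀ a b : G, a * b = b * a) {ψ : G → ℂ}
    (hψ : Cfsg.IsIrrCharacter G ψ) : ψ 1 = 1 := by
  obtain ⟨n, ρ, hρ, rfl⟩ := hψ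
  haveI := hρ
  haveI : IsMulCommutative G := ⟨⟨hG⟩⟩
  rw [Representation.char_one, Representation.IsIrreducible.finrank_eq_one_of_isMulCommutative ρ,
    Nat.cast_one]

/-- A central subgroup `N`: an irreducible constituent of the restriction is the scalar function,
and the character transforms by it. -/
theorem char_mul_of_over [Fintype G] {χ : G → ℂ} (hχ : Cfsg.IsIrrCharacter G χ) (N : Subgroup G)
    [Fintype N] (hN : N ≤ Subgroup.center G) {ψ : N → ℂ} (hψ : Cfsg.IsIrrCharacter N ψ)
    (hover : Cfsg.classInner (fun n : N => χ n) ψ ≠ 0) (n : N) (g : G) :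
    χ ((n : G) * g) = ψ n * χ g := by
  have hne := irr_degree_ne_zero hχ
  have hcomm : ∀ a b : N, a * b = b * a := fun a b =>
    Subtype.ext (Subgroup.mem_center_iff.1 (hN b.2) a)
  have hψ1 := irr_of_comm_degree hcomm hψ
  have hψmul : ∀ a b : N, ψ (a * b) = ψ a * ψ b := fun a b => by
    rw [char_mul_central hψ (Subgroup.mem_center_iff.2 fun c => hcomm c a) b, hψ1, div_one]
  let c : N → ℂ := fun a => χ a / χ 1
  have hcmul : ∀ a b : N, c (a * b) = c a * c b := fun a b => by
    simp only [c, Subgroup.coe_mul]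
    rw [char_mul_central hχ (hN a.2) b, mul_div_assoc]
  have hψn : ∀ a : N, ψ a ≠ 0 := fun a h => by
    have := hψmul a a⁻¹
    rw [mul_inv_cancel, hψ1, h, zero_mul] at this
    exact one_ne_zero this
  suffices h : c n = ψ n by
    rw [char_mul_central hχ (hN n.2) g, ← h]
  by_contra hcn
  apply hover
  have hsum : ∑ a : N, c a * conj (ψ a) = 0 := by
    have h1 : ∑ a : N, c a * conj (ψ a) = c n * conj (ψ n) * ∑ a : N, c a * conj (ψ a) := by
      rw [Finset.mul_sum]
      refine (Fintype.sum_equiv (Equiv.mulLeft n) _ _ fun a => ?_).symm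
      simp only [Equiv.coe_mulLeft, hcmul, hψmul, map_mul]
      ring
    by_contra hne0
    have h2 : c n * conj (ψ n) = 1 := by
      have := mul_right_cancel₀ hne0 (h1.symm.trans (one_mul _).symm)
      exact this
    apply hcn
    have h3 : ψ n * conj (ψ n) = 1 := by
      -- the values of a linear character have absolute value one
      let m := orderOf n
      have hpow : ∀ k : ℕ, ψ (n ^ k) = ψ n ^ k := by
        intro k
        induction k with
        | zero => simp [hψ1]
        | succ k ih => rw [pow_succ, hψmul, ih, pow_succ]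
      have h4 : ψ n ^ m = 1 := by rw [← hpow, pow_orderOf_eq_one, hψ1]
      have h5 : ‖ψ n‖ = 1 := Complex.norm_eq_one_of_pow_eq_one h4 (orderOf_pos n).ne'
      rw [Complex.mul_conj, Complex.normSq_eq_norm_sq, h5]
      norm_num
    have h6 : conj (ψ n) ≠ 0 := by simpa using hψn n
    exact mul_right_cancel₀ h6 (h2.trans h3.symm)
  have : ∀ a : N, χ a * conj (ψ a) = χ 1 * (c a * conj (ψ a)) := fun a => by
    simp only [c]
    field_simp
  simp only [Cfsg.classInner, this, ← Finset.mul_sum, hsum, mul_zero]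

end Cfsg.Agent.Lib.BC78.Central
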