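import Cfsg.Agent.Lib.Blocks.ContribRank
import Cfsg.Agent.Lib.Blocks.SecondMain
import Cfsg.Agent.Lib.Blocks.Induced
import Cfsg.Agent.Lib.Blocks.FirstMain
import Cfsg.Agent.Lib.BrauerMap.PrincipalSection
import Cfsg.Agent.Lib.BC78.Central
import Cfsg.Agent.Lib.Characters.Complete

/-!
# Brauer's count of the characters of a block by subsections

* `sum_blockRank_le` : the ranks of the blocks add up to at most the number of regular classes;
* `mem_regSpan` : the second main theorem, a character of `B` at a `p`-section comes from the blocks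
  inducing `B`;
* `card_le_sum`, `card_eq_sum` : the count.
-/

set_option autoImplicit false

namespace Cfsg.Agent.Lib.BC78.Subsections

open scoped ComplexConjugate
open MonoidAlgebra
open Cfsg.Agent.Lib.Blocks Cfsg.Agent.Lib.Blocks.Contrib
open Cfsg.Agent.Lib.Induced.Basic Cfsg.Agent.Lib.Characters.Basic

universe u

variable {G : Type u} [Group G] [Finite G] {p : ℕ} [hp : Fact p.Prime]
  {M : Ideal Cfsg.AlgInt} [M.IsMaximal] (hM : Cfsg.IsPModular p M)

/-- The span of the regular parts. -/
noncomputable def regSpan (p : ℕ) {A : Type u} [Group A] (b : Set (Cfsg.IrrCharacter A)) :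
    Submodule ℂ (A → ℂ) :=
  Submodule.span ℂ ((fun χ : Cfsg.IrrCharacter A => Cfsg.pRegularPart p (χ : A → ℂ)) '' b)

omit hp [Finite G] in
theorem blockRank_eq (b : Set (Cfsg.IrrCharacter G)) :
    Cfsg.blockRank p b = Module.finrank ℂ (regSpan p b) := rfl

include hM in
/-- Regular parts from different blocks are orthogonal. -/
theorem orth [Fintype G] {b b' : Set (Cfsg.IrrCharacter G)} (hb : Cfsg.IsPBlock M b)
    (hb' : Cfsg.IsPBlock M b') (hne : b ≠ b') {v w : G → ℂ} (hv : v ∈ regSpan p b)
    (hw : w ∈ regSpan p b') : Cfsg.classInner v w = 0 := by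
  classical
  induction hv using Submodule.span_induction with
  | mem x hx =>
    obtain ⟨φ, hφ, rfl⟩ := hx
    induction hw using Submodule.span_induction with
    | mem y hy =>
      obtain ⟨ψ, hψ, rfl⟩ := hy
      have h0 : contribN p φ ψ = 0 := contribN_eq_zero hM hb hφ fun h => by
        refine hne ?_
        rw [isPBlock_eq_blockOf hb h, isPBlock_eq_blockOf hb' hψ]
      have h1 := regSum_eq_contribN p φ ψ
      rw [h0, Int.cast_zero, mul_zero] at h1
      rw [Cfsg.classInner, show (∑ g : G, Cfsg.pRegularPart p (φ : G → ℂ) g *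
        conj (Cfsg.pRegularPart p (ψ : G → ℂ) g)) =
          regSum p (φ : G → ℂ) (ψ : G → ℂ) from ?_, h1, mul_zero]
      rw [regSum_eq_sum]
      refine Finset.sum_congr rfl fun g _ => ?_
      rw [pRegularPart_apply, pRegularPart_apply, apply_inv (isCharacter_irr ψ)]
      split_ifs <;> simp
    | zero => simp [Cfsg.classInner]
    | add a c _ _ h1 h2 => rw [classInner_add_right, h1, h2, add_zero]
    | smul r a _ h => rw [classInner_smul_right, h, mul_zero]
  | zero => simp [Cfsg.classInner]
  | add a c _ _ h1 h2 => rw [classInner_add_left, h1, h2, add_zero]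
  | smul r a _ h => rw [classInner_smul_left, h, mul_zero]

omit hp [M.IsMaximal] in
theorem regSpan_spec {b : Set (Cfsg.IrrCharacter G)} {v : G → ℂ} (hv : v ∈ regSpan p b) :
    Cfsg.IsClassFunction G v ∧ ∀ g, p ∣ orderOf g → v g = 0 := by
  classical
  induction hv using Submodule.span_induction with
  | mem x hx =>
    obtain ⟨φ, -, rfl⟩ := hx
    refine ⟨fun g h => ?_, fun g hg => by simp [Cfsg.pRegularPart, Cfsg.IsPRegular, hg]⟩
    have ho : orderOf (h * g * h⁻¹) = orderOf g :=
      orderOf_injective (MulAut.conj h).toMonoidHom (MulAut.conj h).injective g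
    simp only [Cfsg.pRegularPart, Cfsg.IsPRegular, ho, isClassFunction_irr φ g h]
    congr
  | zero => exact ⟨fun _ _ => rfl, fun _ _ => rfl⟩
  | add a c _ _ h1 h2 =>
    exact ⟨fun g h => by rw [Pi.add_apply, Pi.add_apply, h1.1, h2.1],
      fun g hg => by rw [Pi.add_apply, h1.2 g hg, h2.2 g hg, add_zero]⟩
  | smul r a _ h =>
    exact ⟨fun g k => by rw [Pi.smul_apply, Pi.smul_apply, h.1],
      fun g hg => by rw [Pi.smul_apply, h.2 g hg, smul_zero]⟩

/-- The classes of `p`-regular elements. -/
def RegClass (p : ℕ) (G : Type u) [Group G] : Type u :=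
  {C : ConjClasses G // ¬ p ∣ orderOf C.out}

instance : Finite (RegClass p G) :=
  haveI : Finite (ConjClasses G) := Quotient.finite _
  Subtype.finite

include hM in
/-- The ranks of the blocks add up to at most the number of regular classes. -/
theorem sum_blockRank_le (S : Finset (Set (Cfsg.IrrCharacter G)))
    (hS : ∀ b ∈ S, Cfsg.IsPBlock M b) :
    ∑ b ∈ S, Cfsg.blockRank p b ≤ Nat.card (RegClass p G) := by
  classical
  haveI := Fintype.ofFinite G
  haveI := Fintype.ofFinite (RegClass p G)
  let T : (∀ b : S, regSpan p b.1) →ₗ[ℂ] (RegClass p G → ℂ) :=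
    { toFun := fun v C => ∑ b : S, (v b : G → ℂ) C.1.out
      map_add' := fun v w => funext fun C => by simp [Finset.sum_add_distrib]
      map_smul' := fun r v => funext fun C => by simp [Finset.mul_sum] }
  have hinj : Function.Injective T := by
    rw [← LinearMap.ker_eq_bot, LinearMap.ker_eq_bot']
    intro v hv
    have hzero : (∑ b : S, (v b : G → ℂ)) = 0 := by
      funext g
      rw [Finset.sum_apply, Pi.zero_apply]
      by_cases hg : p ∣ orderOf g
      · exact Finset.sum_eq_zero fun b _ => (regSpan_spec (v b).2).2 g hg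
      · have hc : IsConj g (ConjClasses.mk g).out :=
          (ConjClasses.mk_eq_mk_iff_isConj.1 (Quotient.out_eq (ConjClasses.mk g))).symm
        obtain ⟨c, hc⟩ := isConj_iff.1 hc
        have ho : orderOf (ConjClasses.mk g).out = orderOf g := by
          rw [← hc]; exact orderOf_injective (MulAut.conj c).toMonoidHom (MulAut.conj c).injective g
        refine Eq.trans (Finset.sum_congr rfl fun b _ => ?_)
          (congrFun hv ⟨ConjClasses.mk g, ho ▸ hg⟩)
        show (v b : G → ℂ) g = (v b : G → ℂ) (ConjClasses.mk g).out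
        rw [← hc, (regSpan_spec (v b).2).1]
    funext b
    have h := congrArg (fun f => Cfsg.classInner f (v b : G → ℂ)) hzero
    simp only [classInner_sum_left] at h
    rw [Finset.sum_eq_single b
      (fun c _ hc => orth hM (hS _ c.2) (hS _ b.2) (fun e => hc (Subtype.ext e)) (v c).2 (v b).2)
      (fun h => absurd (Finset.mem_univ _) h)] at h
    have h0 : Cfsg.classInner (v b : G → ℂ) (v b) = 0 := h.trans (by simp [Cfsg.classInner])
    rw [Cfsg.classInner, mul_eq_zero, inv_eq_zero] at h0
    have h1 := h0.resolve_left natCard_ne_zero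
    simp only [Complex.mul_conj] at h1
    rw [← Complex.ofReal_sum, Complex.ofReal_eq_zero] at h1
    apply Subtype.ext
    funext g
    exact Complex.normSq_eq_zero.1
      ((Finset.sum_eq_zero_iff_of_nonneg fun g _ => Complex.normSq_nonneg _).1 h1 g (Finset.mem_univ _))
  have h := LinearMap.finrank_le_finrank_of_injective hinj
  rw [Module.finrank_pi_fintype, Module.finrank_fintype_fun_eq_card, ← Nat.card_eq_fintype_card] at h
  refine le_trans (le_of_eq ?_) h
  exact (Finset.sum_coe_sort S fun b => Cfsg.blockRank p b).symm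

/-- The central idempotent of a set of characters acts by zero or one. -/
theorem sum_blockCoeff_mul_shift [Fintype G] (A : Set (Cfsg.IrrCharacter G))
    (θ : Cfsg.IrrCharacter G) (g : G) [Decidable (θ ∈ A)] :
    ∑ k : G, Cfsg.blockCoeff A k * (θ : G → ℂ) (k * g) = if θ ∈ A then (θ : G → ℂ) g else 0 := by
  classical
  have h := lin_center_mul θ (idem A).2 (single g 1)
  rw [← omega_apply, omega_idem] at h
  have hsum : (idem A).1 = ∑ k : G, single k (Cfsg.blockCoeff A k) := by
    refine MonoidAlgebra.coeff_injective (Finsupp.ext fun k => ?_)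
    rw [coeff_sum, Finsupp.finsetSum_apply]
    simp [coeff_idem, coeff_single, Finsupp.single_apply]
  rw [hsum, Finset.sum_mul, map_sum, lin_single, one_mul] at h
  simp only [single_mul_single, lin_single, mul_one] at h
  rw [h]
  split_ifs <;> simp

section Section

variable (x : G)


include hM in
theorem inducedDefined {i : ℕ} (hx : orderOf x = p ^ i)
    {b : Set (Cfsg.IrrCharacter (Subgroup.centralizer ({x} : Set G)))} (hb : Cfsg.IsPBlock M b) :
    ∃ B : Set (Cfsg.IrrCharacter G), Cfsg.IsInducedBlock M (Subgroup.centralizer ({x} : Set G)) b B := by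
  have hP : IsPGroup p (Subgroup.zpowers x) := IsPGroup.of_card (n := i) (by rw [Nat.card_zpowers, hx])
  refine inducedBlockDefined_of_le_normalizer hM hP ?_ ?_ ?_ hb
  · rw [Subgroup.zpowers_le]
    exact Subgroup.mem_centralizer_singleton_iff.2 rfl
  · exact Subgroup.centralizer_le fun z hz => by
      rw [Set.mem_singleton_iff.1 hz]; exact Subgroup.mem_zpowers x
  · intro u hu
    rw [Subgroup.mem_normalizer_iff]
    intro w
    have hu' : Commute u x := Subgroup.mem_centralizer_singleton_iff.1 hu
    have key : ∀ (v : G), Commute v x → ∀ z ∈ Subgroup.zpowers x, v * z * v⁻¹ ∈ Subgroup.zpowers x := by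
      intro v hv z hz
      obtain ⟨n, rfl⟩ := Subgroup.mem_zpowers_iff.1 hz
      rw [(hv.zpow_right n).eq, mul_inv_cancel_right]
      exact Subgroup.zpow_mem _ (Subgroup.mem_zpowers x) n
    refine ⟨key u hu' w, fun h => ?_⟩
    have := key u⁻¹ hu'.inv_left _ h
    simpa [mul_assoc] using this

include hM in
/-- Second main theorem: a character of `B` on a section comes from the blocks inducing `B`. -/
theorem mem_regSpan {i : ℕ} (hx : orderOf x = p ^ i) {B : Set (Cfsg.IrrCharacter G)}
    (hB : Cfsg.IsPBlock M B) {χ : Cfsg.IrrCharacter G} (hχ : χ ∈ B) :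
    (fun y : (Subgroup.centralizer ({x} : Set G)) => if p ∣ orderOf y then 0 else (χ : G → ℂ) (x * y)) ∈
      Submodule.span ℂ (⋃ b ∈ {b : Set (Cfsg.IrrCharacter (Subgroup.centralizer ({x} : Set G))) | Cfsg.IsInducedBlock M (Subgroup.centralizer ({x} : Set G)) b B},
        (fun θ : Cfsg.IrrCharacter (Subgroup.centralizer ({x} : Set G)) => Cfsg.pRegularPart p (θ : (Subgroup.centralizer ({x} : Set G)) → ℂ)) '' b) := by
  classical
  haveI := Fintype.ofFinite G
  haveI := Fintype.ofFinite (Subgroup.centralizer ({x} : Set G))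
  haveI := Fintype.ofFinite (Cfsg.IrrCharacter (Subgroup.centralizer ({x} : Set G)))
  set z : (Subgroup.centralizer ({x} : Set G)) := ⟨x, Subgroup.mem_centralizer_singleton_iff.2 rfl⟩ with hz
  have hzc : z ∈ Subgroup.center (Subgroup.centralizer ({x} : Set G)) := Subgroup.mem_center_iff.2 fun u =>
    Subtype.ext (Subgroup.mem_centralizer_singleton_iff.1 u.2)
  set res : (Subgroup.centralizer ({x} : Set G)) → ℂ := fun y => (χ : G → ℂ) y with hresdef
  have hres : Cfsg.IsCharacter (Subgroup.centralizer ({x} : Set G)) res := isCharacter_comp (Subgroup.subtype _) (isCharacter_irr χ)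
  let a : Cfsg.IrrCharacter (Subgroup.centralizer ({x} : Set G)) → ℂ := fun θ =>
    Cfsg.classInner res θ * ((θ : (Subgroup.centralizer ({x} : Set G)) → ℂ) z / (θ : (Subgroup.centralizer ({x} : Set G)) → ℂ) 1)
  have hexp : ∀ w : (Subgroup.centralizer ({x} : Set G)), res w = ∑ θ : Cfsg.IrrCharacter (Subgroup.centralizer ({x} : Set G)), Cfsg.classInner res θ * (θ : (Subgroup.centralizer ({x} : Set G)) → ℂ) w := by
    intro w
    have h := congrFun (character_eq_finsum hres) w
    rw [finsum_eq_sum_of_fintype, Finset.sum_apply] at h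
    exact h
  have hsplit : ∀ y : (Subgroup.centralizer ({x} : Set G)), (χ : G → ℂ) (x * y) = ∑ θ : Cfsg.IrrCharacter (Subgroup.centralizer ({x} : Set G)), a θ * (θ : (Subgroup.centralizer ({x} : Set G)) → ℂ) y := fun y => by
    refine (hexp (z * y)).trans (Finset.sum_congr rfl fun θ _ => ?_)
    rw [Central.char_mul_central θ.2 hzc y, mul_assoc]
  let BS := (Finset.univ : Finset (Set (Cfsg.IrrCharacter (Subgroup.centralizer ({x} : Set G))))).filter fun b => Cfsg.IsPBlock M b
  -- the part of a block not inducing `B` vanishes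
  have hvan : ∀ b ∈ BS, ¬ Cfsg.IsInducedBlock M (Subgroup.centralizer ({x} : Set G)) b B → ∀ y : (Subgroup.centralizer ({x} : Set G)), ¬ p ∣ orderOf y →
      ∑ θ ∈ Finset.univ.filter (fun θ => θ ∈ b), a θ * (θ : (Subgroup.centralizer ({x} : Set G)) → ℂ) y = 0 := by
    intro b hb hnb y hy
    have hbB := (Finset.mem_filter.1 hb).2
    have hne : ∀ ξ ∈ b, Cfsg.Agent.Lib.BrauerMap.Induced.inducedBar M (Subgroup.centralizer ({x} : Set G)) ξ
        (blockIdemBar (isPBlock_blockOf (M := M) χ)) = 0 := by
      intro ξ hξ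
      obtain ⟨B', hB'⟩ := inducedDefined hM x hx hbB
      obtain ⟨ψ, hψ⟩ := isPBlock_nonempty hB'.2.1
      rw [inducedBar_eq_omegaBar hB' hξ hψ, omegaBar_blockIdemBar, if_neg]
      intro hψB
      apply hnb
      have hBB' : B = B' := by
        rw [isPBlock_eq_blockOf hB hχ, isPBlock_eq_blockOf hB'.2.1 hψ]
        exact (blockOf_eq_of_mem hψB).symm
      rw [hBB']
      exact hB'
    have hcomm : Commute x (y : G) := (Subgroup.mem_centralizer_singleton_iff.1 y.2).symm
    have h0 := finsum_blockCoeff_mul_eq_zero hM hbB hx (by rwa [Subgroup.orderOf_coe]) hcomm y.2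
      le_rfl χ hne
    rw [finsum_eq_sum_of_fintype] at h0
    rw [← h0]
    have : ∀ k : (Subgroup.centralizer ({x} : Set G)), (χ : G → ℂ) ((k : G) * (x * y)) =
        ∑ θ : Cfsg.IrrCharacter (Subgroup.centralizer ({x} : Set G)), Cfsg.classInner res θ * (θ : (Subgroup.centralizer ({x} : Set G)) → ℂ) (k * (z * y)) := fun k => hexp (k * (z * y))
    simp only [this, Finset.mul_sum]
    rw [Finset.sum_comm, Finset.sum_filter]
    refine Finset.sum_congr rfl fun θ _ => ?_
    simp only [mul_left_comm (Cfsg.blockCoeff b _), ← Finset.mul_sum, sum_blockCoeff_mul_shift,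
      mul_ite, mul_zero]
    refine if_congr Iff.rfl ?_ rfl
    rw [Central.char_mul_central θ.2 hzc y, mul_assoc]
  have hblk : ∀ θ : Cfsg.IrrCharacter (Subgroup.centralizer ({x} : Set G)), ∀ b ∈ BS, θ ∈ b ↔ b = Cfsg.blockOf M (θ : (Subgroup.centralizer ({x} : Set G)) → ℂ) :=
    fun θ b hb => ⟨fun h => isPBlock_eq_blockOf (Finset.mem_filter.1 hb).2 h,
      fun h => h ▸ mem_blockOf_self θ⟩
  -- decompose by blocks
  have heq : (fun y : (Subgroup.centralizer ({x} : Set G)) => if p ∣ orderOf y then 0 else (χ : G → ℂ) (x * y)) =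
      ∑ b ∈ BS.filter (fun b => Cfsg.IsInducedBlock M (Subgroup.centralizer ({x} : Set G)) b B),
        ∑ θ ∈ Finset.univ.filter (fun θ => θ ∈ b), a θ • Cfsg.pRegularPart p (θ : (Subgroup.centralizer ({x} : Set G)) → ℂ) := by
    funext y
    simp only [Finset.sum_apply, Pi.smul_apply, smul_eq_mul, pRegularPart_apply]
    by_cases hy : p ∣ orderOf y
    · simp [hy]
    · simp only [if_neg hy]
      rw [Finset.sum_subset (Finset.filter_subset _ BS) fun b hb hn =>
        hvan b hb (fun h => hn (Finset.mem_filter.2 ⟨hb, h⟩)) y hy, hsplit]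
      simp only [Finset.sum_filter]
      rw [Finset.sum_comm]
      refine Finset.sum_congr rfl fun θ _ => ?_
      rw [Finset.sum_eq_single (Cfsg.blockOf M (θ : (Subgroup.centralizer ({x} : Set G)) → ℂ))
        (fun b hb hne => if_neg fun h => hne ((hblk θ b hb).1 h))
        (fun h => absurd (Finset.mem_filter.2 ⟨Finset.mem_univ _, isPBlock_blockOf θ⟩) h),
        if_pos (mem_blockOf_self θ)]
  rw [heq]
  refine sum_mem fun b hb => sum_mem fun θ hθ => Submodule.smul_mem _ _ (Submodule.subset_span ?_)
  exact Set.mem_biUnion (Finset.mem_filter.1 hb).2 ⟨θ, (Finset.mem_filter.1 hθ).2, rfl⟩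

end Section

variable (X : Finset G) (hX : ∀ x ∈ X, ∃ k : ℕ, orderOf x = p ^ k)
  (hXrep : ∀ g : G, (∃ k : ℕ, orderOf g = p ^ k) → ∃! x, x ∈ X ∧ IsConj g x)

open scoped Classical in
/-- The blocks of the centralizer inducing a block. -/
noncomputable def indBlocks (M : Ideal Cfsg.AlgInt) (x : G) (B : Set (Cfsg.IrrCharacter G)) :
    Finset (Set (Cfsg.IrrCharacter (Subgroup.centralizer ({x} : Set G)))) :=
  (Set.toFinite {b : Set (Cfsg.IrrCharacter (Subgroup.centralizer ({x} : Set G))) |
    Cfsg.IsInducedBlock M (Subgroup.centralizer ({x} : Set G)) b B}).toFinset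

omit hp [M.IsMaximal] in
theorem mem_indBlocks {x : G} {B : Set (Cfsg.IrrCharacter G)}
    {b : Set (Cfsg.IrrCharacter (Subgroup.centralizer ({x} : Set G)))} :
    b ∈ indBlocks M x B ↔ Cfsg.IsInducedBlock M (Subgroup.centralizer ({x} : Set G)) b B := by
  simp [indBlocks]

include hM hX hXrep in
/-- A block has at most as many characters as its subsections allow. -/
theorem card_le_sum {B : Set (Cfsg.IrrCharacter G)} (hB : Cfsg.IsPBlock M B) :
    Nat.card B ≤ ∑ x ∈ X, ∑ b ∈ indBlocks M x B, Cfsg.blockRank p b := by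
  classical
  haveI := Fintype.ofFinite B
  haveI := Fintype.ofFinite G
  let W : ∀ x : X, Submodule ℂ (Subgroup.centralizer ({(x : G)} : Set G) → ℂ) := fun x =>
    Submodule.span ℂ (⋃ b ∈ {b | Cfsg.IsInducedBlock M (Subgroup.centralizer ({(x : G)} : Set G)) b B},
      (fun θ : Cfsg.IrrCharacter _ => Cfsg.pRegularPart p (θ : _ → ℂ)) '' b)
  let F : B → ∀ x : X, W x := fun χ x =>
    ⟨_, mem_regSpan hM (x : G) (hX _ x.2).choose_spec hB χ.2⟩
  have hli : LinearIndependent ℂ F := by
    rw [Fintype.linearIndependent_iff]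
    intro c hc
    have hzero : ∑ χ : B, c χ • ((χ.1 : Cfsg.IrrCharacter G) : G → ℂ) = 0 := by
      funext g
      obtain ⟨u, hu⟩ := exists_isPPart hp.out g
      obtain ⟨u', hg, hcu, hu1, hu'⟩ := hu
      obtain ⟨x, ⟨hxX, hxc⟩, -⟩ := hXrep u hu1
      obtain ⟨t, ht⟩ := isConj_iff.1 hxc
      let y : Subgroup.centralizer ({x} : Set G) := ⟨t * u' * t⁻¹,
        Subgroup.mem_centralizer_singleton_iff.2 (by
          rw [← ht]
          have h2 := (hcu.map (MulAut.conj t).toMonoidHom).symm
          exact h2)⟩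
      have hy : ¬ p ∣ orderOf y := by
        rw [← Subgroup.orderOf_coe]
        exact (orderOf_injective (MulAut.conj t).toMonoidHom (MulAut.conj t).injective u').symm ▸ hu'
      have h1 := congrArg (fun f => ((f (⟨x, hxX⟩ : X) : W ⟨x, hxX⟩) : _ → ℂ) y) hc
      simp only [Finset.sum_apply, Pi.smul_apply, Submodule.coe_sum, Submodule.coe_smul, F,
        Pi.zero_apply, ZeroMemClass.coe_zero, if_neg hy] at h1
      rw [Finset.sum_apply, Pi.zero_apply]
      refine Eq.trans (Finset.sum_congr rfl fun χ _ => ?_) h1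
      rw [Pi.smul_apply]
      congr 1
      rw [show x * (y : G) = t * g * t⁻¹ from ?_, isClassFunction_irr χ.1]
      show x * (t * u' * t⁻¹) = _
      rw [← ht, ← hg]
      group
    intro χ
    exact Fintype.linearIndependent_iff.1
      (linearIndependent_irr.comp (fun χ : B => χ.1) Subtype.val_injective) c hzero χ
  have h := hli.fintype_card_le_finrank
  rw [Module.finrank_pi_fintype, ← Nat.card_eq_fintype_card] at h
  refine h.trans ?_
  rw [← Finset.sum_coe_sort X]
  refine Finset.sum_le_sum fun x _ => ?_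
  have hW : W x = (indBlocks M (x : G) B).sup fun b => regSpan p b := by
    refine le_antisymm (Submodule.span_le.2 ?_) (Finset.sup_le fun b hb => Submodule.span_mono ?_)
    · refine Set.iUnion₂_subset fun b hb => ?_
      exact (Submodule.subset_span).trans
        (Finset.le_sup (f := fun b => regSpan p b) (mem_indBlocks.2 hb))
    · intro f hf
      exact Set.mem_iUnion₂.2 ⟨b, mem_indBlocks.1 hb, hf⟩
  rw [hW]
  induction indBlocks M (x : G) B using Finset.induction_on with
  | empty => simp
  | insert b S hbS ih =>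
    rw [Finset.sup_insert, Finset.sum_insert hbS]
    exact (Submodule.finrank_add_le_finrank_add_finrank _ _).trans (Nat.add_le_add le_rfl ih)

include hM hX hXrep in
/-- Brauer's count of the characters of a block. -/
theorem card_eq_sum {B : Set (Cfsg.IrrCharacter G)} (hB : Cfsg.IsPBlock M B) :
    Nat.card B = ∑ x ∈ X, ∑ b ∈ indBlocks M x B, Cfsg.blockRank p b := by
  classical
  haveI := Fintype.ofFinite G
  haveI := Fintype.ofFinite (Cfsg.IrrCharacter G)
  let BS := (Finset.univ : Finset (Set (Cfsg.IrrCharacter G))).filter fun B => Cfsg.IsPBlock M B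
  have hle : ∀ B ∈ BS, Nat.card B ≤ ∑ x ∈ X, ∑ b ∈ indBlocks M x B, Cfsg.blockRank p b :=
    fun B hB => card_le_sum hM X hX hXrep (Finset.mem_filter.1 hB).2
  suffices htot : ∑ B ∈ BS, ∑ x ∈ X, ∑ b ∈ indBlocks M x B, Cfsg.blockRank p b ≤ ∑ B ∈ BS, Nat.card B by
    exact (Finset.sum_eq_sum_iff_of_le hle).1 (le_antisymm (Finset.sum_le_sum hle) htot) B
      (Finset.mem_filter.2 ⟨Finset.mem_univ _, hB⟩)
  have hkG : ∑ B ∈ BS, Nat.card B = Nat.card (ConjClasses G) := by
    rw [← Characters.Complete.card_irr_eq_card_conjClasses, Nat.card_eq_fintype_card,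
      ← Finset.card_univ, Finset.card_eq_sum_card_fiberwise (t := BS)
        (f := fun χ : Cfsg.IrrCharacter G => Cfsg.blockOf M (χ : G → ℂ))
        (fun χ _ => Finset.mem_filter.2 ⟨Finset.mem_univ _, isPBlock_blockOf χ⟩)]
    refine Finset.sum_congr rfl fun B hB => ?_
    have hB' := (Finset.mem_filter.1 hB).2
    rw [Nat.card_eq_card_toFinset]
    congr 1
    ext χ
    simp only [Set.mem_toFinset, Finset.mem_filter, Finset.mem_univ, true_and]
    exact ⟨fun h => (isPBlock_eq_blockOf hB' h).symm, fun h => h ▸ mem_blockOf_self χ⟩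
  rw [hkG, Finset.sum_comm]
  refine le_trans (Finset.sum_le_sum (g := fun x => Nat.card (RegClass p (Subgroup.centralizer ({x} : Set G))))
    fun x hx => ?_) ?_
  · rw [← Finset.sum_biUnion]
    · refine sum_blockRank_le hM _ fun b hb => ?_
      obtain ⟨B, -, hb⟩ := Finset.mem_biUnion.1 hb
      exact (mem_indBlocks.1 hb).1
    · intro B _ B' _ hne
      rw [Function.onFun, Finset.disjoint_left]
      intro b hb hb'
      haveI := charP_residue hM
      exact hne (eq_of_isInducedBlock (mem_indBlocks.1 hb) (mem_indBlocks.1 hb'))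
  · haveI : Finite (ConjClasses G) := Quotient.finite _
    haveI : ∀ x : X, Finite (RegClass p (Subgroup.centralizer ({(x : G)} : Set G))) := fun x => inferInstance
    rw [← Finset.sum_coe_sort X, ← Nat.card_sigma]
    refine Nat.card_le_card_of_injective
      (fun s : Σ x : X, RegClass p (Subgroup.centralizer ({(x : G)} : Set G)) =>
        ConjClasses.mk ((s.1 : G) * (s.2.1.out : G))) ?_
    rintro ⟨⟨x, hx⟩, C, hC⟩ ⟨⟨x', hx'⟩, C', hC'⟩ he
    obtain ⟨t, ht⟩ := isConj_iff.1 (ConjClasses.mk_eq_mk_iff_isConj.1 he)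
    have hpart : ∀ (x : G) (_ : x ∈ X) (c : Subgroup.centralizer ({x} : Set G)), ¬ p ∣ orderOf c →
        Cfsg.IsPPart p (x * (c : G)) x := fun x hx c hc =>
      ⟨(c : G), rfl, (Subgroup.mem_centralizer_singleton_iff.1 c.2).symm, hX x hx,
        by rwa [Subgroup.orderOf_coe]⟩
    have hxx : t * x * t⁻¹ = x' := by
      refine BrauerMap.PrincipalSection.isPPart_unique hp.out ?_ (hpart x' hx' _ hC')
      have := BrauerMap.PrincipalSection.isPPart_conj (hpart x hx _ hC) t
      simp only at ht
      rwa [ht] at this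
    have hxe : x = x' := (hXrep x (hX x hx)).unique ⟨hx, IsConj.refl x⟩
      ⟨hx', isConj_iff.2 ⟨t, hxx⟩⟩
    subst hxe
    have htC : t ∈ Subgroup.centralizer ({x} : Set G) :=
      Subgroup.mem_centralizer_singleton_iff.2 (mul_inv_eq_iff_eq_mul.1 hxx)
    have hout : IsConj C.out C'.out := by
      refine isConj_iff.2 ⟨⟨t, htC⟩, Subtype.ext ?_⟩
      simp only at ht
      show t * (C.out : G) * t⁻¹ = _
      refine mul_left_cancel (a := x) ?_
      rw [← ht]
      calc x * (t * (C.out : G) * t⁻¹) = (t * x * t⁻¹) * (t * (C.out : G) * t⁻¹) := by rw [hxx]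
        _ = t * (x * (C.out : G)) * t⁻¹ := by group
    have : C = C' := by
      rw [← Quotient.out_eq C, ← Quotient.out_eq C']
      exact ConjClasses.mk_eq_mk_iff_isConj.2 hout
    subst this
    rfl

end Cfsg.Agent.Lib.BC78.Subsections
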