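import Cfsg.Agent.Lib.BC78.SmallCentral
import Cfsg.Agent.Lib.PrimePrincipal.Main

/-!
# A basis of projective characters of the principal block, Sylow subgroup of order at most `p`

The differences of neighbouring non-exceptional characters and the last one plus the exceptional
sum: their Wada sum is at most `p`, or `1` when the group has order prime to `p`.
-/

set_option autoImplicit false
set_option linter.style.haveILetI false

namespace Cfsg.Agent.Lib.BC78.SmallCentralPrime

open scoped ComplexConjugate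
open Cfsg.Agent.Lib.Characters.Basic Cfsg.Agent.Lib.Blocks Cfsg.Agent.Lib.Blocks.Contrib

universe u

variable {p : ℕ} [Fact p.Prime] {K : Type u} [Group K] [Fintype K]
  [Fintype (Cfsg.IrrCharacter K)] {M : Ideal Cfsg.AlgInt} [M.IsMaximal]

/-- The data needed by `SmallCentral.section_bound`. -/
def Good (p : ℕ) (M : Ideal Cfsg.AlgInt) (n : ℕ) (c : ℕ → Cfsg.IrrCharacter K → ℤ) : Prop :=
  (∀ i ≤ n, ∀ α, c i α ≠ 0 → α ∈ Cfsg.principalBlock M K) ∧
    (∀ i ≤ n, ∀ t : K, p ∣ orderOf t →
      ∑ β : Cfsg.IrrCharacter K, (c i β : ℂ) * (β : K → ℂ) t = 0) ∧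
    ∃ v : ℕ → ℂ, ∀ t : K, ¬ p ∣ orderOf t →
      ∑ i ∈ Finset.range (n + 1), v i * ∑ β : Cfsg.IrrCharacter K, (c i β : ℂ) * (β : K → ℂ) t = 1

/-- Wada's sum of the basis. -/
noncomputable def weight (n : ℕ) (c : ℕ → Cfsg.IrrCharacter K → ℤ) : ℤ :=
  ∑ α, c 0 α * c 0 α + ∑ α, c n α * c n α +
    ∑ i ∈ Finset.range n, ∑ α, (c i α + c (i + 1) α) * (c i α + c (i + 1) α)

theorem good_of_not_dvd (h : ¬ p ∣ Nat.card K) :
    ∃ n c, Good p M n c ∧ weight (K := K) n c ≤ 2 := by
  classical
  refine ⟨0, fun _ α => if α = oneChar K then 1 else 0, ⟨fun i _ α hα => ?_, fun i _ t ht => ?_,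
    fun _ => 1, fun t _ => ?_⟩, ?_⟩
  · rw [ne_eq, ite_eq_right_iff, Classical.not_imp] at hα
    exact hα.1 ▸ oneChar_mem_principalBlock
  · exact absurd (ht.trans (orderOf_dvd_natCard t)) h
  · simp [oneChar_apply]
  · simp [weight]

theorem good_of_prime (hM : Cfsg.IsPModular p M) (h : (Nat.card K).factorization p = 1) :
    ∃ n c, Good p M n c ∧ weight (K := K) n c ≤ 2 * (p : ℤ) := by
  classical
  have hp : p.Prime := Fact.out
  obtain ⟨P⟩ : Nonempty (Sylow p K) := inferInstance
  have hP : Nat.card P = p := by rw [P.card_eq_multiplicity, h, pow_one]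
  obtain ⟨R, T, a, δ, hB0, hRT, hR, hT, hδ, hRv, -, hTreg, hrel⟩ :=
    PrimePrincipal.Main.exists_structure M hM hP rfl (P := P)
  set e := (Subgroup.centralizer ((P : Subgroup K) : Set K)).relIndex
      (Subgroup.normalizer ((P : Subgroup K) : Set K)) with he
  have hediv : e ∣ p - 1 := by
    obtain ⟨x, hx, hxP⟩ := PrimePrincipal.Setup.exists_gen P hP
    obtain ⟨n, -, hidx⟩ := PrimePrincipal.Setup.exists_fpf hx hxP
    rw [he, hidx, ← ZMod.card_units p, ← Nat.card_eq_fintype_card]
    exact Subgroup.card_subgroup_dvd_card _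
  have he0 : 0 < e := Nat.pos_of_ne_zero fun h0 => by
    rw [h0, zero_dvd_iff] at hediv
    have := hp.two_le
    omega
  set m := (p - 1) / e with hmdef
  have hem : e * m = p - 1 := Nat.mul_div_cancel' hediv
  have hm0 : 0 < m := Nat.pos_of_ne_zero fun h0 => by
    rw [h0, mul_zero] at hem
    have := hp.two_le
    omega
  obtain ⟨n, hn⟩ : ∃ n, e = n + 1 := ⟨e - 1, by omega⟩
  obtain ⟨θ₀, hθ₀⟩ : T.Nonempty := Finset.card_pos.mp (hT ▸ hm0)
  let g : Fin (n + 1) ≃ R := (R.equivFinOfCardEq (hR.trans hn)).symm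
  let χs : ℕ → Cfsg.IrrCharacter K := fun i => (g (Fin.ofNat (n + 1) i)).1
  have hχR : ∀ i, χs i ∈ R := fun i => (g _).2
  have hχinj : ∀ i ≤ n, ∀ j ≤ n, χs i = χs j → i = j := by
    intro i hi j hj hij
    have h1 := congrArg Fin.val (g.injective (Subtype.ext hij))
    simpa [Nat.mod_eq_of_lt (Nat.lt_succ_of_le hi), Nat.mod_eq_of_lt (Nat.lt_succ_of_le hj)]
      using h1
  have hsurj : ∀ χ ∈ R, ∃ i ≤ n, χs i = χ := fun χ hχ => by
    refine ⟨(g.symm ⟨χ, hχ⟩).val, Nat.lt_succ_iff.mp (Fin.isLt _), ?_⟩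
    simp [χs, Nat.mod_eq_of_lt (Fin.isLt _)]
  have hsq : ∀ χ ∈ R, a χ * a χ = 1 := fun χ hχ => by
    rcases (hRv χ hχ).1 with h' | h' <;> rw [h'] <;> norm_num
  have hδ2 : δ * δ = 1 := by rcases hδ with h' | h' <;> rw [h'] <;> norm_num
  let E : ℕ → Cfsg.IrrCharacter K → ℤ := fun i α => if α = χs i then a (χs i) else 0
  let E' : Cfsg.IrrCharacter K → ℤ := fun α => if α ∈ T then δ else 0
  let c : ℕ → Cfsg.IrrCharacter K → ℤ := fun i α =>
    if i < n then E i α - E (i + 1) α else E n α + E' α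
  let W : ℕ → K → ℂ := fun i t => (a (χs i) : ℂ) * (χs i : K → ℂ) t
  have hE : ∀ i t, ∑ β : Cfsg.IrrCharacter K, (E i β : ℂ) * (β : K → ℂ) t = W i t := fun i t => by
    simp [E, W]
  have hE' : ∀ t, ∑ β : Cfsg.IrrCharacter K, (E' β : ℂ) * (β : K → ℂ) t =
      (δ : ℂ) * ∑ θ ∈ T, (θ : K → ℂ) t := fun t => by
    simp [E', Finset.mul_sum, Finset.sum_ite_mem]
  have hval : ∀ i t, ∑ β : Cfsg.IrrCharacter K, (c i β : ℂ) * (β : K → ℂ) t =
      if i < n then W i t - W (i + 1) t else W n t + (δ : ℂ) * ∑ θ ∈ T, (θ : K → ℂ) t := by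
    intro i t
    simp only [c]
    split_ifs
    · simp only [Int.cast_sub, sub_mul, Finset.sum_sub_distrib, hE]
    · simp only [Int.cast_add, add_mul, Finset.sum_add_distrib, hE, hE']
  -- the values on the singular elements
  have hsing : ∀ t : K, p ∣ orderOf t → ∀ χ ∈ R, (χ : K → ℂ) t = (a χ : ℂ) := by
    intro t ht χ hχ
    obtain ⟨u, hu⟩ := exists_isPPart hp t
    have hu1 := isPPart_ne_one hu ht
    obtain ⟨u', rfl, hc, ⟨k, hk⟩, hu'⟩ := hu
    obtain ⟨Q, hQ⟩ := (IsPGroup.of_card (n := k) (by rw [Nat.card_zpowers, hk]) :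
      IsPGroup p (Subgroup.zpowers u)).exists_le_sylow
    obtain ⟨w, hw⟩ := MulAction.exists_smul_eq K Q P
    have hmem : w * u * w⁻¹ ∈ (P : Subgroup K) := by
      rw [← hw]
      exact ⟨u, hQ (Subgroup.mem_zpowers u), rfl⟩
    have hne : w * u * w⁻¹ ≠ 1 := fun h0 => hu1 (conj_eq_one_iff.mp h0)
    have hcom : w * u' * w⁻¹ ∈ Subgroup.centralizer ((P : Subgroup K) : Set K) := by
      rw [Subgroup.mem_centralizer_iff]
      intro y hy
      obtain ⟨i, hi⟩ := mem_zpowers_of_prime_card (G := (P : Subgroup K)) (p := p) hP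
        (g := ⟨_, hmem⟩) (g' := ⟨y, hy⟩) (by simpa [Subtype.ext_iff] using hne)
      have hy' : (w * u * w⁻¹) ^ i = y := by simpa using congrArg Subtype.val hi
      rw [← hy']
      exact ((Commute.map hc (MulAut.conj w).toMonoidHom).zpow_left i).eq
    have hconj : (χ : K → ℂ) (u * u') = (χ : K → ℂ) ((w * u * w⁻¹) * (w * u' * w⁻¹)) := by
      rw [show (w * u * w⁻¹) * (w * u' * w⁻¹) = w * (u * u') * w⁻¹ by group,
        isClassFunction_irr χ (u * u') w]
    rw [hconj]
    exact (hRv χ hχ).2.2 _ hmem hne _ hcom (by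
      rw [show w * u' * w⁻¹ = MulAut.conj w u' from rfl, (MulAut.conj w).orderOf_eq]; exact hu')
  have hTsum : ∀ t : K, p ∣ orderOf t → ∑ θ ∈ T, (θ : K → ℂ) t = -(δ : ℂ) := by
    intro t ht
    have h0 := weak_orthogonality hM (isPBlock_principalBlock (G := K)) (p := p) (x := (1 : K))
      (y := t) (by simp [hp.ne_one]) ht
    rw [hB0, ← Finset.coe_union, finsum_mem_coe_finset, Finset.sum_union hRT] at h0
    have hT1 : ∀ θ ∈ T, (θ : K → ℂ) 1 = (θ₀ : K → ℂ) 1 := fun θ hθ =>
      hTreg θ hθ θ₀ hθ₀ 1 (by simp [hp.ne_one])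
    rw [Finset.sum_congr rfl (fun χ hχ => by rw [hsing t ht χ hχ, map_intCast, mul_comm]),
      ← hrel θ₀ hθ₀ 1 (by simp [hp.ne_one]),
      Finset.sum_congr rfl (fun θ hθ => by rw [hT1 θ hθ]), ← Finset.mul_sum, ← map_sum,
      mul_comm (δ : ℂ), ← mul_add, mul_eq_zero] at h0
    have h1 := congrArg conj (h0.resolve_left (apply_one_ne_zero θ₀))
    rw [map_add, map_intCast, Complex.conj_conj, map_zero] at h1
    linear_combination h1
  have hWsing : ∀ t : K, p ∣ orderOf t → ∀ i, W i t = 1 := fun t ht i => by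
    show (a (χs i) : ℂ) * _ = 1
    rw [hsing t ht _ (hχR i)]
    exact_mod_cast hsq _ (hχR i)
  have hmemB : ∀ α, α ∈ R ∨ α ∈ T → α ∈ Cfsg.principalBlock M K := fun α hα => by
    rw [hB0]; exact hα.imp id id
  refine ⟨n, c, ⟨fun i hi α hα => ?_, fun i hi t ht => ?_, ?_⟩, ?_⟩
  · refine hmemB α ?_
    by_contra hno
    push Not at hno
    have hEz : ∀ j, E j α = 0 := fun j => by
      simp only [E]; rw [if_neg]; intro h'; exact hno.1 (h' ▸ hχR j)
    apply hα
    simp only [c, hEz, E', if_neg hno.2]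
    split_ifs <;> simp
  · rw [hval]
    split_ifs
    · rw [hWsing t ht, hWsing t ht, sub_self]
    · rw [hWsing t ht, hTsum t ht]
      have : (δ : ℂ) * δ = 1 := by exact_mod_cast hδ2
      linear_combination -this
  · -- the principal character is in the span on the regular elements
    let Kr := {t : K // ¬ p ∣ orderOf t}
    let F : Fin (n + 1) → Kr → ℂ := fun i t =>
      ∑ β : Cfsg.IrrCharacter K, (c i β : ℂ) * (β : K → ℂ) t.1
    set S := Submodule.span ℂ (Set.range F) with hS
    let Wr : ℕ → Kr → ℂ := fun i t => W i t.1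
    have hdiff : ∀ i < n, Wr i - Wr (i + 1) ∈ S := fun i hi => by
      refine Submodule.subset_span ⟨⟨i, by omega⟩, funext fun t => ?_⟩
      simp only [F, hval, if_pos hi, Pi.sub_apply, Wr]
    have htel : ∀ k, ∀ i, i + k = n → Wr i - Wr n ∈ S := by
      intro k
      induction k with
      | zero => intro i hi; rw [show i = n by omega, sub_self]; exact S.zero_mem
      | succ k ih =>
        intro i hi
        have := S.add_mem (hdiff i (by omega)) (ih (i + 1) (by omega))
        rwa [sub_add_sub_cancel] at this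
    have hrelW : ∀ θ ∈ T, ∀ t : Kr, (δ : ℂ) * (θ : K → ℂ) t.1 =
        ∑ i ∈ Finset.range (n + 1), Wr i t := by
      intro θ hθ t
      rw [hrel θ hθ t.1 t.2]
      refine (Finset.sum_bij (fun i _ => χs i) (fun i _ => hχR i) (fun i hi j hj hij => hχinj i
        (Nat.lt_succ_iff.mp (Finset.mem_range.mp hi)) j
        (Nat.lt_succ_iff.mp (Finset.mem_range.mp hj)) hij) (fun χ hχ => ?_) fun i _ => rfl).symm
      obtain ⟨i, hi, rfl⟩ := hsurj χ hχ
      exact ⟨i, Finset.mem_range.mpr (Nat.lt_succ_of_le hi), rfl⟩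
    have hlast : Wr n + (m : ℂ) • ∑ i ∈ Finset.range (n + 1), Wr i ∈ S := by
      refine Submodule.subset_span ⟨Fin.last n, funext fun t => ?_⟩
      simp only [F, hval, Fin.val_last, lt_irrefl, if_false, Pi.add_apply, Pi.smul_apply,
        Finset.sum_apply, smul_eq_mul, Finset.mul_sum]
      rw [Finset.sum_congr rfl fun θ hθ => hrelW θ hθ t, Finset.sum_const, hT, nsmul_eq_mul,
        Finset.mul_sum]
    have hWn : Wr n ∈ S := by
      have h1 : ((1 + m * e : ℕ) : ℂ) • Wr n ∈ S := by
        have h2 := S.sub_mem hlast (S.smul_mem (m : ℂ) (S.sum_mem (t := Finset.range (n + 1))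
          fun i hi => htel (n - i) i (by have := Finset.mem_range.mp hi; omega)))
        rw [Finset.sum_sub_distrib, Finset.sum_const, Finset.card_range, ← hn] at h2
        convert h2 using 1
        funext t
        simp only [Pi.smul_apply, Pi.add_apply, Pi.sub_apply, smul_eq_mul, nsmul_eq_mul,
          Pi.mul_apply, Pi.natCast_apply]
        push_cast
        ring
      have := S.smul_mem ((1 + m * e : ℕ) : ℂ)⁻¹ h1
      rwa [inv_smul_smul₀ (Nat.cast_ne_zero.mpr (by omega))] at this
    have hW : ∀ i ≤ n, Wr i ∈ S := fun i hi => by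
      have := S.add_mem (htel (n - i) i (by omega)) hWn
      rwa [sub_add_cancel] at this
    have hone : (fun _ => (1 : ℂ)) ∈ S := by
      have h1 : oneChar K ∈ Cfsg.principalBlock M K := oneChar_mem_principalBlock
      rw [hB0] at h1
      rcases h1 with h1 | h1
      · obtain ⟨i, hi, he1⟩ := hsurj _ h1
        have := S.smul_mem (a (χs i) : ℂ) (hW i hi)
        convert this using 1
        funext t
        simp only [Pi.smul_apply, smul_eq_mul, Wr, W, ← mul_assoc]
        rw [← Int.cast_mul, hsq _ (hχR i), he1, oneChar_apply]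
        simp
      · have := S.smul_mem (δ : ℂ) (S.sum_mem (t := Finset.range (n + 1)) fun i hi =>
          hW i (Nat.lt_succ_iff.mp (Finset.mem_range.mp hi)))
        convert this using 1
        funext t
        simp only [Pi.smul_apply, smul_eq_mul, Finset.sum_apply]
        rw [← hrelW _ h1 t, oneChar_apply, ← mul_assoc, ← Int.cast_mul, hδ2]
        simp
    obtain ⟨v, hv⟩ := Submodule.mem_span_range_iff_exists_fun ℂ |>.mp hone
    refine ⟨fun i => v (Fin.ofNat (n + 1) i), fun t ht => ?_⟩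
    have := congrFun hv ⟨t, ht⟩
    rw [Finset.sum_apply] at this
    rw [← Fin.sum_univ_eq_sum_range (fun i => v (Fin.ofNat (n + 1) i) *
      ∑ β : Cfsg.IrrCharacter K, (c i β : ℂ) * (β : K → ℂ) t), ← this]
    refine Finset.sum_congr rfl fun i _ => ?_
    simp [F]
  · -- Wada's sum
    have hdotE : ∀ i ≤ n, ∀ j ≤ n, ∑ α, E i α * E j α = if i = j then 1 else 0 := by
      intro i hi j hj
      by_cases hij : i = j
      · subst hij
        simp [E, hsq _ (hχR i)]
      · rw [if_neg hij]
        refine Finset.sum_eq_zero fun α _ => ?_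
        simp only [E]
        split_ifs with h1 h2 <;> simp
        exact absurd (hχinj i hi j hj (h1 ▸ h2)) hij
    have hET : ∀ i, ∑ α, E i α * E' α = 0 := fun i => Finset.sum_eq_zero fun α _ => by
      simp only [E, E']
      split_ifs with h1 h2 <;> simp
      exact absurd h2 (Finset.disjoint_left.mp hRT (h1 ▸ hχR i))
    have hTT : ∑ α, E' α * E' α = (m : ℤ) := by
      simp [E', hδ2, Finset.sum_ite_mem, hT]
    have hlast' : ∑ α, c n α * c n α = 1 + (m : ℤ) := by
      simp only [c, lt_irrefl, if_false, add_mul, mul_add, Finset.sum_add_distrib]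
      rw [Finset.sum_congr rfl fun α _ => mul_comm (E' α) (E n α), hET, hdotE n le_rfl n le_rfl,
        hTT, if_pos rfl]
      ring
    have hfirst : 0 < n → ∑ α, c 0 α * c 0 α = 2 := fun h0 => by
      simp only [c, if_pos h0, sub_mul, mul_sub, Finset.sum_sub_distrib]
      rw [hdotE 0 (by omega) 0 (by omega), hdotE 0 (by omega) (0 + 1) (by omega),
        hdotE (0 + 1) (by omega) 0 (by omega), hdotE (0 + 1) (by omega) (0 + 1) (by omega)]
      simp
    have hmid : ∀ i < n, ∑ α, (c i α + c (i + 1) α) * (c i α + c (i + 1) α) =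
        if i + 1 < n then 2 else 1 + (m : ℤ) := by
      intro i hi
      by_cases h1 : i + 1 < n
      · simp only [c, if_pos hi, if_pos h1, sub_add_sub_cancel, sub_mul, mul_sub,
          Finset.sum_sub_distrib]
        rw [hdotE i hi.le i hi.le, hdotE i hi.le (i + 1 + 1) h1, hdotE (i + 1 + 1) h1 i hi.le,
          hdotE (i + 1 + 1) h1 (i + 1 + 1) h1]
        simp
        omega
      · obtain rfl : n = i + 1 := by omega
        have e1 : ∀ α, c i α + c (i + 1) α = E i α + E' α := fun α => by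
          simp only [c, if_pos hi, lt_irrefl, if_false]; ring
        simp only [e1, lt_irrefl, if_false, add_mul, mul_add, Finset.sum_add_distrib]
        rw [Finset.sum_congr rfl fun α _ => mul_comm (E' α) (E i α), hET, hdotE i hi.le i hi.le,
          hTT, if_pos rfl]
        ring
    have hpe : (e : ℤ) + m ≤ p := by
      have h1 : 0 ≤ ((e : ℤ) - 1) * ((m : ℤ) - 1) := mul_nonneg (by omega) (by omega)
      have h2 : (e : ℤ) * m = (p : ℤ) - 1 := by
        have := hp.one_le
        exact_mod_cast (congrArg (fun x : ℕ => (x : ℤ)) hem).trans (Nat.cast_sub this)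
      nlinarith
    rw [weight, hlast', Finset.sum_congr rfl fun i hi => hmid i (Finset.mem_range.mp hi)]
    rcases Nat.eq_zero_or_pos n with h0 | h0
    · subst h0
      rw [Finset.range_zero, Finset.sum_empty, hlast']
      omega
    · obtain ⟨k, rfl⟩ := Nat.exists_eq_add_of_le' h0
      rw [hfirst h0, Finset.sum_range_succ, if_neg (by omega), Finset.sum_congr rfl fun i hi =>
        if_pos (by have := Finset.mem_range.mp hi; omega), Finset.sum_const, Finset.card_range,
        nsmul_eq_mul]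
      push_cast at *
      omega

end Cfsg.Agent.Lib.BC78.SmallCentralPrime
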