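import Cfsg.Agent.Lib.Characters.Basic
import Cfsg.Prelude.Def_Blocks
import Mathlib.RingTheory.RootsOfUnity.Complex
import Mathlib.Analysis.Complex.Norm
import Cfsg.Agent.Lib.Fgs9.HallNumbers
import Mathlib.GroupTheory.RegularWreathProduct
import Mathlib.GroupTheory.FiniteAbelian.Duality
import Mathlib.RingTheory.IntegralDomain

/-!
# Solvable groups inside quotients of groups of central type

A projective representation of a finite group `K` with trace zero off the identity and degree `d`,
`d ^ 2 = #K`, gives a fully ramified group over `K`.  Such data pass from `K` to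
`(K ≀ Q) × Hom(Q, ℂˣ)` for finite abelian `Q`.
-/

set_option autoImplicit false
set_option linter.unusedSectionVars false

namespace Cfsg.Agent.Lib.BC78.CentralTypeEmb

open Matrix
open scoped ComplexConjugate

universe u

/-- A projective representation with values of the cocycle in the `m`-th roots of unity, traces
zero off the identity and degree the square root of the order. -/
structure Data (m : ℕ) (K : Type u) [Group K] (ι : Type u) [Fintype ι] [DecidableEq ι] where
  R : K → Matrix ι ι ℂ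
  one : R 1 = 1
  mul : ∀ x y, ∃ c : ℂ, c ^ m = 1 ∧ R x * R y = c • R (x * y)
  trace_zero : ∀ x, x ≠ 1 → trace (R x) = 0
  card : Nat.card K = Fintype.card ι ^ 2

/-! ### The trivial group -/

/-- The data of a trivial group. -/
def trivialData (m : ℕ) (K : Type u) [Group K] [Subsingleton K] :
    Data m K PUnit.{u + 1} where
  R := fun _ => 1
  one := rfl
  mul := fun x y => ⟨1, one_pow _, by simp⟩
  trace_zero := fun x hx => absurd (Subsingleton.elim x 1) hx
  card := by simp

/-! ### The wreath step -/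

section step

variable {m : ℕ} {K : Type u} [Group K] {ι : Type u} [Fintype ι] [DecidableEq ι] (D : Data m K ι)
  (Q : Type u) [CommGroup Q] [Fintype Q] [DecidableEq Q]

/-- The wreath product with the dual of the top group. -/
abbrev Big (K : Type u) [Group K] (Q : Type u) [CommGroup Q] : Type u :=
  (K ≀ᵣ Q) × (Q →* ℂˣ)

/-- The product of the entries. -/
def base (l : Q → K) (q : Q) (f g : Q → ι) : ℂ := ∏ x, D.R (l x) (f x) (g (q⁻¹ * x))

/-- The matrices of the big group. -/
def bigR (z : Big K Q) : Matrix ((Q → ι) × Q) ((Q → ι) × Q) ℂ := fun fa gc =>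
  if gc.2 = z.1.right⁻¹ * fa.2 then (z.2 fa.2 : ℂ) * base D Q z.1.left z.1.right fa.1 gc.1 else 0

theorem bigR_one : bigR D Q (1 : Big K Q) = 1 := by
  ext ⟨f, a⟩ ⟨g, c⟩
  simp only [bigR, base, Prod.fst_one, Prod.snd_one, RegularWreathProduct.one_left,
    RegularWreathProduct.one_right, Pi.one_apply, D.one, inv_one, one_mul, MonoidHom.one_apply,
    Units.val_one, Matrix.one_apply, Prod.mk.injEq]
  by_cases hc : c = a
  · subst hc
    simp only [if_true, and_true]
    by_cases hf : f = g
    · subst hf; simp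
    · obtain ⟨x, hx⟩ := Function.ne_iff.mp hf
      rw [if_neg hf]
      exact Finset.prod_eq_zero (Finset.mem_univ x) (if_neg hx)
  · rw [if_neg hc, if_neg fun h => hc h.2.symm]

theorem base_mul (l l' : Q → K) (q q' : Q) (c : Q → ℂ)
    (hc : ∀ x, D.R (l x) * D.R (l' (q⁻¹ * x)) = c x • D.R (l x * l' (q⁻¹ * x))) (f h : Q → ι) :
    ∑ g : Q → ι, base D Q l q f g * base D Q l' q' g h =
      (∏ x, c x) * base D Q (fun x => l x * l' (q⁻¹ * x)) (q * q') f h := by
  simp only [base]
  have h1 : ∀ g : Q → ι, (∏ y, D.R (l' y) (g y) (h (q'⁻¹ * y))) =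
      ∏ x, D.R (l' (q⁻¹ * x)) (g (q⁻¹ * x)) (h (q'⁻¹ * (q⁻¹ * x))) := fun g =>
    (Fintype.prod_equiv (Equiv.mulLeft q⁻¹) _ _ fun x => rfl).symm
  calc ∑ g : Q → ι, (∏ x, D.R (l x) (f x) (g (q⁻¹ * x))) *
        ∏ y, D.R (l' y) (g y) (h (q'⁻¹ * y))
      = ∑ g : Q → ι, ∏ x, D.R (l x) (f x) (g x) *
          D.R (l' (q⁻¹ * x)) (g x) (h (q'⁻¹ * (q⁻¹ * x))) := by
        refine Fintype.sum_equiv (Equiv.arrowCongr (Equiv.mulLeft q) (Equiv.refl ι)) _ _ fun g => ?_
        rw [h1, ← Finset.prod_mul_distrib]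
        refine Finset.prod_congr rfl fun x _ => ?_
        simp [Equiv.arrowCongr]
    _ = ∏ x, ∑ i, D.R (l x) (f x) i * D.R (l' (q⁻¹ * x)) i (h (q'⁻¹ * (q⁻¹ * x))) :=
        (Fintype.prod_sum (fun x i =>
          D.R (l x) (f x) i * D.R (l' (q⁻¹ * x)) i (h (q'⁻¹ * (q⁻¹ * x))))).symm
    _ = ∏ x, c x * D.R (l x * l' (q⁻¹ * x)) (f x) (h ((q * q')⁻¹ * x)) := by
        refine Finset.prod_congr rfl fun x _ => ?_
        rw [← Matrix.mul_apply, hc x, Matrix.smul_apply, smul_eq_mul, _root_.mul_inv_rev, mul_assoc q'⁻¹]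
    _ = _ := Finset.prod_mul_distrib

theorem bigR_mul (hm : ∀ (q : Q) (lam : Q →* ℂˣ), (lam q : ℂ) ^ m = 1) (z z' : Big K Q) :
    ∃ c : ℂ, c ^ m = 1 ∧ bigR D Q z * bigR D Q z' = c • bigR D Q (z * z') := by
  classical
  choose c hc hmul using fun x => D.mul (z.1.left x) (z'.1.left (z.1.right⁻¹ * x))
  refine ⟨(z'.2 z.1.right⁻¹ : ℂ) * ∏ x, c x, ?_, ?_⟩
  · rw [mul_pow, hm, ← Finset.prod_pow, Finset.prod_eq_one (fun x _ => hc x), one_mul]
  ext ⟨f, a⟩ ⟨h, e⟩
  rw [Matrix.mul_apply, Fintype.sum_prod_type, Matrix.smul_apply, smul_eq_mul]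
  simp only [bigR, Prod.fst_mul, Prod.snd_mul, RegularWreathProduct.mul_left,
    RegularWreathProduct.mul_right, MonoidHom.mul_apply, Units.val_mul]
  simp only [ite_mul, zero_mul, Finset.sum_ite_eq', Finset.mem_univ, if_true]
  rw [show (z.1.right * z'.1.right)⁻¹ * a = z'.1.right⁻¹ * (z.1.right⁻¹ * a) by
    rw [_root_.mul_inv_rev, mul_assoc]]
  by_cases he : e = z'.1.right⁻¹ * (z.1.right⁻¹ * a)
  · simp only [if_pos he, map_mul, Units.val_mul]
    rw [show z.1.left * (fun x => z'.1.left (z.1.right⁻¹ * x)) =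
      fun x => z.1.left x * z'.1.left (z.1.right⁻¹ * x) from rfl,
      ← mul_assoc, mul_comm _ (base D Q _ _ f h)]
    have := base_mul D Q z.1.left z'.1.left z.1.right z'.1.right c hmul f h
    calc ∑ g : Q → ι, (z.2 a : ℂ) * base D Q z.1.left z.1.right f g *
          ((z'.2 z.1.right⁻¹ : ℂ) * (z'.2 a : ℂ) * base D Q z'.1.left z'.1.right g h)
        = (z.2 a : ℂ) * (z'.2 z.1.right⁻¹ : ℂ) * (z'.2 a : ℂ) *
            ∑ g : Q → ι, base D Q z.1.left z.1.right f g *
              base D Q z'.1.left z'.1.right g h := by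
          rw [Finset.mul_sum]
          exact Finset.sum_congr rfl fun g _ => by ring
      _ = _ := by rw [this]; ring
  · simp only [if_neg he, mul_zero, Finset.sum_const_zero]

theorem trace_bigR (z : Big K Q) (hz : z ≠ 1) : trace (bigR D Q z) = 0 := by
  classical
  obtain ⟨⟨l, q⟩, lam⟩ := z
  rw [Matrix.trace, Fintype.sum_prod_type]
  simp only [Matrix.diag, bigR]
  by_cases hq : q = 1
  · subst hq
    simp only [inv_one, one_mul, if_true]
    rw [Finset.sum_comm]
    simp only [← Finset.mul_sum]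
    rw [← Finset.sum_mul]
    by_cases hlam : lam = 1
    · have hl : ∃ x, l x ≠ 1 := by
        by_contra hh
        push Not at hh
        exact hz (Prod.ext (RegularWreathProduct.ext (funext hh) rfl) hlam)
      obtain ⟨x₀, hx₀⟩ := hl
      have h0 : ∑ f : Q → ι, base D Q l 1 f f = 0 := by
        simp only [base, inv_one, one_mul]
        rw [← Fintype.prod_sum (fun x i => D.R (l x) i i)]
        exact Finset.prod_eq_zero (Finset.mem_univ x₀) (D.trace_zero _ hx₀)
      rw [h0, mul_zero]
    · have h0 : ∑ a : Q, ((Units.coeHom ℂ).comp lam) a = 0 := sum_hom_units_eq_zero _ fun h =>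
        hlam (MonoidHom.ext fun a => Units.ext (by simpa using DFunLike.congr_fun h a))
      simp only [MonoidHom.coe_comp, Function.comp_apply, Units.coeHom_apply] at h0
      rw [h0, zero_mul]
  · refine Finset.sum_eq_zero fun f _ => Finset.sum_eq_zero fun a _ => if_neg fun h => hq ?_
    have h' : q⁻¹ * a = 1 * a := by rw [one_mul]; exact h.symm
    exact inv_eq_one.mp (mul_right_cancel h')

/-- The data of the big group. -/
def bigData (hm : ∀ (q : Q) (lam : Q →* ℂˣ), (lam q : ℂ) ^ m = 1) :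
    Data m (Big K Q) ((Q → ι) × Q) where
  R := bigR D Q
  one := bigR_one D Q
  mul := bigR_mul D Q hm
  trace_zero := trace_bigR D Q
  card := by
    rw [Nat.card_prod, RegularWreathProduct.card,
      CommGroup.card_monoidHom_of_hasEnoughRootsOfUnity, D.card, Fintype.card_prod,
      Fintype.card_fun, Nat.card_eq_fintype_card, mul_pow, ← pow_mul, ← pow_mul, mul_comm 2]
    ring

end step

/-! ### Embedding solvable groups -/

/-- Every finite solvable group lies in a group with such data, with the same primes. -/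
theorem exists_data (m : ℕ) : ∀ (n : ℕ) (G : Type u) [Group G] [Finite G], Group.IsSolvable G →
    Nat.card G = n → (∀ p, p.Prime → p ∣ n → p ∣ m) →
    ∃ (K : Type u) (_ : Group K) (_ : Finite K) (ι : Type u) (_ : Fintype ι) (_ : DecidableEq ι)
      (_ : Data m K ι), (∀ p, p.Prime → p ∣ Nat.card K → p ∣ n) ∧
      ∃ f : G →* K, Function.Injective f := by
  classical
  intro n
  induction n using Nat.strong_induction_on with
  | _ n ih =>
    intro G _ _ hsolv hn hm
    rcases subsingleton_or_nontrivial G with hG | hG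
    · refine ⟨G, inferInstance, inferInstance, PUnit, inferInstance, inferInstance,
        trivialData m G, fun p _ hd => hn ▸ hd, MonoidHom.id G, Function.injective_id⟩
    · haveI := hsolv
      obtain ⟨N, hN, hp⟩ := Lib.Fgs9.HallNumbers.exists_normal_prime_index G
      have hlt : Nat.card N < n := by
        rw [← hn, ← N.card_mul_index]
        exact lt_mul_of_one_lt_right Nat.card_pos hp.one_lt
      have hdn : Nat.card N ∣ n := hn ▸ Subgroup.card_subgroup_dvd_card N
      have hpn : N.index ∣ n := hn ▸ N.index_dvd_card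
      obtain ⟨K, _, _, ι, _, _, D, hpr, f, hf⟩ :=
        ih _ hlt N inferInstance rfl fun p hp' hd => hm p hp' (hd.trans hdn)
      haveI : Fact N.index.Prime := ⟨hp⟩
      haveI : IsCyclic (G ⧸ N) := isCyclic_of_prime_card (p := N.index) N.index_eq_card.symm
      letI : CommGroup (G ⧸ N) := IsCyclic.commGroup
      letI := Fintype.ofFinite (G ⧸ N)
      have hroot : ∀ (q : G ⧸ N) (lam : G ⧸ N →* ℂˣ), (lam q : ℂ) ^ m = 1 := fun q lam => by
        obtain ⟨k, hk⟩ := (show Nat.card (G ⧸ N) ∣ m from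
          N.index_eq_card ▸ hm _ hp hpn)
        rw [← Units.val_pow_eq_pow_val, ← map_pow, hk, pow_mul, pow_card_eq_one', one_pow, map_one,
          Units.val_one]
      have hcdual := CommGroup.card_monoidHom_of_hasEnoughRootsOfUnity (G ⧸ N) ℂ
      haveI : Finite (G ⧸ N →* ℂˣ) := Nat.finite_of_card_ne_zero (by
        rw [hcdual]; exact Nat.card_pos.ne')
      refine ⟨Big K (G ⧸ N), inferInstance, inferInstance, ((G ⧸ N) → ι) × (G ⧸ N), inferInstance,
        inferInstance, bigData D (G ⧸ N) hroot, fun p hp' hd => ?_, ?_⟩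
      · rw [Nat.card_prod, RegularWreathProduct.card, hcdual, ← N.index_eq_card] at hd
        rcases (Nat.Prime.dvd_mul hp').mp hd with h | h
        · rcases (Nat.Prime.dvd_mul hp').mp h with h' | h'
          · exact (hpr p hp' (hp'.dvd_of_dvd_pow h')).trans hdn
          · exact h'.trans hpn
        · exact h.trans hpn
      have hs : ∀ q : G ⧸ N, ((q.out : G) : G ⧸ N) = q := Quotient.out_eq
      let φ : G →* K ≀ᵣ (G ⧸ N) := MonoidHom.mk' (fun g => ⟨fun q =>
        f ⟨q.out⁻¹ * g * ((g : G ⧸ N)⁻¹ * q).out, by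
          rw [← QuotientGroup.eq_one_iff, QuotientGroup.mk_mul, QuotientGroup.mk_mul,
            QuotientGroup.mk_inv, hs, hs]
          group⟩, (g : G ⧸ N)⟩) (fun a b => by
        refine RegularWreathProduct.ext (funext fun q => ?_) rfl
        simp only [RegularWreathProduct.mul_left, Pi.mul_apply]
        rw [← map_mul]
        refine congrArg f (Subtype.ext ?_)
        show _ = q.out⁻¹ * a * ((a : G ⧸ N)⁻¹ * q).out *
          (((a : G ⧸ N)⁻¹ * q).out⁻¹ * b * ((b : G ⧸ N)⁻¹ * ((a : G ⧸ N)⁻¹ * q)).out)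
        simp only [show ((a * b : G) : G ⧸ N)⁻¹ * q = (b : G ⧸ N)⁻¹ * ((a : G ⧸ N)⁻¹ * q) by
          rw [QuotientGroup.mk_mul, _root_.mul_inv_rev, mul_assoc]]
        group)
      refine ⟨φ.prod 1, (injective_iff_map_eq_one _).2 fun g hg => ?_⟩
      have hg' : φ g = 1 := congrArg Prod.fst hg
      have h1 : (g : G ⧸ N) = 1 := congrArg RegularWreathProduct.right hg'
      have h2 : f _ = 1 := congrFun (congrArg RegularWreathProduct.left hg') 1
      rw [← map_one f] at h2
      have h3 : (1 : G ⧸ N).out⁻¹ * g * ((g : G ⧸ N)⁻¹ * 1).out = 1 :=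
        congrArg Subtype.val (hf h2)
      rw [h1, inv_one, one_mul, mul_assoc, inv_mul_eq_one] at h3
      exact right_eq_mul.1 h3 |> id

/-! ### The group of central type -/

section model

variable {m : ℕ} [NeZero m] {K : Type u} [Group K] [Finite K] {ι : Type u} [Fintype ι]
  [DecidableEq ι] (D : Data m K ι)

include D in
theorem card_pos' : 0 < Fintype.card ι := by
  rcases Nat.eq_zero_or_pos (Fintype.card ι) with h | h
  · exact absurd D.card (by rw [h]; simpa using Nat.card_pos.ne')
  · exact h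

theorem ne_zero_of_pow {c : ℂ} (hc : c ^ m = 1) : c ≠ 0 := by
  rintro rfl
  rw [zero_pow (NeZero.ne m)] at hc
  exact zero_ne_one hc

theorem trace_R [DecidableEq K] (x : K) :
    trace (D.R x) = if x = 1 then (Fintype.card ι : ℂ) else 0 := by
  split_ifs with h
  · rw [h, D.one, Matrix.trace_one]
  · exact D.trace_zero x h

/-- The group of scalar multiples of the matrices. -/
def model : Subgroup (Matrix ι ι ℂ)ˣ where
  carrier := {v | ∃ (w : ℂ) (x : K), w ^ m = 1 ∧ (v : Matrix ι ι ℂ) = w • D.R x}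
  one_mem' := ⟨1, 1, one_pow _, by rw [D.one, one_smul, Units.val_one]⟩
  mul_mem' := by
    rintro v v' ⟨w, x, hw, hv⟩ ⟨w', x', hw', hv'⟩
    obtain ⟨c, hc, hmul⟩ := D.mul x x'
    refine ⟨w * w' * c, x * x', by rw [mul_pow, mul_pow, hw, hw', hc]; ring, ?_⟩
    rw [Units.val_mul, hv, hv', Matrix.smul_mul, Matrix.mul_smul, hmul, smul_smul, smul_smul]
  inv_mem' := by
    rintro v ⟨w, x, hw, hv⟩
    obtain ⟨c, hc, hmul⟩ := D.mul x x⁻¹
    refine ⟨(w * c)⁻¹, x⁻¹, by rw [inv_pow, mul_pow, hw, hc]; simp, Units.inv_eq_of_mul_eq_one_right ?_⟩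
    rw [hv, Matrix.smul_mul, Matrix.mul_smul, hmul, mul_inv_cancel, D.one, smul_smul, smul_smul]
    rw [mul_inv, show w * (w⁻¹ * c⁻¹) * c = (w * w⁻¹) * (c⁻¹ * c) by ring,
      mul_inv_cancel₀ (ne_zero_of_pow hw), inv_mul_cancel₀ (ne_zero_of_pow hc), one_mul, one_smul]

theorem eq_of_smul_eq {w w' : ℂ} {x y : K} (hw : w ^ m = 1) (hw' : w' ^ m = 1)
    (h : w • D.R x = w' • D.R y) : x = y ∧ w = w' := by
  classical
  have hd : (Fintype.card ι : ℂ) ≠ 0 := Nat.cast_ne_zero.mpr (card_pos' D).ne'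
  have hxy : x = y := by
    by_contra hne
    obtain ⟨c, hc, hmul⟩ := D.mul x y⁻¹
    obtain ⟨c', hc', hmul'⟩ := D.mul y y⁻¹
    have h' := congrArg trace (congrArg (fun A => A * D.R y⁻¹) h)
    simp only [Matrix.smul_mul, hmul, hmul', smul_smul, Matrix.trace_smul, trace_R, mul_inv_cancel,
      if_true, mul_inv_eq_one, if_neg hne, smul_eq_mul, mul_zero] at h'
    exact mul_ne_zero (mul_ne_zero (ne_zero_of_pow hw') (ne_zero_of_pow hc')) hd h'.symm
  subst hxy
  refine ⟨rfl, ?_⟩
  obtain ⟨c', hc', hmul'⟩ := D.mul x x⁻¹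
  have h' := congrArg trace (congrArg (fun A => A * D.R x⁻¹) h)
  simp only [Matrix.smul_mul, hmul', smul_smul, Matrix.trace_smul, trace_R, mul_inv_cancel,
    if_true, smul_eq_mul] at h'
  exact mul_right_cancel₀ (mul_ne_zero (ne_zero_of_pow hc') hd)
    (by rw [← mul_assoc, ← mul_assoc]; exact h')

/-- The quotient coordinate. -/
noncomputable def proj : model D →* K :=
  MonoidHom.mk' (fun v => v.2.choose_spec.choose) fun v v' => by
    have key : ∀ (u : model D) (w : ℂ) (x : K), w ^ m = 1 →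
        ((u : (Matrix ι ι ℂ)ˣ) : Matrix ι ι ℂ) = w • D.R x → u.2.choose_spec.choose = x := by
      intro u w x hw hu
      obtain ⟨hw', hu'⟩ := u.2.choose_spec.choose_spec
      exact (eq_of_smul_eq D hw' hw (hu'.symm.trans hu)).1
    obtain ⟨hw, hv⟩ := v.2.choose_spec.choose_spec
    obtain ⟨hw', hv'⟩ := v'.2.choose_spec.choose_spec
    obtain ⟨c, hc, hmul⟩ := D.mul v.2.choose_spec.choose v'.2.choose_spec.choose
    refine key (v * v') _ _ (show (v.2.choose * v'.2.choose * c) ^ m = 1 by
      rw [mul_pow, mul_pow, hw, hw', hc]; ring) ?_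
    rw [Subgroup.coe_mul, Units.val_mul]
    conv_lhs => rw [hv, hv']
    rw [Matrix.smul_mul, Matrix.mul_smul, hmul, smul_smul, smul_smul]

theorem proj_spec (v : model D) :
    ∃ w : ℂ, w ^ m = 1 ∧ ((v : (Matrix ι ι ℂ)ˣ) : Matrix ι ι ℂ) = w • D.R (proj D v) :=
  ⟨v.2.choose, v.2.choose_spec.choose_spec⟩

theorem isUnit_smul {w : ℂ} (hw : w ^ m = 1) (x : K) : IsUnit (w • D.R x) := by
  obtain ⟨c, hc, hmul⟩ := D.mul x x⁻¹
  refine IsUnit.of_mul_eq_one ((w * c)⁻¹ • D.R x⁻¹) ?_
  rw [Matrix.smul_mul, Matrix.mul_smul, hmul, mul_inv_cancel, D.one, smul_smul, smul_smul,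
    mul_inv, show w * (w⁻¹ * c⁻¹) * c = (w * w⁻¹) * (c⁻¹ * c) by ring,
    mul_inv_cancel₀ (ne_zero_of_pow hw), inv_mul_cancel₀ (ne_zero_of_pow hc), one_mul, one_smul]

/-- An element of the model. -/
noncomputable def elt (w : rootsOfUnity m ℂ) (x : K) : model D :=
  ⟨(isUnit_smul D (show ((w : ℂˣ) : ℂ) ^ m = 1 by
      rw [← Units.val_pow_eq_pow_val, (mem_rootsOfUnity m (w : ℂˣ)).mp w.2, Units.val_one]) x).unit,
    ((w : ℂˣ) : ℂ), x, by
      rw [← Units.val_pow_eq_pow_val, (mem_rootsOfUnity m (w : ℂˣ)).mp w.2, Units.val_one],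
    IsUnit.unit_spec _⟩

theorem coe_elt (w : rootsOfUnity m ℂ) (x : K) :
    ((elt D w x : (Matrix ι ι ℂ)ˣ) : Matrix ι ι ℂ) = ((w : ℂˣ) : ℂ) • D.R x := IsUnit.unit_spec _

theorem elt_bijective : Function.Bijective fun z : rootsOfUnity m ℂ × K => elt D z.1 z.2 := by
  constructor
  · intro a b h
    have h' := congrArg (fun v : model D => ((v : (Matrix ι ι ℂ)ˣ) : Matrix ι ι ℂ)) h
    simp only [coe_elt] at h'
    have hp : ∀ w : rootsOfUnity m ℂ, ((w : ℂˣ) : ℂ) ^ m = 1 := fun w => by
      rw [← Units.val_pow_eq_pow_val, (mem_rootsOfUnity m (w : ℂˣ)).mp w.2, Units.val_one]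
    obtain ⟨h1, h2⟩ := eq_of_smul_eq D (hp a.1) (hp b.1) h'
    exact Prod.ext (Subtype.ext (Units.ext h2)) h1
  · rintro ⟨v, w, x, hw, hv⟩
    refine ⟨(⟨Units.mk0 w (ne_zero_of_pow hw), ?_⟩, x), Subtype.ext (Units.ext ?_)⟩
    · exact (mem_rootsOfUnity m _).mpr (Units.ext (by simpa using hw))
    · rw [coe_elt]; exact hv.symm

theorem finite_model : Finite (model D) := Finite.of_surjective _ (elt_bijective D).2

theorem card_model : Nat.card (model D) = m * Nat.card K := by
  rw [← Nat.card_eq_of_bijective _ (elt_bijective D), Nat.card_prod, Complex.card_rootsOfUnity]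

/-- The character. -/
noncomputable def chi : model D → ℂ := fun v => trace ((v : (Matrix ι ι ℂ)ˣ) : Matrix ι ι ℂ)

theorem isCharacter_chi : Cfsg.IsCharacter (model D) (chi D) := by
  let ρ : Representation ℂ (model D) (ι → ℂ) :=
    ((Matrix.toLinAlgEquiv' (R := ℂ) (n := ι)).toMonoidHom.comp (Units.coeHom _)).comp
      (model D).subtype
  have h : ρ.character = chi D := funext fun v => by
    show LinearMap.trace ℂ (ι → ℂ) (ρ v) = _
    exact Matrix.trace_toLin'_eq _
  exact h ▸ Characters.Basic.isCharacter_character ρ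

theorem chi_elt [DecidableEq K] (w : rootsOfUnity m ℂ) (x : K) :
    chi D (elt D w x) = ((w : ℂˣ) : ℂ) * if x = 1 then (Fintype.card ι : ℂ) else 0 := by
  rw [chi, coe_elt, Matrix.trace_smul, trace_R, smul_eq_mul]

theorem chi_of_proj_ne (v : model D) (h : proj D v ≠ 1) : chi D v = 0 := by
  classical
  obtain ⟨w, -, hv⟩ := proj_spec D v
  rw [chi, hv, Matrix.trace_smul, trace_R, if_neg h, smul_zero]

theorem isIrr_chi : Cfsg.IsIrrCharacter (model D) (chi D) := by
  haveI := finite_model D
  letI := Fintype.ofFinite (model D)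
  letI := Fintype.ofFinite K
  letI := Fintype.ofFinite (rootsOfUnity m ℂ)
  classical
  refine Characters.Basic.isIrrCharacter_of_classInner_self (isCharacter_chi D) ?_
  rw [Cfsg.classInner, card_model,
    ← Fintype.sum_equiv (Equiv.ofBijective _ (elt_bijective D))
      (fun z => chi D (elt D z.1 z.2) * conj (chi D (elt D z.1 z.2))) _ fun z => rfl]
  rw [Fintype.sum_prod_type]
  have hval : ∀ (w : rootsOfUnity m ℂ),
      ∑ x : K, chi D (elt D w x) * conj (chi D (elt D w x)) = (Fintype.card ι : ℂ) ^ 2 := by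
    intro w
    have hu : ‖((w : ℂˣ) : ℂ)‖ = 1 := by
      refine Complex.norm_eq_one_of_pow_eq_one ?_ (NeZero.ne m)
      rw [← Units.val_pow_eq_pow_val, (mem_rootsOfUnity m (w : ℂˣ)).mp w.2, Units.val_one]
    rw [Finset.sum_eq_single (1 : K) (fun x _ hx => by simp [chi_elt, hx]) (by simp), chi_elt,
      if_pos rfl, map_mul, Complex.conj_natCast, mul_mul_mul_comm, Complex.mul_conj',
      hu, Complex.ofReal_one, one_pow, one_mul, sq]
  simp only [hval, Finset.sum_const, Finset.card_univ, ← Nat.card_eq_fintype_card,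
    Complex.card_rootsOfUnity, nsmul_eq_mul]
  rw [D.card, Nat.card_eq_fintype_card (α := ι)] at *
  rw [Nat.cast_mul, Nat.cast_pow, inv_mul_cancel₀]
  refine mul_ne_zero (Nat.cast_ne_zero.mpr (NeZero.ne m)) (pow_ne_zero _ ?_)
  exact Nat.cast_ne_zero.mpr (card_pos' D).ne'

theorem chi_one : chi D 1 = Fintype.card ι := by
  rw [chi, Subgroup.coe_one, Units.val_one, Matrix.trace_one]

theorem charDegree_chi : Cfsg.charDegree (chi D) = Fintype.card ι := by
  rw [Cfsg.charDegree, chi_one, Complex.natCast_re, Nat.floor_natCast]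

theorem faithful_chi (v : model D) (h : chi D v = chi D 1) : v = 1 := by
  have hd : (Fintype.card ι : ℂ) ≠ 0 := Nat.cast_ne_zero.mpr (card_pos' D).ne'
  obtain ⟨w, hw, hv⟩ := proj_spec D v
  by_cases hx : proj D v = 1
  · rw [hx, D.one] at hv
    rw [chi, hv, chi_one, Matrix.trace_smul, Matrix.trace_one, smul_eq_mul] at h
    refine Subtype.ext (Units.ext ?_)
    rw [hv, mul_eq_right₀ hd |>.mp h, one_smul]
    rfl
  · rw [chi_of_proj_ne D v hx, chi_one] at h
    exact absurd h.symm hd

theorem proj_surjective : Function.Surjective (proj D) := fun x => by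
  refine ⟨elt D 1 x, ?_⟩
  obtain ⟨w, hw, hv⟩ := proj_spec D (elt D 1 x)
  rw [coe_elt] at hv
  exact (eq_of_smul_eq D (by simp) hw hv).1.symm

theorem center_model : Subgroup.center (model D) = (proj D).ker := by
  refine le_antisymm (fun v hv => ?_) fun v hv => ?_
  · rw [MonoidHom.mem_ker]
    by_contra hne
    have hd : (Fintype.card ι : ℂ) ≠ 0 := Nat.cast_ne_zero.mpr (card_pos' D).ne'
    obtain ⟨n, σ, hirr, hσ⟩ := isIrr_chi D
    haveI := hirr
    let F : Representation.IntertwiningMap σ σ :=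
      { toLinearMap := σ v
        isIntertwining' := fun h => by
          show σ v * σ h = σ h * σ v
          rw [← map_mul, ← map_mul, Subgroup.mem_center_iff.mp hv h] }
    obtain ⟨t, ht⟩ :=
      (Representation.IsIrreducible.algebraMap_intertwiningMap_bijective_of_isAlgClosed
        (ρ := σ)).2 F
    have ht' : σ v = t • (1 : Module.End ℂ (Fin n → ℂ)) :=
      (congrArg Representation.IntertwiningMap.toLinearMap ht).symm
    have htr := congrFun hσ v
    rw [chi_of_proj_ne D v hne] at htr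
    change LinearMap.trace ℂ _ (σ v) = 0 at htr
    have h1 := congrFun hσ 1
    rw [chi_one] at h1
    change LinearMap.trace ℂ _ (σ 1) = _ at h1
    rw [map_one] at h1
    rw [ht', map_smul, h1, smul_eq_mul, mul_eq_zero] at htr
    rcases htr with ht0 | h0
    · rw [ht0, zero_smul] at ht'
      have := map_mul σ v v⁻¹
      rw [mul_inv_cancel, map_one, ht', zero_mul] at this
      rw [this, map_zero] at h1
      exact hd h1.symm
    · exact hd h0
  · rw [Subgroup.mem_center_iff]
    intro g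
    obtain ⟨w, -, hw⟩ := proj_spec D v
    rw [MonoidHom.mem_ker.mp hv, D.one] at hw
    refine Subtype.ext (Units.ext ?_)
    rw [Subgroup.coe_mul, Subgroup.coe_mul, Units.val_mul, Units.val_mul, hw, Matrix.smul_mul,
      Matrix.mul_smul, one_mul, mul_one]

theorem index_center : (Subgroup.center (model D)).index = Fintype.card ι ^ 2 := by
  rw [center_model, Subgroup.index_ker, MonoidHom.range_eq_top.mpr (proj_surjective D),
    Subgroup.card_top, D.card]

theorem card_center : Nat.card (Subgroup.center (model D)) = m := by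
  have h := (Subgroup.center (model D)).card_mul_index
  rw [index_center, card_model, D.card] at h
  exact Nat.eq_of_mul_eq_mul_right (pow_pos (card_pos' D) 2) h

end model

end Cfsg.Agent.Lib.BC78.CentralTypeEmb
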