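import Cfsg.Agent.Lib.Clifford.Extension
import Cfsg.Agent.Lib.BC78.Clifford
import Mathlib.GroupTheory.SpecificGroups.Cyclic

/-!
# Extension of invariant characters over a cyclic quotient
-/

namespace Cfsg.Agent.Lib.BC78.CyclicExt

open Cfsg.Agent.Lib.Characters.Basic Cfsg.Agent.Lib.BC78.Clifford

universe u

variable {G : Type u} [Group G] [Finite G] (N : Subgroup G) [hN : N.Normal]
  {V : Type} [AddCommGroup V] [Module ℂ V] [FiniteDimensional ℂ V]

/-- An irreducible representation of `N` invariant in `G` extends when `G / N` is cyclic. -/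
theorem exists_rep_extension [IsCyclic (G ⧸ N)] (ρ : Representation ℂ N V) [ρ.IsIrreducible]
    (hinv : ∀ g, (Lib.Clifford.Extension.conjRep N ρ g).character = ρ.character) :
    ∃ σ : Representation ℂ G V, ∀ n : N, σ n = ρ n := by
  classical
  obtain ⟨q, hq⟩ := IsCyclic.exists_generator (α := G ⧸ N)
  obtain ⟨x, rfl⟩ := QuotientGroup.mk'_surjective N q
  set c := N.index with hc
  have hcpos : 0 < c := Nat.pos_of_ne_zero Subgroup.index_ne_zero_of_finite
  have hord : orderOf (QuotientGroup.mk' N x) = c := by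
    rw [hc, Subgroup.index_eq_card]
    exact orderOf_eq_card_of_forall_mem_zpowers hq
  have hxc : x ^ c ∈ N := by
    rw [← QuotientGroup.eq_one_iff, ← QuotientGroup.mk'_apply, map_pow, ← hord,
      pow_orderOf_eq_one]
  obtain ⟨A, hAdet, hA⟩ := Lib.Clifford.Extension.exists_intertwiner N ρ x 1 (hinv x)
  have hpow : ∀ (B : Module.End ℂ V),
      (∀ n : N, B * ρ n = ρ ⟨x * n * x⁻¹, hN.conj_mem n n.2 x⟩ * B) → ∀ (i : ℕ) (n : N),
      B ^ i * ρ n = ρ ⟨x ^ i * n * (x ^ i)⁻¹, hN.conj_mem n n.2 _⟩ * B ^ i := by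
    intro B hB i
    induction i with
    | zero =>
      intro n
      rw [pow_zero, one_mul, mul_one]
      exact congrArg ρ (Subtype.ext (by simp))
    | succ i ih =>
      intro n
      rw [pow_succ, mul_assoc, hB, ← mul_assoc, ih, mul_assoc]
      exact congrArg (· * (B ^ i * B)) (congrArg ρ (Subtype.ext (by simp [pow_succ, mul_assoc])))
  let n₀ : N := ⟨x ^ c, hxc⟩
  obtain ⟨l, hl⟩ := Lib.Clifford.Rep.schur ρ (ρ n₀⁻¹ * A ^ c) (fun m => by
    rw [mul_assoc, hpow A hA c m, ← mul_assoc, ← mul_assoc]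
    refine congrArg (· * A ^ c) ?_
    rw [← map_mul, ← map_mul]
    exact congrArg ρ (Subtype.ext (by simp [n₀, mul_assoc])))
  have hl' : A ^ c = l • ρ n₀ := by
    have := congrArg (ρ n₀ * ·) hl
    rwa [← mul_assoc, ← map_mul, mul_inv_cancel, map_one, one_mul, mul_smul_comm, mul_one] at this
  have hl0 : l ≠ 0 := by
    rintro rfl
    rw [zero_smul] at hl'
    have h := congrArg LinearMap.det hl'
    rw [map_pow, hAdet, Units.val_one, one_pow, LinearMap.det_zero] at h
    have hd : Module.finrank ℂ V ≠ 0 := by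
      have := Lib.Clifford.Rep.nontrivial_of_irreducible ρ
      exact Module.finrank_pos.ne'
    rw [zero_pow hd] at h
    exact one_ne_zero h
  obtain ⟨s, hs⟩ := IsAlgClosed.exists_pow_nat_eq l⁻¹ hcpos
  set T := s • A with hTdef
  have hT : ∀ n : N, T * ρ n = ρ ⟨x * n * x⁻¹, hN.conj_mem n n.2 x⟩ * T := fun n => by
    rw [hTdef, smul_mul_assoc, hA, mul_smul_comm]
  have hTc : T ^ c = ρ n₀ := by
    rw [hTdef, smul_pow, hs, hl', smul_smul, inv_mul_cancel₀ hl0, one_smul]
  have hTck : ∀ k : ℕ, T ^ (c * k) = ρ (n₀ ^ k) := fun k => by rw [pow_mul, hTc, map_pow]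
  -- coordinates
  have hex : ∀ g : G, ∃ i < c, g * (x ^ i)⁻¹ ∈ N := by
    intro g
    obtain ⟨i, hi, hi'⟩ : ∃ i < orderOf (QuotientGroup.mk' N x),
        QuotientGroup.mk' N x ^ i = QuotientGroup.mk' N g := by
      have h := (IsOfFinOrder.mem_powers_iff_mem_zpowers (isOfFinOrder_of_finite _)).2
        (hq (QuotientGroup.mk' N g))
      obtain ⟨i, hi⟩ := h
      exact ⟨i % orderOf (QuotientGroup.mk' N x), Nat.mod_lt _ (orderOf_pos _),
        (pow_mod_orderOf _ _).trans hi⟩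
    refine ⟨i, hord ▸ hi, ?_⟩
    rw [← QuotientGroup.eq_one_iff, ← QuotientGroup.mk'_apply, map_mul, map_inv, map_pow, hi',
      mul_inv_cancel]
  choose idx hidx hmem using hex
  let σf : G → Module.End ℂ V := fun g => ρ ⟨g * (x ^ idx g)⁻¹, hmem g⟩ * T ^ idx g
  have hval : ∀ (g : G) (n : N) (i : ℕ), (n : G) * x ^ i = g → σf g = ρ n * T ^ i := by
    intro g n i hg
    have h1 : QuotientGroup.mk' N x ^ idx g = QuotientGroup.mk' N x ^ i := by
      rw [← map_pow, ← map_pow]
      apply QuotientGroup.eq.2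
      have h2 : (x ^ idx g)⁻¹ * x ^ i = (x ^ idx g)⁻¹ *
          ((n : G)⁻¹ * (g * (x ^ idx g)⁻¹)) * ((x ^ idx g)⁻¹)⁻¹ := by
        simp [← hg, mul_assoc]
      rw [h2]
      exact hN.conj_mem _ (N.mul_mem (N.inv_mem n.2) (hmem g)) _
    have h2 : idx g = i % c := by
      have h3 := pow_eq_pow_iff_modEq.1 h1
      rw [hord] at h3
      rw [← h3, Nat.mod_eq_of_lt (hidx g)]
    have h3 : i = c * (i / c) + idx g := by rw [h2, Nat.div_add_mod]
    have h4 : (⟨g * (x ^ idx g)⁻¹, hmem g⟩ : N) = n * n₀ ^ (i / c) := by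
      apply Subtype.ext
      simp only [n₀, Subgroup.coe_mul, SubgroupClass.coe_pow, ← pow_mul]
      rw [← hg, mul_assoc]
      congr 1
      rw [mul_inv_eq_iff_eq_mul, ← pow_add, hg, ← h3]
    change ρ _ * T ^ idx g = _
    rw [h4, map_mul, mul_assoc, ← hTck, ← pow_add, ← h3]
  have hone : σf 1 = 1 := by
    rw [hval 1 1 0 (by simp), map_one, pow_zero, one_mul]
  have hmul : ∀ a b : G, σf (a * b) = σf a * σf b := by
    intro a b
    let na : N := ⟨a * (x ^ idx a)⁻¹, hmem a⟩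
    let nb : N := ⟨b * (x ^ idx b)⁻¹, hmem b⟩
    let nc : N := ⟨x ^ idx a * nb * (x ^ idx a)⁻¹, hN.conj_mem nb nb.2 _⟩
    rw [hval (a * b) (na * nc) (idx a + idx b) (by simp [na, nb, nc, pow_add, mul_assoc])]
    change _ = ρ na * T ^ idx a * (ρ nb * T ^ idx b)
    rw [mul_assoc (ρ na), ← mul_assoc (T ^ idx a), hpow T hT, map_mul, pow_add]
    simp only [mul_assoc]
    congr 3
    apply Subtype.ext
    simp [nc, mul_assoc]
  let σ : Representation ℂ G V := { toFun := σf, map_one' := hone, map_mul' := hmul }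
  exact ⟨σ, fun n => by
    change σf n = _
    rw [hval n n 0 (by simp), pow_zero, mul_one]⟩

/-- An invariant irreducible character extends over a cyclic quotient. -/
theorem exists_extension [IsCyclic (G ⧸ N)] (θ : Cfsg.IrrCharacter N)
    (hinv : ∀ g : G, conjIrr N θ g = θ) :
    ∃ η : Cfsg.IrrCharacter G, ∀ n : N, (η : G → ℂ) n = (θ : N → ℂ) n := by
  obtain ⟨k, ρ, hρ, hρθ⟩ := exists_rep θ
  haveI := hρ
  obtain ⟨σ, hσ⟩ := exists_rep_extension N ρ (fun g => funext fun n => by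
    change ρ.character _ = ρ.character n
    rw [hρθ]
    exact congrFun (congrArg Subtype.val (hinv g)) n)
  haveI := Lib.Clifford.Extension.isIrreducible_of_restrict N ρ σ hσ
  refine ⟨⟨σ.character, ⟨k, σ, inferInstance, rfl⟩⟩, fun n => ?_⟩
  rw [← hρθ]
  change LinearMap.trace ℂ _ (σ n) = LinearMap.trace ℂ _ (ρ n)
  rw [hσ]

end Cfsg.Agent.Lib.BC78.CyclicExt
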