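import Cfsg.Agent.Lib.BC78.Subsections
import Cfsg.Agent.Lib.Blocks.ContribBound
import Cfsg.Agent.Lib.Blocks.Vanishing

/-!
# Blocks with a defect group of order two

* `card_eq_two`, `regular_smul` : two characters with proportional regular parts;
* `section_sum` : sums of class functions supported on the regular section and one other section;
* `central_case` : a defect group generated by a central involution.
-/

set_option autoImplicit false

namespace Cfsg.Agent.Lib.BC78.DefectOne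

open scoped ComplexConjugate
open Cfsg.Agent.Lib.Blocks Cfsg.Agent.Lib.Blocks.Contrib
open Cfsg.Agent.Lib.Induced.Basic Cfsg.Agent.Lib.Characters.Basic
open Cfsg.Agent.Lib.BC78

universe u

variable {G : Type u} [Group G] [Finite G] {M : Ideal Cfsg.AlgInt} [M.IsMaximal]
  (hM : Cfsg.IsPModular 2 M) {B : Set (Cfsg.IrrCharacter G)} (hB : Cfsg.IsPBlock M B)
  (hd : Cfsg.blockDefect 2 B = 1)

include hM hB hd

/-- Exactly two characters. -/
theorem card_eq_two : Nat.card B = 2 := by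
  haveI : Fact (Nat.Prime 2) := ⟨Nat.prime_two⟩
  have h1 := four_mul_card_le hM hB
  rw [hd, show 2 ^ (2 * 1) + 4 = 8 from rfl] at h1
  have h2 : Nat.card B ≠ 1 := fun h => by
    rw [(card_eq_one_iff hM hB).1 h] at hd; omega
  have h3 : 0 < Nat.card B := by
    haveI := Fintype.ofFinite B
    obtain ⟨χ, hχ⟩ := isPBlock_nonempty hB
    rw [Nat.card_eq_fintype_card]
    exact Fintype.card_pos_iff.2 ⟨⟨χ, hχ⟩⟩
  omega

/-- Proportional regular parts. -/
theorem regular_smul {χ ψ : Cfsg.IrrCharacter G} (hχ : χ ∈ B) (hψ : ψ ∈ B) {g : G}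
    (hg : ¬ 2 ∣ orderOf g) :
    (ψ : G → ℂ) g = (ψ : G → ℂ) 1 / (χ : G → ℂ) 1 * (χ : G → ℂ) g := by
  haveI : Fact (Nat.Prime 2) := ⟨Nat.prime_two⟩
  have hk := card_eq_two hM hB hd
  have hr : Cfsg.blockRank 2 B ≤ 1 := by
    have h1 := blockRank_le (p := 2) (B := B)
    have h2 : Cfsg.blockRank 2 B ≠ Nat.card B := fun h => by
      rw [(blockRank_eq_card_iff hM hB).1 h] at hd; omega
    omega
  rw [Subsections.blockRank_eq] at hr
  set v := Cfsg.pRegularPart 2 (χ : G → ℂ) with hv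
  have h1 : (1 : G) ≠ 1 ∨ ¬ 2 ∣ orderOf (1 : G) := Or.inr (by simp)
  have hv0 : v ≠ 0 := fun h => by
    have := congrFun h 1
    rw [hv, pRegularPart_apply, if_neg (by simp)] at this
    exact char_one_ne_zero χ this
  have hle : Submodule.span ℂ {v} ≤ Subsections.regSpan 2 B :=
    (Submodule.span_singleton_le_iff_mem _ _).2 (Submodule.subset_span ⟨χ, hχ, rfl⟩)
  have heq := Submodule.eq_of_le_of_finrank_le hle (by rw [finrank_span_singleton hv0]; exact hr)
  have hmem : Cfsg.pRegularPart 2 (ψ : G → ℂ) ∈ Submodule.span ℂ {v} :=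
    heq ▸ Submodule.subset_span ⟨ψ, hψ, rfl⟩
  obtain ⟨r, hr'⟩ := Submodule.mem_span_singleton.1 hmem
  have e1 := congrFun hr' 1
  have e2 := congrFun hr' g
  simp only [hv, Pi.smul_apply, smul_eq_mul, pRegularPart_apply, if_neg hg] at e2
  simp only [hv, Pi.smul_apply, smul_eq_mul, pRegularPart_apply,
    if_neg (show ¬ 2 ∣ orderOf (1 : G) by simp)] at e1
  rw [← e2, ← e1, mul_div_assoc, div_self (char_one_ne_zero χ), mul_one]

omit hM hB hd

open scoped Classical in
/-- A class function vanishing off two sections. -/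
theorem section_sum [Fintype G] {p : ℕ} (hp : p.Prime) {x : G} (hx : ∃ k, orderOf x = p ^ k)
    (hx1 : x ≠ 1) [Fintype (Subgroup.centralizer ({x} : Set G))] {f : G → ℂ}
    (hf : Cfsg.IsClassFunction G f)
    (hvan : ∀ g u : G, Cfsg.IsPPart p g u → u ≠ 1 → ¬ IsConj x u → f g = 0) :
    ∑ g, f g = (∑ g ∈ Finset.univ.filter (fun g : G => ¬ p ∣ orderOf g), f g) +
      ((Subgroup.centralizer ({x} : Set G)).index : ℂ) *
        ∑ y ∈ Finset.univ.filter (fun y : Subgroup.centralizer ({x} : Set G) => ¬ p ∣ orderOf y),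
          f (x * y) := by
  haveI : Fact p.Prime := ⟨hp⟩
  set C := Subgroup.centralizer ({x} : Set G) with hC
  rw [← Finset.sum_filter_add_sum_filter_not Finset.univ (fun g : G => ¬ p ∣ orderOf g)]
  congr 1
  have hpart : ∀ g : G, ∃ u, Cfsg.IsPPart p g u := fun g => exists_isPPart hp g
  choose pp hpp using hpart
  have hreg : ∀ g, p ∣ orderOf g → pp g ≠ 1 := by
    intro g hg h1
    obtain ⟨y, hy, -, -, hy'⟩ := hpp g
    rw [h1, one_mul] at hy
    exact hy' (hy ▸ hg)
  have hsub : Finset.univ.filter (fun g : G => IsConj x (pp g)) ⊆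
      Finset.univ.filter (fun g : G => ¬ ¬ p ∣ orderOf g) := by
    intro g hg
    refine Finset.mem_filter.2 ⟨Finset.mem_univ _, not_not.2 ?_⟩
    by_contra hr
    obtain ⟨c, hc⟩ := isConj_iff.1 (Finset.mem_filter.1 hg).2
    have h1 : pp g = 1 := BrauerMap.PrincipalSection.isPPart_unique hp (hpp g)
      ⟨g, one_mul g, Commute.one_left g, ⟨0, by rw [orderOf_one, pow_zero]⟩, hr⟩
    rw [h1, conj_eq_one_iff] at hc
    exact hx1 hc
  rw [← Finset.sum_subset hsub fun g hg hg' => hvan g (pp g) (hpp g)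
    (hreg g (not_not.1 (Finset.mem_filter.1 hg).2))
    fun h => hg' (Finset.mem_filter.2 ⟨Finset.mem_univ _, h⟩)]
  haveI := Fintype.ofFinite {u : G // IsConj x u}
  have ht : ∀ u : {u : G // IsConj x u}, ∃ t : G, t * x * t⁻¹ = u.1 := fun u => isConj_iff.1 u.2
  choose t htu using ht
  have hxy : ∀ y : C, Commute x (y : G) := fun y =>
    (Subgroup.mem_centralizer_singleton_iff.1 y.2).symm
  have hP : ∀ (u : {u : G // IsConj x u}) (y : C), ¬ p ∣ orderOf y →
      Cfsg.IsPPart p (t u * (x * y) * (t u)⁻¹) u.1 := by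
    intro u y hy
    rw [← htu u]
    exact BrauerMap.PrincipalSection.isPPart_conj
      ⟨(y : G), rfl, hxy y, hx, by rwa [Subgroup.orderOf_coe]⟩ _
  rw [show ((Subgroup.centralizer ({x} : Set G)).index : ℂ) =
    ((Finset.univ : Finset {u : G // IsConj x u}).card : ℂ) from by
      rw [← BrauerMap.ClassSum.card_isConj, Nat.card_eq_fintype_card, Finset.card_univ],
    ← nsmul_eq_mul, ← Finset.sum_const, ← Finset.sum_product']
  symm
  refine Finset.sum_bij (fun uy _ => t uy.1 * (x * uy.2) * (t uy.1)⁻¹) (fun uy h => ?_)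
    (fun a ha b hb he => ?_) (fun g hg => ?_) (fun uy h => ?_)
  · refine Finset.mem_filter.2 ⟨Finset.mem_univ _, ?_⟩
    rw [BrauerMap.PrincipalSection.isPPart_unique hp (hpp _)
      (hP uy.1 uy.2 (Finset.mem_filter.1 (Finset.mem_product.1 h).2).2)]
    exact uy.1.2
  · have e1 := hP a.1 a.2 (Finset.mem_filter.1 (Finset.mem_product.1 ha).2).2
    have e2 := hP b.1 b.2 (Finset.mem_filter.1 (Finset.mem_product.1 hb).2).2
    rw [show t a.1 * (x * a.2) * (t a.1)⁻¹ = t b.1 * (x * b.2) * (t b.1)⁻¹ from he] at e1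
    have e : a.1 = b.1 := Subtype.ext (BrauerMap.PrincipalSection.isPPart_unique hp e1 e2)
    refine Prod.ext e (Subtype.ext ?_)
    have he' : t a.1 * (x * a.2) * (t a.1)⁻¹ = t b.1 * (x * b.2) * (t b.1)⁻¹ := he
    rw [e] at he'
    exact mul_left_cancel (mul_left_cancel (mul_right_cancel he'))
  · have hu : IsConj x (pp g) := (Finset.mem_filter.1 hg).2
    obtain ⟨y', hy1, hy2, -, hy4⟩ := hpp g
    set u : {u : G // IsConj x u} := ⟨pp g, hu⟩
    have htu' : t u * x * (t u)⁻¹ = pp g := htu u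
    have hmem : (t u)⁻¹ * y' * t u ∈ C := by
      rw [hC, Subgroup.mem_centralizer_singleton_iff]
      have h3 : y' * (t u * x * (t u)⁻¹) = t u * x * (t u)⁻¹ * y' := by rw [htu']; exact hy2.symm
      calc (t u)⁻¹ * y' * t u * x = (t u)⁻¹ * (y' * (t u * x * (t u)⁻¹)) * t u := by group
        _ = _ := by rw [h3]; group
    have hord : ¬ p ∣ orderOf (⟨_, hmem⟩ : C) := by
      rw [← Subgroup.orderOf_coe]
      have : orderOf ((t u)⁻¹ * y' * (t u)⁻¹⁻¹) = orderOf y' :=
        orderOf_injective (MulAut.conj (t u)⁻¹).toMonoidHom (MulAut.conj (t u)⁻¹).injective y'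
      rw [inv_inv] at this
      exact this ▸ hy4
    refine ⟨(u, ⟨_, hmem⟩), Finset.mem_product.2 ⟨Finset.mem_univ _,
      Finset.mem_filter.2 ⟨@Finset.mem_univ _ (_) _, hord⟩⟩, ?_⟩
    show t u * (x * ((t u)⁻¹ * y' * t u)) * (t u)⁻¹ = g
    calc t u * (x * ((t u)⁻¹ * y' * t u)) * (t u)⁻¹ = t u * x * (t u)⁻¹ * y' := by group
      _ = g := by rw [htu', hy1]
  · exact (hf _ _).symm

/-- The product of two characters of `B` is supported on two sections. -/
theorem mul_conj_vanish (hM : Cfsg.IsPModular 2 M) {B : Set (Cfsg.IrrCharacter G)}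
    (hB : Cfsg.IsPBlock M B) {x : G} (hx : orderOf x = 2)
    (hBD : Cfsg.IsDefectGroup 2 M B (Subgroup.zpowers x)) {χ : Cfsg.IrrCharacter G} (hχ : χ ∈ B)
    (g u : G) (hu : Cfsg.IsPPart 2 g u) (h1 : u ≠ 1) (hnc : ¬ IsConj x u) :
    (χ : G → ℂ) g = 0 := by
  refine char_eq_zero_of_pPart_notMem hM hB hBD hu (fun t ht => ?_) hχ
  obtain ⟨i, hi⟩ := Subgroup.mem_zpowers_iff.1 ht
  rw [← zpow_mod_orderOf, hx] at hi
  push_cast at hi
  rcases Int.emod_two_eq i with h | h <;> rw [h] at hi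
  · rw [zpow_zero] at hi
    apply h1
    have e : u = t * (t⁻¹ * u * t) * t⁻¹ := by group
    rw [e, ← hi]
    group
  · rw [zpow_one] at hi
    exact hnc (isConj_iff.2 ⟨t, by rw [hi]; group⟩)

theorem defect_one (hM : Cfsg.IsPModular 2 M) {B : Set (Cfsg.IrrCharacter G)}
    (hB : Cfsg.IsPBlock M B) {x : G} (hx : orderOf x = 2)
    (hBD : Cfsg.IsDefectGroup 2 M B (Subgroup.zpowers x)) : Cfsg.blockDefect 2 B = 1 := by
  have h := card_isDefectGroup hM hB hBD
  rw [Nat.card_zpowers, hx] at h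
  exact (Nat.pow_right_injective (le_refl 2) (h.symm.trans (pow_one 2).symm))

open scoped Classical in
/-- A defect group generated by a central involution. -/
theorem central_case [Fintype G] (hM : Cfsg.IsPModular 2 M) {B : Set (Cfsg.IrrCharacter G)}
    (hB : Cfsg.IsPBlock M B) {x : G} (hx : orderOf x = 2) (hc : x ∈ Subgroup.center G)
    (hBD : Cfsg.IsDefectGroup 2 M B (Subgroup.zpowers x)) {θ : Cfsg.IrrCharacter G} (hθ : θ ∈ B)
    (hθx : (θ : G → ℂ) x = (θ : G → ℂ) 1) :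
    2 * ∑ g ∈ Finset.univ.filter (fun g : G => ¬ 2 ∣ orderOf g),
        (θ : G → ℂ) g * conj ((θ : G → ℂ) g) = (Nat.card G : ℂ) ∧
      ∃ θ' ∈ B, (∀ g : G, ¬ 2 ∣ orderOf g → (θ' : G → ℂ) g = (θ : G → ℂ) g) ∧
        ∀ g : G, (θ' : G → ℂ) (x * g) = -(θ' : G → ℂ) g := by
  haveI : Fact (Nat.Prime 2) := ⟨Nat.prime_two⟩
  haveI := Fintype.ofFinite (Subgroup.centralizer ({x} : Set G))
  have hd := defect_one hM hB hx hBD
  have hx1 : x ≠ 1 := fun h => by rw [h, orderOf_one] at hx; omega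
  have htop : Subgroup.centralizer ({x} : Set G) = ⊤ := eq_top_iff.2 fun g _ =>
    Subgroup.mem_centralizer_singleton_iff.2 (Subgroup.mem_center_iff.1 hc g)
  -- the sign of a member at `x`
  have hsign : ∀ φ : Cfsg.IrrCharacter G, ∃ s : ℂ, (s = 1 ∨ s = -1) ∧
      ∀ g, (φ : G → ℂ) (x * g) = s * (φ : G → ℂ) g := by
    intro φ
    refine ⟨(φ : G → ℂ) x / (φ : G → ℂ) 1, ?_, Central.char_mul_central φ.2 hc⟩
    have h2 := Central.char_mul_central φ.2 hc x
    have hxx : x * x = 1 := by rw [← pow_two, ← hx, pow_orderOf_eq_one]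
    rw [hxx] at h2
    have h3 : ((φ : G → ℂ) x / (φ : G → ℂ) 1) * ((φ : G → ℂ) x / (φ : G → ℂ) 1) = 1 := by
      rw [mul_div_assoc', ← h2, div_self (char_one_ne_zero φ)]
    exact mul_self_eq_one_iff.1 h3
  have hinner : ∀ φ ψ : Cfsg.IrrCharacter G, φ ∈ B → ψ ∈ B → ∀ s t : ℂ,
      (∀ g, (φ : G → ℂ) (x * g) = s * (φ : G → ℂ) g) →
      (∀ g, (ψ : G → ℂ) (x * g) = t * (ψ : G → ℂ) g) →
      (1 + s * conj t) * ∑ g ∈ Finset.univ.filter (fun g : G => ¬ 2 ∣ orderOf g),
        (φ : G → ℂ) g * conj ((ψ : G → ℂ) g) = (Nat.card G : ℂ) * if φ = ψ then 1 else 0 := by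
    intro φ ψ hφ hψ s t hs ht
    have h := section_sum Nat.prime_two ⟨1, by rw [hx, pow_one]⟩ hx1
      (f := fun g => (φ : G → ℂ) g * conj ((ψ : G → ℂ) g))
      (fun g h => by simp only [isClassFunction_irr φ g h, isClassFunction_irr ψ g h])
      (fun g u hu h1 hnc => by rw [mul_conj_vanish hM hB hx hBD hφ g u hu h1 hnc, zero_mul])
    have hs2 : ∑ y ∈ Finset.univ.filter (fun y : Subgroup.centralizer ({x} : Set G) => ¬ 2 ∣ orderOf y),
        (φ : G → ℂ) (x * y) * conj ((ψ : G → ℂ) (x * y)) =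
        s * conj t * ∑ g ∈ Finset.univ.filter (fun g : G => ¬ 2 ∣ orderOf g),
          (φ : G → ℂ) g * conj ((ψ : G → ℂ) g) := by
      rw [Finset.mul_sum]
      refine Finset.sum_bij (fun y _ => (y : G)) (fun y hy => ?_) (fun a _ b _ e => Subtype.ext e)
        (fun g hg => ⟨⟨g, htop ▸ Subgroup.mem_top g⟩, ?_, rfl⟩) (fun y _ => ?_)
      · rw [Finset.mem_filter, Subgroup.orderOf_coe]
        exact ⟨Finset.mem_univ _, (Finset.mem_filter.1 hy).2⟩
      · rw [Finset.mem_filter, ← Subgroup.orderOf_coe]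
        exact ⟨Finset.mem_univ _, (Finset.mem_filter.1 hg).2⟩
      · rw [hs, ht, map_mul]; ring
    rw [hs2, htop, Subgroup.index_top, Nat.cast_one, one_mul] at h
    have h0 := classInner_irr φ ψ
    rw [Cfsg.classInner, h, inv_mul_eq_iff_eq_mul₀ natCard_ne_zero] at h0
    rw [← h0]
    ring
  have hθs : ∀ g, (θ : G → ℂ) (x * g) = 1 * (θ : G → ℂ) g := fun g => by
    rw [Central.char_mul_central θ.2 hc g, hθx, div_self (char_one_ne_zero θ)]
  have hT := hinner θ θ hθ hθ 1 1 hθs hθs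
  rw [if_pos rfl, mul_one, map_one, one_mul, show (1 : ℂ) + 1 = 2 by norm_num] at hT
  refine ⟨hT, ?_⟩
  obtain ⟨θ', hθ', hne⟩ : ∃ θ' ∈ B, θ' ≠ θ := by
    by_contra hcon
    push Not at hcon
    have hk := card_eq_two hM hB hd
    have : B = {θ} := Set.eq_singleton_iff_unique_mem.2 ⟨hθ, hcon⟩
    rw [this, Nat.card_unique] at hk
    omega
  obtain ⟨s, hs1, hs⟩ := hsign θ'
  have hr := fun g hg => regular_smul hM hB hd hθ hθ' (g := g) hg
  set r := (θ' : G → ℂ) 1 / (θ : G → ℂ) 1 with hrdef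
  obtain ⟨a, ha0, ha⟩ := exists_degree_pos θ
  obtain ⟨a', ha0', ha'⟩ := exists_degree_pos θ'
  have hcr : conj r = r := by rw [hrdef, ha, ha', map_div₀, map_natCast, map_natCast]
  have hT0 : ∑ g ∈ Finset.univ.filter (fun g : G => ¬ 2 ∣ orderOf g),
      (θ : G → ℂ) g * conj ((θ : G → ℂ) g) ≠ 0 := fun h => by
    rw [h, mul_zero] at hT; exact natCard_ne_zero hT.symm
  have hsum : ∀ ψ : Cfsg.IrrCharacter G, ∑ g ∈ Finset.univ.filter (fun g : G => ¬ 2 ∣ orderOf g),
      (θ' : G → ℂ) g * conj ((ψ : G → ℂ) g) = r * ∑ g ∈ Finset.univ.filter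
        (fun g : G => ¬ 2 ∣ orderOf g), (θ : G → ℂ) g * conj ((ψ : G → ℂ) g) := fun ψ => by
    rw [Finset.mul_sum]
    exact Finset.sum_congr rfl fun g hg => by rw [hr g (Finset.mem_filter.1 hg).2, mul_assoc]
  have hsneg : s = -1 := by
    rcases hs1 with h | h
    · exfalso
      have h2 := hinner θ' θ hθ' hθ s 1 hs hθs
      rw [if_neg hne, mul_zero, h, map_one, one_mul, show (1 : ℂ) + 1 = 2 by norm_num, hsum] at h2
      rcases mul_eq_zero.1 h2 with h2 | h2
      · norm_num at h2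
      rcases mul_eq_zero.1 h2 with h2 | h2
      · exact char_one_ne_zero θ' ((div_eq_zero_iff.1 h2).resolve_right (char_one_ne_zero θ))
      · exact hT0 h2
    · exact h
  have h3 := hinner θ' θ' hθ' hθ' s s hs hs
  have hsum2 : ∑ g ∈ Finset.univ.filter (fun g : G => ¬ 2 ∣ orderOf g),
      (θ' : G → ℂ) g * conj ((θ' : G → ℂ) g) = r * r * ∑ g ∈ Finset.univ.filter
        (fun g : G => ¬ 2 ∣ orderOf g), (θ : G → ℂ) g * conj ((θ : G → ℂ) g) := by
    rw [Finset.mul_sum]
    refine Finset.sum_congr rfl fun g hg => ?_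
    rw [hr g (Finset.mem_filter.1 hg).2, map_mul, hcr]; ring
  rw [if_pos rfl, mul_one, hsum2, hsneg, map_neg, map_one, neg_mul_neg, one_mul,
    show (1 : ℂ) + 1 = 2 by norm_num, ← hT, mul_left_comm] at h3
  have hrr : r * r = 1 := (mul_eq_right₀ (mul_ne_zero two_ne_zero hT0)).1 h3
  have hr1 : r = 1 := by
    rcases mul_self_eq_one_iff.1 hrr with h | h
    · exact h
    · exfalso
      rw [hrdef, ha, ha', div_eq_iff (Nat.cast_ne_zero.2 ha0.ne'), neg_one_mul,
        eq_neg_iff_add_eq_zero, ← Nat.cast_add, Nat.cast_eq_zero] at h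
      omega
  exact ⟨θ', hθ', fun g hg => by rw [hr g hg, hr1, one_mul],
    fun g => by rw [hs, hsneg, neg_one_mul]⟩

end Cfsg.Agent.Lib.BC78.DefectOne
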