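import Cfsg.Agent.Lib.Blocks.ContribRank
import Cfsg.Agent.Lib.Blocks.Orthogonality
import Cfsg.Agent.Lib.Characters.Linear

/-!
# A `2`-block of full defect closed under inversion is principal
-/

set_option autoImplicit false

namespace Cfsg.Agent.Lib.BC78.FullDefect

open scoped ComplexConjugate
open Cfsg.Agent.Lib.Blocks Cfsg.Agent.Lib.Blocks.Contrib
open Cfsg.Agent.Lib.Induced.Basic Cfsg.Agent.Lib.Characters.Basic

universe u

variable {G : Type u} [Group G] [Finite G] {M : Ideal Cfsg.AlgInt} [M.IsMaximal]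

/-- The coefficient at the identity of a block of full defect is a unit. -/
theorem not_memLocalIdeal_one_coeff {p : ℕ} [hp : Fact p.Prime] (hM : Cfsg.IsPModular p M)
    {B : Set (Cfsg.IrrCharacter G)} (hB : Cfsg.IsPBlock M B)
    (hdef : Cfsg.blockDefect p B = (Nat.card G).factorization p) :
    ¬ Cfsg.MemLocalIdeal M (Cfsg.blockCoeff B 1) := by
  classical
  intro hmem
  have h0 : minVdeg p B = 0 := by
    have := minVdeg_add_blockDefect (p := p) hB; omega
  set D := ∑ χ ∈ bset B, Cfsg.charDegree (χ : G → ℂ) ^ 2 with hD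
  have hfac : D.factorization p = (Nat.card G).factorization p := by
    rw [hD, factorization_sum_sq hM hB, h0, add_zero]
  have hD0 : D ≠ 0 := by
    obtain ⟨χ, hχ⟩ := isPBlock_nonempty hB
    exact ((pow_pos (charDegree_pos χ) 2).trans_le (Finset.single_le_sum
      (f := fun φ : Cfsg.IrrCharacter G => Cfsg.charDegree (φ : G → ℂ) ^ 2)
      (fun _ _ => Nat.zero_le _) (mem_bset.2 hχ))).ne'
  set m := D / p ^ D.factorization p with hm
  have hDm : D = p ^ (Nat.card G).factorization p * m := by
    rw [hm, ← hfac]; exact (Nat.ordProj_mul_ordCompl_eq_self _ _).symm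
  have hnd : ¬ p ∣ m := Nat.not_dvd_ordCompl hp.out hD0
  have ha : Cfsg.blockCoeff B 1 * (primeToCard p G : ℂ) = (m : ℂ) := by
    have h1 : Cfsg.blockCoeff B 1 = (Nat.card G : ℂ)⁻¹ * (D : ℂ) := by
      rw [Cfsg.blockCoeff, finsum_mem_bset, hD, Nat.cast_sum]
      congr 1
      refine Finset.sum_congr rfl fun χ _ => ?_
      rw [conj_apply_one (isCharacter_irr χ), char_one_eq_degree, Nat.cast_pow, pow_two]
    have hG : (Nat.card G : ℂ) ≠ 0 := Nat.cast_ne_zero.2 Nat.card_pos.ne'
    rw [h1, mul_assoc, inv_mul_eq_iff_eq_mul₀ hG, natCast_card_eq p G, hDm]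
    push_cast
    ring
  apply hnd
  rw [← memLocalIdeal_natCast_iff hM, ← ha]
  exact memLocalIdeal_mul_right hmem (natCast_mem (localRing M) _)

/-- A `2`-block of full defect whose idempotent is invariant under inversion is principal. -/
theorem eq_principal_of_symm (hM : Cfsg.IsPModular 2 M)
    {B : Set (Cfsg.IrrCharacter G)} (hB : Cfsg.IsPBlock M B)
    (hdef : Cfsg.blockDefect 2 B = (Nat.card G).factorization 2)
    (hsym : ∀ g : G, Odd (orderOf g) → Cfsg.blockCoeff B g⁻¹ = Cfsg.blockCoeff B g) :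
    B = Cfsg.principalBlock M G := by
  classical
  haveI : Fact (Nat.Prime 2) := ⟨Nat.prime_two⟩
  haveI := charP_residue hM
  haveI := Fintype.ofFinite G
  by_contra hne
  apply not_memLocalIdeal_one_coeff hM hB hdef
  have h1 : oneChar G ∉ B := fun h =>
    hne ((isPBlock_eq_blockOf hB h).trans principalBlock_eq.symm)
  have hzero : ∑ g : G, Cfsg.blockCoeff B g = 0 := by
    have h := omega_idem B (oneChar G)
    rw [if_neg h1, omega_apply, lin_apply] at h
    simpa [coeff_idem, oneChar_apply] using h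
  let f : G → Cfsg.AlgInt ⧸ M := fun g =>
    residue M (⟨Cfsg.blockCoeff B g, memLocalRing_blockCoeff hB g⟩ : localRing M)
  have hf : ∑ g, f g = 0 := by
    rw [← map_sum]
    refine (congrArg (residue M) (Subtype.ext ?_)).trans (map_zero _)
    push_cast
    exact hzero
  have hrest : ∑ g ∈ Finset.univ.erase (1 : G), f g = 0 := by
    have hinv : ∀ g : G, f g⁻¹ = f g := fun g => by
      by_cases hodd : Odd (orderOf g)
      · exact congrArg (residue M) (Subtype.ext (hsym g hodd))
      · have h2 : 2 ∣ orderOf g := (Nat.not_odd_iff_even.1 hodd).two_dvd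
        refine congrArg (residue M) (Subtype.ext ?_)
        change Cfsg.blockCoeff B g⁻¹ = Cfsg.blockCoeff B g
        rw [blockCoeff_eq_zero_of_dvd hM hB h2,
          blockCoeff_eq_zero_of_dvd hM hB (orderOf_inv g ▸ h2)]
    refine Finset.sum_involution (fun g _ => g⁻¹) (fun g _ => ?_) (fun g hg hne0 heq => ?_)
      (fun g hg => ?_) (fun g _ => inv_inv g)
    · rw [hinv, CharTwo.add_self_eq_zero]
    · apply hne0
      have h2 : g ^ 2 = 1 := by rw [pow_two]; nth_rw 1 [← heq]; exact inv_mul_cancel g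
      have h3 : orderOf g = 2 :=
        orderOf_eq_prime h2 (Finset.ne_of_mem_erase hg)
      refine (congrArg (residue M) (Subtype.ext ?_)).trans (map_zero _)
      exact blockCoeff_eq_zero_of_dvd hM hB (h3 ▸ dvd_rfl)
    · exact Finset.mem_erase.2 ⟨inv_ne_one.2 (Finset.ne_of_mem_erase hg), Finset.mem_univ _⟩
  rw [← Finset.add_sum_erase _ _ (Finset.mem_univ (1 : G)), hrest, add_zero] at hf
  exact (residue_eq_zero_iff (z := (⟨_, memLocalRing_blockCoeff hB 1⟩ : localRing M))).1 hf

/-- A block of odd degree members has full defect. -/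
theorem blockDefect_of_not_dvd {p : ℕ} [hp : Fact p.Prime] {B : Set (Cfsg.IrrCharacter G)}
    {χ : Cfsg.IrrCharacter G} (hχ : χ ∈ B) (hd : ¬ p ∣ Cfsg.charDegree (χ : G → ℂ)) :
    Cfsg.blockDefect p B = (Nat.card G).factorization p := by
  have h0 : vdeg p χ = 0 := Nat.factorization_eq_zero_of_not_dvd hd
  have := minVdeg_le (p := p) hχ
  rw [blockDefect_eq]
  omega

end Cfsg.Agent.Lib.BC78.FullDefect
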