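import Cfsg.Agent.Lib.Chars82.PrincipalBlock
import Cfsg.Agent.Lib.Blocks.Orthogonality
import Cfsg.Agent.Lib.BrauerMap.Basic
import Cfsg.Agent.Lib.BC78.PowChar
import Mathlib.FieldTheory.Finite.Basic

/-!
# Odd degree characters of the principal `2`-block fixed by the cubing automorphism

`k` cubes the `2`-elements and fixes the elements of odd order.  The power map `χ ↦ χ (· ^ k)` has
`2`-power order on the irreducible characters, so parities may be counted on the fixed ones.
-/

set_option autoImplicit false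

namespace Cfsg.Agent.Lib.BC78.GaloisTwo

open scoped ComplexConjugate commutatorElement
open Cfsg.Agent.Lib.Blocks
open Cfsg.Agent.Lib.Induced.Basic Cfsg.Agent.Lib.Characters.Basic
open Cfsg.Agent.Lib.Characters.Linear Cfsg.Agent.Lib.Chars82.PrincipalBlock

universe u

variable {G : Type u} [Group G] [Finite G] {k : ℕ}
  (hk₁ : ∀ g : G, (∃ j : ℕ, orderOf g = 2 ^ j) → g ^ k = g ^ 3)
  (hk₂ : ∀ g : G, Odd (orderOf g) → g ^ k = g)
include hk₁ hk₂

theorem coprime_k : Nat.Coprime k (Nat.card G) := by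
  refine Nat.coprime_of_dvd' fun q hq hqk hqG => ?_
  haveI := Fact.mk hq
  obtain ⟨a, ha⟩ := exists_prime_orderOf_dvd_card' q hqG
  have hak : a ^ k = 1 := by
    rw [← orderOf_dvd_iff_pow_eq_one, ha]; exact hqk
  rcases hq.eq_two_or_odd' with h2 | hodd
  · subst h2
    have := hk₁ a ⟨1, by rw [ha, pow_one]⟩
    rw [hak] at this
    have h3 : orderOf a ∣ 3 := orderOf_dvd_of_pow_eq_one this.symm
    rw [ha] at h3
    exact absurd h3 (by decide)
  · have := hk₂ a (ha ▸ hodd)
    rw [hak] at this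
    rw [← this, orderOf_one] at ha
    exact absurd ha hq.one_lt.ne

theorem pow_pow_eq (g : G) : g ^ k ^ 2 ^ Nat.card G = g := by
  obtain ⟨a, b, hab, hcomm, ⟨i, hi⟩, hb⟩ := exists_isPPart Nat.prime_two g
  have hbk : ∀ j, b ^ k ^ j = b := fun j => by
    induction j with
    | zero => rw [pow_zero, pow_one]
    | succ j ih =>
      rw [pow_succ, pow_mul, ih, hk₂ b (Nat.odd_iff.2 (Nat.two_dvd_ne_zero.1 hb))]
  have hak : ∀ j, a ^ k ^ j = a ^ 3 ^ j := fun j => by
    induction j with
    | zero => rfl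
    | succ j ih =>
      rw [pow_succ, pow_mul, ih, ← pow_mul, mul_comm, pow_mul, hk₁ a ⟨i, hi⟩, ← pow_mul,
        ← pow_succ']
  rw [← hab, hcomm.mul_pow, hbk, hak]
  congr 1
  have hi' : i ≤ Nat.card G := by
    have : 2 ^ i ≤ Nat.card G := hi ▸ orderOf_le_card
    exact le_trans Nat.lt_two_pow_self.le this
  have h3 : 3 ^ 2 ^ Nat.card G ≡ 1 [MOD 2 ^ i] := by
    rcases Nat.eq_zero_or_pos i with h0 | h0
    · subst h0; exact Nat.modEq_one
    obtain ⟨c, hc⟩ : Nat.totient (2 ^ i) ∣ 2 ^ Nat.card G := by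
      rw [Nat.totient_prime_pow Nat.prime_two h0]
      simpa using pow_dvd_pow 2 (show i - 1 ≤ Nat.card G by omega)
    rw [hc, pow_mul]
    simpa using (Nat.ModEq.pow_totient (Nat.Coprime.pow_right i (by decide : Nat.Coprime 3 2))).pow c
  conv_rhs => rw [← pow_one a]
  rw [pow_eq_pow_iff_modEq, hi]
  exact h3

variable [Fintype G]

/-- The power map on characters. -/
noncomputable def powChar (χ : Cfsg.IrrCharacter G) : Cfsg.IrrCharacter G :=
  ⟨fun g => (χ : G → ℂ) (g ^ k), PowChar.isIrrCharacter_pow χ.2 (coprime_k hk₁ hk₂)⟩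

omit [Fintype G] in
theorem centralizer_pow (g : G) :
    Subgroup.centralizer ({g ^ k} : Set G) = Subgroup.centralizer ({g} : Set G) := by
  ext u
  rw [Subgroup.mem_centralizer_singleton_iff, Subgroup.mem_centralizer_singleton_iff]
  constructor
  · intro h
    have hc : Commute u (g ^ k) := h
    obtain ⟨m, hm⟩ := exists_pow_eq_self_of_coprime (x := g)
      (Nat.Coprime.coprime_dvd_right (orderOf_dvd_natCard g) (coprime_k hk₁ hk₂))
    have := hc.pow_right m
    rwa [hm] at this
  · intro h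
    exact (show Commute u g from h).pow_right k

theorem powChar_mem {M : Ideal Cfsg.AlgInt} [M.IsMaximal] {χ : Cfsg.IrrCharacter G}
    (h : χ ∈ Cfsg.principalBlock M G) : powChar hk₁ hk₂ χ ∈ Cfsg.principalBlock M G := by
  rw [mem_principalBlock_iff] at h ⊢
  intro g
  have := h (g ^ k)
  simp only [Cfsg.centralChar, centralizer_pow hk₁ hk₂] at this ⊢
  simpa [powChar] using this

theorem charDegree_powChar (χ : Cfsg.IrrCharacter G) :
    Cfsg.charDegree (powChar hk₁ hk₂ χ : G → ℂ) = Cfsg.charDegree (χ : G → ℂ) := by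
  simp [Cfsg.charDegree, powChar]

theorem powChar_injective : Function.Injective (powChar hk₁ hk₂) := by
  intro a b hab
  apply Subtype.ext
  funext g
  obtain ⟨m, rfl⟩ := (powCoprime (G := G) (coprime_k hk₁ hk₂).symm).surjective g
  exact congrFun (congrArg Subtype.val hab) m

/-- Modulo `2` only the fixed characters of a stable set contribute. -/
theorem sum_zmod_two [Fintype (Cfsg.IrrCharacter G)] (f : Cfsg.IrrCharacter G → ZMod 2)
    (hf : ∀ χ, f (powChar hk₁ hk₂ χ) = f χ) (hfix : ∀ χ, powChar hk₁ hk₂ χ = χ → f χ = 0) :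
    ∑ χ, f χ = 0 := by
  classical
  haveI : Fact (Nat.Prime 2) := ⟨Nat.prime_two⟩
  let σ : Equiv.Perm (Cfsg.IrrCharacter G) := Equiv.ofBijective (powChar hk₁ hk₂)
    (Finite.injective_iff_bijective.1 (powChar_injective hk₁ hk₂))
  have hσpow : ∀ (j : ℕ) (φ : Cfsg.IrrCharacter G) (g : G),
      ((σ ^ j) φ : G → ℂ) g = (φ : G → ℂ) (g ^ k ^ j) := by
    intro j
    induction j with
    | zero => simp
    | succ j ih =>
      intro φ g
      rw [pow_succ' σ, Equiv.Perm.mul_apply]
      change ((σ ^ j) φ : G → ℂ) (g ^ k) = _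
      rw [ih, ← pow_mul, ← pow_succ']
  have hσ : σ ^ 2 ^ Nat.card G = 1 := by
    ext φ : 1
    apply Subtype.ext
    funext g
    rw [hσpow, pow_pow_eq hk₁ hk₂]
    rfl
  have hpg : IsPGroup 2 (Subgroup.zpowers σ) := by
    apply IsPGroup.of_card_dvd_pow (n := Nat.card G)
    rw [Nat.card_zpowers]
    exact orderOf_dvd_of_pow_eq_one hσ
  have hinv : ∀ (u : Subgroup.zpowers σ) (χ : Cfsg.IrrCharacter G), f (u • χ) = f χ := by
    rintro ⟨u, hu⟩ χ
    obtain ⟨j, rfl⟩ := (isOfFinOrder_of_finite σ).mem_powers_iff_mem_zpowers.2 hu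
    change f ((σ ^ j) χ) = f χ
    clear hσ hu hσpow
    induction j with
    | zero => rfl
    | succ j ih =>
      rw [pow_succ' σ, Equiv.Perm.mul_apply]
      exact (hf _).trans ih
  rw [BrauerMap.Basic.sum_eq_sum_fixed hpg f hinv]
  refine Finset.sum_eq_zero fun χ hχ => hfix χ ?_
  exact (Finset.mem_filter.1 hχ).2 ⟨σ, Subgroup.mem_zpowers σ⟩

variable {M : Ideal Cfsg.AlgInt} [M.IsMaximal]

/-- The number of odd degree characters of the principal block fixed by the power map is even
for a group of even order. -/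
theorem even_card_fixed (hM : Cfsg.IsPModular 2 M) (hev : Even (Nat.card G)) :
    Even (Nat.card {χ : Cfsg.IrrCharacter G // χ ∈ Cfsg.principalBlock M G ∧
      Odd (Cfsg.charDegree (χ : G → ℂ)) ∧ ∀ g : G, (χ : G → ℂ) (g ^ k) = (χ : G → ℂ) g}) := by
  classical
  haveI := Fintype.ofFinite (Cfsg.IrrCharacter G)
  have hB := isPBlock_principalBlock (G := G) (M := M)
  have hsq : ((∑ χ ∈ Finset.univ.filter (fun χ : Cfsg.IrrCharacter G =>
      χ ∈ Cfsg.principalBlock M G), Cfsg.charDegree (χ : G → ℂ) ^ 2 : ℕ) : ZMod 2) = 0 := by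
    rw [ZMod.natCast_eq_zero_iff, ← memLocalIdeal_natCast_iff hM]
    have hc := memLocalRing_blockCoeff hB (1 : G)
    rw [blockCoeff_eq_sum] at hc
    have h2 := memLocalIdeal_mul_right (y := _) ((memLocalIdeal_natCast_iff hM _).mpr hev.two_dvd) hc
    rw [mul_inv_cancel_left₀ natCard_ne_zero] at h2
    convert h2 using 1
    rw [Nat.cast_sum]
    refine Finset.sum_congr rfl fun χ _ => ?_
    rw [conj_apply_one (isCharacter_irr χ), char_one_eq_degree, Nat.cast_pow, pow_two]
  rw [even_iff_two_dvd, ← ZMod.natCast_eq_zero_iff, Nat.card_eq_fintype_card, Fintype.card_subtype,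
    Finset.card_filter, Nat.cast_sum]
  rw [Nat.cast_sum, Finset.sum_filter] at hsq
  refine (sub_eq_zero.1 ?_).trans hsq
  rw [← Finset.sum_sub_distrib]
  have h2 : ∀ n : ℕ, ((n ^ 2 : ℕ) : ZMod 2) = if Odd n then 1 else 0 := by
    intro n
    split_ifs with h
    · rw [ZMod.natCast_eq_one_iff_odd]; exact h.pow
    · rw [ZMod.natCast_eq_zero_iff]; exact dvd_pow (Nat.not_odd_iff_even.1 h).two_dvd two_ne_zero
  refine sum_zmod_two hk₁ hk₂ _ (fun χ => ?_) (fun χ hχ => ?_)
  · have hm : powChar hk₁ hk₂ χ ∈ Cfsg.principalBlock M G ↔ χ ∈ Cfsg.principalBlock M G := by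
      refine ⟨fun h => ?_, powChar_mem hk₁ hk₂⟩
      rw [mem_principalBlock_iff] at h ⊢
      intro g
      obtain ⟨m, rfl⟩ := (powCoprime (G := G) (coprime_k hk₁ hk₂).symm).surjective g
      have := h m
      simp only [Cfsg.centralChar, powChar] at this ⊢
      simpa [centralizer_pow hk₁ hk₂] using this
    have hf : (∀ g : G, (powChar hk₁ hk₂ χ : G → ℂ) (g ^ k) = (powChar hk₁ hk₂ χ : G → ℂ) g) ↔
        ∀ g : G, (χ : G → ℂ) (g ^ k) = (χ : G → ℂ) g := by
      refine ⟨fun h g => ?_, fun h g => h (g ^ k)⟩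
      obtain ⟨m, rfl⟩ := (powCoprime (G := G) (coprime_k hk₁ hk₂).symm).surjective g
      exact h m
    simp only [hm, hf, charDegree_powChar]
  · have hfix : ∀ g : G, (χ : G → ℂ) (g ^ k) = (χ : G → ℂ) g := fun g =>
      congrFun (congrArg Subtype.val hχ) g
    simp only [hfix, implies_true, and_true, h2]
    by_cases h1 : χ ∈ Cfsg.principalBlock M G <;> by_cases h2' : Odd (Cfsg.charDegree (χ : G → ℂ)) <;>
      simp [h1, h2']

/-- If the fixed odd degree characters of the principal block are linear, real linear characters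
of a Sylow `2`-subgroup extend. -/
theorem exists_linear_extension (hM : Cfsg.IsPModular 2 M) (P : Sylow 2 G)
    (h : ∀ χ : Cfsg.IrrCharacter G, χ ∈ Cfsg.principalBlock M G →
      Odd (Cfsg.charDegree (χ : G → ℂ)) → (∀ g : G, (χ : G → ℂ) (g ^ k) = (χ : G → ℂ) g) →
      Cfsg.charDegree (χ : G → ℂ) = 1)
    (lam : ↥(P : Subgroup G) →* ℂˣ) (hlam : ∀ x, lam x ^ 2 = 1) :
    ∃ μ : G →* ℂˣ, ∀ x : (P : Subgroup G), μ x = lam x := by
  classical
  haveI : Fact (Nat.Prime 2) := ⟨Nat.prime_two⟩
  have := Fintype.ofFinite (P : Subgroup G)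
  have := Fintype.ofFinite (Cfsg.IrrCharacter G)
  have hB := isPBlock_principalBlock (G := G) (M := M)
  set B := Finset.univ.filter fun χ : Cfsg.IrrCharacter G => χ ∈ Cfsg.principalBlock M G with hBdef
  let res : Cfsg.IrrCharacter G → ↥(P : Subgroup G) → ℂ := fun χ x => (χ : G → ℂ) x
  have hres : ∀ χ, Cfsg.IsCharacter (P : Subgroup G) (res χ) := fun χ =>
    isCharacter_comp (P : Subgroup G).subtype (isCharacter_irr χ)
  choose a ha using fun (l : ↥(P : Subgroup G) →* ℂˣ) (χ : Cfsg.IrrCharacter G) =>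
    exists_classInner_nat (hres χ) (isCharacter_irr (linChar l))
  let S : (↥(P : Subgroup G) →* ℂˣ) → ℂ := fun l =>
    ∑ χ ∈ B, Cfsg.classInner (res χ) (linChar l : ↥(P : Subgroup G) → ℂ) * (χ : G → ℂ) 1
  let Nl : (↥(P : Subgroup G) →* ℂˣ) → ℕ := fun l =>
    ∑ χ ∈ B, a l χ * Cfsg.charDegree (χ : G → ℂ)
  have hSN : ∀ l, S l = (Nl l : ℂ) := fun l => by
    simp only [S, Nl, Nat.cast_sum, Nat.cast_mul, ha, char_one_eq_degree]
  have hS : ∀ l, S l = ((P : Subgroup G).index : ℂ) *
      ∑ x : (P : Subgroup G), conj (l x : ℂ) * Cfsg.blockCoeff (Cfsg.principalBlock M G) (x : G)⁻¹ := by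
    intro l
    have hidx : ((P : Subgroup G).index : ℂ) * (Nat.card G : ℂ)⁻¹ =
        (Nat.card (P : Subgroup G) : ℂ)⁻¹ := by
      rw [← Subgroup.index_mul_card (P : Subgroup G), Nat.cast_mul, mul_inv, ← mul_assoc,
        mul_inv_cancel₀ (Nat.cast_ne_zero.mpr Subgroup.index_ne_zero_of_finite), one_mul]
    simp only [S, Cfsg.classInner, blockCoeff_eq_sum, Finset.mul_sum, Finset.sum_mul]
    rw [Finset.sum_comm]
    refine Finset.sum_congr rfl fun x _ => Finset.sum_congr rfl fun χ _ => ?_
    rw [← apply_inv (isCharacter_irr χ), inv_inv, linChar_apply, ← hidx]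
    ring
  have hcong : Cfsg.MemLocalIdeal M (S lam - S 1) := by
    rw [hS, hS, ← mul_sub, ← Finset.sum_sub_distrib]
    refine memLocalIdeal_mul_left (natCast_mem _ _) (memLocalIdeal_sum _ fun x _ => ?_)
    rw [← sub_mul]
    refine memLocalIdeal_mul_right ?_ (memLocalRing_blockCoeff hB _)
    rcases (sq_eq_one_iff (a := ((lam x : ℂˣ) : ℂ))).1
      (by rw [← Units.val_pow_eq_pow_val, hlam, Units.val_one]) with h1 | h1
    · simp [h1, memLocalIdeal_zero]
    · rw [h1]
      simp only [map_neg, map_one, MonoidHom.one_apply, Units.val_one]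
      rw [show (-1 : ℂ) - 1 = -((2 : ℕ) : ℂ) by push_cast; ring]
      exact memLocalIdeal_neg ((memLocalIdeal_natCast_iff hM _).2 dvd_rfl)
  have hpar : (Nl lam : ZMod 2) = (Nl 1 : ZMod 2) := by
    rw [hSN, hSN] at hcong
    have h3 : Cfsg.MemLocalIdeal M (((Nl lam : ℤ) - (Nl 1 : ℤ) : ℤ) : ℂ) := by
      push_cast; exact hcong
    rw [memLocalIdeal_intCast_iff hM, ← ZMod.intCast_zmod_eq_zero_iff_dvd] at h3
    push_cast at h3
    exact sub_eq_zero.1 h3
  -- parity of the sums
  have key : ∀ l : ↥(P : Subgroup G) →* ℂˣ, (∀ x, l x ^ 2 = 1) → (Nl l : ZMod 2) =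
      ((B.filter fun χ : Cfsg.IrrCharacter G => powChar hk₁ hk₂ χ = χ ∧
        ∃ h1 : (χ : G → ℂ) 1 = 1,
          (degOneHom (isCharacter_irr χ) h1).comp (P : Subgroup G).subtype = l).card : ZMod 2) := by
    intro l hl
    have hkP : Nat.Coprime k (Nat.card (P : Subgroup G)) := Nat.Coprime.coprime_dvd_right
      (Subgroup.card_subgroup_dvd_card _) (coprime_k hk₁ hk₂)
    have hinv : ∀ χ, a l (powChar hk₁ hk₂ χ) = a l χ := fun χ => by
      have : (a l (powChar hk₁ hk₂ χ) : ℂ) = a l χ := by
        rw [← ha, ← ha]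
        simp only [Cfsg.classInner]
        congr 1
        refine Fintype.sum_bijective _ (powCoprime (G := (P : Subgroup G)) hkP.symm).bijective _ _
          fun x => ?_
        have hlk : l (x ^ k) = l x := by
          rw [map_pow]
          rcases Nat.even_or_odd k with hev | ⟨c, hc⟩
          · -- then `P` is trivial
            have hx : x = 1 := by
              obtain ⟨z, hz⟩ := P.isPGroup'.exists_card_eq
              rcases Nat.eq_zero_or_pos z with hz0 | hz0
              · haveI := (Nat.card_eq_one_iff_unique.1 (by rw [hz, hz0, pow_zero] :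
                  Nat.card (P : Subgroup G) = 1)).1
                exact Subsingleton.elim _ _
              · exact absurd (hkP.coprime_dvd_right (hz ▸ dvd_pow_self 2 hz0.ne'))
                  (by rw [Nat.coprime_two_right, Nat.not_odd_iff_even]; exact hev)
            rw [hx, map_one, one_pow]
          · rw [hc, pow_succ, pow_mul, hl, one_pow, one_mul]
        simp only [res, powChar, powCoprime_apply, SubmonoidClass.coe_pow, linChar_apply, hlk]
      exact_mod_cast this
    rw [Finset.card_filter, Nat.cast_sum, ← sub_eq_zero]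
    simp only [Nl, Nat.cast_sum]
    rw [← Finset.sum_sub_distrib, hBdef, Finset.sum_filter]
    refine sum_zmod_two hk₁ hk₂ _ (fun χ => ?_) (fun χ hχ => ?_)
    · have hm : powChar hk₁ hk₂ χ ∈ Cfsg.principalBlock M G ↔ χ ∈ Cfsg.principalBlock M G := by
        refine ⟨fun h => ?_, powChar_mem hk₁ hk₂⟩
        rw [mem_principalBlock_iff] at h ⊢
        intro g
        obtain ⟨m, rfl⟩ := (powCoprime (G := G) (coprime_k hk₁ hk₂).symm).surjective g
        have := h m
        simp only [Cfsg.centralChar, powChar] at this ⊢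
        simpa [centralizer_pow hk₁ hk₂] using this
      have hf : powChar hk₁ hk₂ (powChar hk₁ hk₂ χ) = powChar hk₁ hk₂ χ ↔
          powChar hk₁ hk₂ χ = χ := (powChar_injective hk₁ hk₂).eq_iff
      simp only [hm, hinv, charDegree_powChar, hf]
      by_cases hfx : powChar hk₁ hk₂ χ = χ
      · rw [hfx]
      · simp [hfx]
    · by_cases hm : χ ∈ Cfsg.principalBlock M G
      · simp only [hm, if_true, hχ, true_and]
        by_cases hodd : Odd (Cfsg.charDegree (χ : G → ℂ))
        · have hd := h χ hm hodd (fun g => congrFun (congrArg Subtype.val hχ) g)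
          have h1 : (χ : G → ℂ) 1 = 1 := by rw [char_one_eq_degree, hd, Nat.cast_one]
          have e : res χ = (linChar ((degOneHom (isCharacter_irr χ) h1).comp
              (P : Subgroup G).subtype) : ↥(P : Subgroup G) → ℂ) := funext fun x => rfl
          have h4 := ha l χ
          rw [e, classInner_irr] at h4
          rw [hd, mul_one]
          by_cases heq : (degOneHom (isCharacter_irr χ) h1).comp (P : Subgroup G).subtype = l
          · rw [if_pos (by rw [heq])] at h4
            have : a l χ = 1 := by exact_mod_cast h4.symm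
            rw [this, if_pos ⟨h1, heq⟩, sub_self]
          · rw [if_neg (fun e => heq (linChar_injective e))] at h4
            have : a l χ = 0 := by exact_mod_cast h4.symm
            rw [this, if_neg (fun ⟨_, e⟩ => heq e), sub_self]
        · rw [if_neg (fun ⟨h1, _⟩ => hodd (by
            rw [char_one_eq_degree, Nat.cast_eq_one] at h1; rw [h1]; exact odd_one)),
            Nat.cast_zero, sub_zero, ZMod.natCast_eq_zero_iff]
          exact dvd_mul_of_dvd_right (Nat.not_odd_iff_even.1 hodd).two_dvd _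
      · simp [hm]
  have hone := key 1 (fun x => one_pow 2)
  have hl := key lam hlam
  -- the fixed linear characters trivial on the Sylow subgroup are the linear group
  have hodd : ((B.filter fun χ : Cfsg.IrrCharacter G => powChar hk₁ hk₂ χ = χ ∧
        ∃ h1 : (χ : G → ℂ) 1 = 1,
          (degOneHom (isCharacter_irr χ) h1).comp (P : Subgroup G).subtype = 1).card : ZMod 2) ≠ 0 := by
    rw [Ne, ZMod.natCast_eq_zero_iff]
    intro hdvd
    apply not_dvd_card_linearGroup (M := M) P
    convert hdvd using 1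
    rw [← Nat.card_eq_finsetCard]
    refine Nat.card_congr
      { toFun := fun μ => ⟨linChar μ.1, Finset.mem_filter.mpr
          ⟨Finset.mem_filter.mpr ⟨Finset.mem_univ _, μ.2.1⟩, Subtype.ext (funext fun g => ?_),
            by simp [linChar_apply], MonoidHom.ext fun x => Units.ext (by
              rw [MonoidHom.comp_apply, degOneHom_apply, MonoidHom.one_apply, linChar_apply]
              exact congrArg Units.val (μ.2.2 x x.2))⟩⟩
        invFun := fun χ => ⟨degOneHom (isCharacter_irr χ.1) (Finset.mem_filter.mp χ.2).2.2.choose,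
          by
            have e : linChar (degOneHom (isCharacter_irr χ.1)
              (Finset.mem_filter.mp χ.2).2.2.choose) = χ.1 := Subtype.ext rfl
            rw [e]
            exact (Finset.mem_filter.mp (Finset.mem_filter.mp χ.2).1).2,
          fun x hx => DFunLike.congr_fun (Finset.mem_filter.mp χ.2).2.2.choose_spec ⟨x, hx⟩⟩
        left_inv := fun μ => Subtype.ext (MonoidHom.ext fun _ => Units.ext rfl)
        right_inv := fun χ => Subtype.ext (Subtype.ext rfl) }
    -- a linear character trivial on `P` has values of odd order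
    obtain ⟨x, y, hxy, hcomm, ⟨i, hi⟩, hy⟩ := exists_isPPart Nat.prime_two g
    have hx1 : μ.1 x = 1 := by
      have hz : IsPGroup 2 (Subgroup.zpowers x) := IsPGroup.of_card (by rw [Nat.card_zpowers, hi])
      obtain ⟨Q, hQ⟩ := hz.exists_le_sylow
      obtain ⟨c, hc⟩ := MulAction.exists_smul_eq G Q P
      have hm : c * x * c⁻¹ ∈ (P : Subgroup G) := by
        rw [← hc, Sylow.coe_subgroup_smul, Subgroup.mem_pointwise_smul_iff_inv_smul_mem, ← map_inv,
          MulAut.smul_def, MulAut.conj_apply, inv_inv]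
        simpa [mul_assoc] using hQ (Subgroup.mem_zpowers x)
      have := μ.2.2 _ hm
      rwa [map_mul, map_mul, map_inv, mul_inv_cancel_comm] at this
    change ((μ.1 (g ^ k) : ℂˣ) : ℂ) = ((μ.1 g : ℂˣ) : ℂ)
    rw [← hxy, hcomm.mul_pow, map_mul, map_mul, map_pow, hx1, one_pow,
      hk₂ y (Nat.odd_iff.2 (Nat.two_dvd_ne_zero.1 hy))]
  by_contra hcon
  push Not at hcon
  apply hodd
  rw [← hone, ← hpar, hl, Finset.card_eq_zero.2 ?_, Nat.cast_zero]
  rw [Finset.filter_eq_empty_iff]
  rintro χ - ⟨-, h1, heq⟩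
  obtain ⟨x, hx⟩ := hcon (degOneHom (isCharacter_irr χ) h1)
  exact hx (by rw [← heq]; rfl)

/-- If the fixed odd degree characters of the principal block are linear there is a normal
`2`-complement. -/
theorem hasNormalPComplement_of_fixed (hM : Cfsg.IsPModular 2 M)
    (h : ∀ χ : Cfsg.IrrCharacter G, χ ∈ Cfsg.principalBlock M G →
      Odd (Cfsg.charDegree (χ : G → ℂ)) → (∀ g : G, (χ : G → ℂ) (g ^ k) = (χ : G → ℂ) g) →
      Cfsg.charDegree (χ : G → ℂ) = 1) :
    Cfsg.HasNormalPComplement 2 G := by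
  haveI : Fact (Nat.Prime 2) := ⟨Nat.prime_two⟩
  obtain ⟨P⟩ : Nonempty (Sylow 2 G) := inferInstance
  refine Cfsg.Agent.Lib.Transfer.Tate.hasNormalPComplement_of_inf_pResidual_le_frattini P ?_
  rintro x ⟨hx, hxP⟩
  have hxG : x ∈ commutator G := by
    rw [← Abelianization.ker_of]
    have h1 : Cfsg.pResidual 2 G ≤
        (MonoidHom.comp (powMonoidHom (Nat.card G / 2 ^ (Nat.card G).factorization 2))
          Abelianization.of).ker := by
      rw [Cfsg.pResidual, Subgroup.closure_le]
      intro g hg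
      rw [SetLike.mem_coe, MonoidHom.mem_ker, MonoidHom.comp_apply, powMonoidHom_apply, ← map_pow]
      have hd : orderOf g ∣ Nat.card G / 2 ^ (Nat.card G).factorization 2 :=
        Nat.Coprime.dvd_of_dvd_mul_left (Nat.Coprime.pow_right _ hg)
          (by rw [Nat.ordProj_mul_ordCompl_eq_self]; exact orderOf_dvd_natCard g)
      rw [orderOf_dvd_iff_pow_eq_one.mp hd, map_one]
    have h2 : Abelianization.of x ^ (Nat.card G / 2 ^ (Nat.card G).factorization 2) = 1 := h1 hx
    obtain ⟨j, hj⟩ := P.2 ⟨x, hxP⟩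
    have h3 : Abelianization.of x ^ 2 ^ j = 1 := by
      rw [← map_pow, show x ^ 2 ^ j = 1 from congrArg Subtype.val hj, map_one]
    have hcop : Nat.Coprime (Nat.card G / 2 ^ (Nat.card G).factorization 2) (2 ^ j) :=
      Nat.Coprime.pow_right _ ((Nat.coprime_ordCompl Nat.prime_two Nat.card_pos.ne').symm)
    have := pow_gcd_eq_one.mpr ⟨h2, h3⟩
    rw [hcop.gcd_eq_one, pow_one] at this
    exact this
  refine ⟨⟨x, hxP⟩, ?_, rfl⟩
  by_contra hne
  haveI : (frattini (P : Subgroup G)).Normal := inferInstance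
  let π := QuotientGroup.mk' (frattini (P : Subgroup G))
  letI : CommGroup ((P : Subgroup G) ⧸ frattini (P : Subgroup G)) :=
    { (inferInstance : Group ((P : Subgroup G) ⧸ frattini (P : Subgroup G))) with
      mul_comm := fun s t => by
        obtain ⟨s, rfl⟩ := QuotientGroup.mk'_surjective _ s
        obtain ⟨t, rfl⟩ := QuotientGroup.mk'_surjective _ t
        rw [← map_mul, ← map_mul]
        refine (QuotientGroup.eq).2 (Cfsg.Agent.Lib.PGroups.commutator_le_frattini P.2 ?_)
        rw [show (s * t)⁻¹ * (t * s) = ⁅t⁻¹, s⁻¹⁆ by rw [commutatorElement_def]; group, commutator_def]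
        exact Subgroup.commutator_mem_commutator (Subgroup.mem_top _) (Subgroup.mem_top _) }
  have hne' : π ⟨x, hxP⟩ ≠ 1 := fun e => hne ((QuotientGroup.eq_one_iff _).1 e)
  obtain ⟨φ, hφ⟩ := CommGroup.exists_apply_ne_one_of_hasEnoughRootsOfUnity _ ℂ hne'
  obtain ⟨μ, hμ⟩ := exists_linear_extension hk₁ hk₂ hM P h (φ.comp π) (fun y => by
    rw [← map_pow]
    have : π (y ^ 2) = 1 := (QuotientGroup.eq_one_iff _).2 (by
      rw [Cfsg.Agent.Lib.PGroups.frattini_eq_sup (p := 2) P.2]
      exact Subgroup.mem_sup_right (Subgroup.subset_closure ⟨y, rfl⟩))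
    rw [MonoidHom.comp_apply, this, map_one])
  apply hφ
  have : μ x = 1 := Abelianization.commutator_subset_ker μ hxG
  rw [← this]
  exact (hμ ⟨x, hxP⟩).symm

end Cfsg.Agent.Lib.BC78.GaloisTwo
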