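import Cfsg.Agent.Lib.Brauer.Elementary
import Cfsg.Agent.Lib.Clifford.Monomial
import Cfsg.Agent.Lib.BC78.PowChar
import Cfsg.Agent.Lib.Characters.Linear

/-!
# Twisting by the linear characters of an abelian quotient

* `exists_twist` : two characters with a common constituent on `L` meet after a twist;
* `isIrr_restrict_of_stable` : the restriction is irreducible unless some twist fixes the character;
* `coset_norm` : the norm of an extension on each coset;
* `cyclic_of_le_sup`, `isCyclic_comm` : cyclic quotients of a supplemented subgroup.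
-/

set_option autoImplicit false

namespace Cfsg.Agent.Lib.BC78.LinTwist

open scoped ComplexConjugate
open Cfsg.Agent.Lib.Induced.Basic Cfsg.Agent.Lib.Characters.Basic
open Cfsg.Agent.Lib.Characters

universe u

variable {G : Type u} [Group G] [Fintype G] (L : Subgroup G) [hL : L.Normal]

/-- The characters of an abelian quotient as a finite set with the orthogonality relation. -/
theorem exists_dual (hab : ∀ a b : G ⧸ L, a * b = b * a) :
    ∃ s : Finset (G →* ℂˣ), 1 ∈ s ∧ (∀ l ∈ s, ∀ x ∈ L, l x = 1) ∧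
      ∀ g : G, ∑ l ∈ s, (l g : ℂ) = (L.index : ℂ) * (open Classical in if g ∈ L then 1 else 0) := by
  classical
  obtain ⟨_, hcard, hsum⟩ := Lib.Brauer.Elementary.sum_hom_trivialOn hab (⊥ : Subgroup (G ⧸ L))
  let e : {l : G ⧸ L →* ℂ // ∀ z ∈ (⊥ : Subgroup (G ⧸ L)), l z = 1} → (G →* ℂˣ) :=
    fun l => l.1.toHomUnits.comp (QuotientGroup.mk' L)
  have he : Function.Injective e := fun a b h => Subtype.ext (MonoidHom.ext fun q => by
    induction q using QuotientGroup.induction_on with | _ g => ?_
    exact congrArg Units.val (DFunLike.congr_fun h g))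
  refine ⟨Finset.univ.image e, Finset.mem_image.2 ⟨⟨1, fun z _ => rfl⟩, Finset.mem_univ _, ?_⟩,
    fun l hl x hx => ?_, fun g => ?_⟩
  · exact MonoidHom.ext fun g => Units.ext rfl
  · obtain ⟨a, -, rfl⟩ := Finset.mem_image.1 hl
    apply Units.ext
    show a.1 (x : G ⧸ L) = 1
    rw [(QuotientGroup.eq_one_iff x).2 hx, map_one]
  · rw [Finset.sum_image fun a _ b _ h => he h]
    refine (hsum (g : G ⧸ L)).trans ?_
    rw [hcard, Subgroup.index_bot, ← Subgroup.index_eq_card, Subgroup.mem_bot,
      QuotientGroup.eq_one_iff]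

omit hL in
/-- Summing the twists computes the inner product of the restrictions. -/
theorem sum_twist [Fintype L] {s : Finset (G →* ℂˣ)}
    (hs : ∀ g : G, ∑ l ∈ s, (l g : ℂ) = (L.index : ℂ) * (open Classical in if g ∈ L then 1 else 0))
    (f f' : G → ℂ) :
    ∑ l ∈ s, Cfsg.classInner (fun g => (l g : ℂ) * f g) f' =
      Cfsg.classInner (fun x : L => f x) (fun x : L => f' x) := by
  classical
  simp only [Cfsg.classInner, ← Finset.mul_sum]
  rw [Finset.sum_comm]
  simp only [mul_assoc, ← Finset.sum_mul, hs]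
  simp only [← mul_assoc, mul_ite, mul_one, mul_zero, ite_mul, zero_mul]
  rw [← Finset.sum_filter, Finset.sum_subtype (p := fun g => g ∈ L) _ (fun g => by simp)]
  simp only [mul_assoc, ← Finset.mul_sum]
  rw [← Subgroup.index_mul_card L, Nat.cast_mul, mul_inv, mul_comm ((L.index : ℂ)⁻¹), mul_assoc,
    inv_mul_cancel_left₀ (Nat.cast_ne_zero.mpr Subgroup.index_ne_zero_of_finite)]

/-- The twist of an irreducible character by a linear one. -/
noncomputable def twist {G : Type u} [Group G] [Finite G] (l : G →* ℂˣ)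
    (χ : Cfsg.IrrCharacter G) : Cfsg.IrrCharacter G :=
  ⟨(Linear.linChar l : G → ℂ) * (χ : G → ℂ),
    Linear.isIrrCharacter_linear_mul (isCharacter_irr _)
      (by rw [Linear.linChar_apply, map_one, Units.val_one]) χ.2⟩

omit [Fintype G] in
@[simp] theorem twist_apply [Finite G] (l : G →* ℂˣ) (χ : Cfsg.IrrCharacter G) (g : G) :
    (twist l χ : G → ℂ) g = (l g : ℂ) * (χ : G → ℂ) g := by
  show (Linear.linChar l : G → ℂ) g * (χ : G → ℂ) g = _
  rw [Linear.linChar_apply]

/-- Two characters with a common constituent on `L` differ by a linear character of `G / L` when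
one of them stays irreducible there; in general some twist meets the other one. -/
theorem exists_twist [Fintype L] (hab : ∀ a b : G ⧸ L, a * b = b * a) (χ χ' : Cfsg.IrrCharacter G)
    (h : Cfsg.classInner (fun x : L => (χ : G → ℂ) x) (fun x : L => (χ' : G → ℂ) x) ≠ 0) :
    ∃ l : G →* ℂˣ, (∀ x ∈ L, l x = 1) ∧ twist l χ = χ' := by
  classical
  obtain ⟨s, -, hs1, hs⟩ := exists_dual L hab
  rw [← sum_twist L hs] at h
  obtain ⟨l, hl, hne⟩ := Finset.exists_ne_zero_of_sum_ne_zero h
  refine ⟨l, hs1 l hl, ?_⟩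
  by_contra hh
  apply hne
  rw [show (fun g => (l g : ℂ) * (χ : G → ℂ) g) = (twist l χ : G → ℂ) from
    funext fun g => (twist_apply l χ g).symm, classInner_irr, if_neg hh]

/-- A character fixed by no nontrivial twist restricts irreducibly. -/
theorem isIrr_restrict_of_stable [Fintype L] (hab : ∀ a b : G ⧸ L, a * b = b * a)
    (χ : Cfsg.IrrCharacter G)
    (h : ∀ l : G →* ℂˣ, (∀ x ∈ L, l x = 1) → twist l χ = χ → l = 1) :
    Cfsg.IsIrrCharacter L (fun x : L => (χ : G → ℂ) x) := by
  classical
  obtain ⟨s, h1, hs1, hs⟩ := exists_dual L hab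
  have hc : Cfsg.IsCharacter L (fun x : L => (χ : G → ℂ) x) :=
    isCharacter_comp L.subtype (isCharacter_irr χ)
  refine isIrrCharacter_of_classInner_self hc ?_
  rw [← sum_twist L hs, Finset.sum_eq_single_of_mem 1 h1]
  · simp only [MonoidHom.one_apply, Units.val_one, one_mul]
    exact classInner_self_irr χ
  · intro l hl hne
    rw [show (fun g => (l g : ℂ) * (χ : G → ℂ) g) = (twist l χ : G → ℂ) from
      funext fun g => (twist_apply l χ g).symm, classInner_irr, if_neg]
    exact fun hh => hne (h l (hs1 l hl) hh)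

/-- The norm of an extension on a coset. -/
theorem coset_norm [Fintype L] (hab : ∀ a b : G ⧸ L, a * b = b * a) (χ : Cfsg.IrrCharacter G)
    (θ : Cfsg.IrrCharacter L) (hχ : ∀ x : L, (χ : G → ℂ) x = (θ : L → ℂ) x) (g : G) :
    ∑ x : L, (χ : G → ℂ) ((x : G) * g) * conj ((χ : G → ℂ) ((x : G) * g)) = (Nat.card L : ℂ) := by
  classical
  obtain ⟨s, h1, hs1, hs⟩ := exists_dual L hab
  have hres : Cfsg.classInner (fun x : L => (χ : G → ℂ) x) (fun x : L => (χ : G → ℂ) x) = 1 := by
    rw [show (fun x : L => (χ : G → ℂ) x) = (θ : L → ℂ) from funext hχ]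
    exact classInner_self_irr θ
  rw [← sum_twist L hs] at hres
  simp only [show ∀ l : G →* ℂˣ, (fun g => (l g : ℂ) * (χ : G → ℂ) g) = (twist l χ : G → ℂ) from
    fun l => funext fun g => (twist_apply l χ g).symm] at hres
  have hval : ∀ l ∈ s, Cfsg.classInner (twist l χ : G → ℂ) χ = if l = 1 then 1 else 0 := by
    intro l hl
    rw [classInner_irr]
    by_cases hl1 : l = 1
    · rw [if_pos hl1, if_pos]
      exact Subtype.ext (funext fun g => by simp [hl1])
    · rw [if_neg hl1, if_neg]
      intro hh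
      simp only [classInner_irr] at hres
      rw [Finset.sum_boole] at hres
      have h2 : 2 ≤ (s.filter fun l => twist l χ = χ).card := by
        refine Finset.one_lt_card.2 ⟨1, Finset.mem_filter.2 ⟨h1, ?_⟩, l,
          Finset.mem_filter.2 ⟨hl, hh⟩, Ne.symm hl1⟩
        exact Subtype.ext (funext fun g => by simp)
      have h3 : (s.filter fun l => twist l χ = χ).card = 1 := by exact_mod_cast hres
      omega
  -- weight the orthogonality relations by the value at `g`
  let F : G → ℂ := fun h => (χ : G → ℂ) h * conj ((χ : G → ℂ) h)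
  have key : ∑ l ∈ s, (l g⁻¹ : ℂ) * ∑ h : G, (l h : ℂ) * F h = (Nat.card G : ℂ) := by
    rw [Finset.sum_eq_single_of_mem 1 h1]
    · simp only [MonoidHom.one_apply, Units.val_one, one_mul]
      have := classInner_self_irr χ
      rw [Cfsg.classInner, inv_mul_eq_iff_eq_mul₀ natCard_ne_zero, mul_one] at this
      exact this
    · intro l hl hne
      have := hval l hl
      rw [if_neg hne, Cfsg.classInner, mul_eq_zero, inv_eq_zero] at this
      rw [show (∑ h : G, (l h : ℂ) * F h) = 0 from ?_, mul_zero]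
      rw [← this.resolve_left natCard_ne_zero]
      exact Finset.sum_congr rfl fun h _ => by rw [twist_apply, mul_assoc]
  simp only [Finset.mul_sum] at key
  rw [Finset.sum_comm] at key
  simp only [← mul_assoc, ← Finset.sum_mul, ← Units.val_mul, ← map_mul, hs, mul_ite, mul_one,
    mul_zero, ite_mul, zero_mul] at key
  rw [← Finset.sum_filter, ← Finset.mul_sum, ← Subgroup.index_mul_card L, Nat.cast_mul] at key
  rw [← mul_left_cancel₀ (Nat.cast_ne_zero.mpr (Subgroup.index_ne_zero_of_finite (H := L))) key]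
  refine Finset.sum_bij (fun x _ => (x : G) * g) (fun x _ => ?_) (fun a _ b _ h => ?_)
    (fun h hh => ?_) (fun x _ => rfl)
  · rw [Finset.mem_filter]
    refine ⟨Finset.mem_univ _, ?_⟩
    rw [← mul_assoc]
    simpa using hL.conj_mem _ x.2 g⁻¹
  · exact Subtype.ext (mul_right_cancel h)
  · refine ⟨⟨h * g⁻¹, ?_⟩, Finset.mem_univ _, by simp⟩
    have := hL.conj_mem _ (Finset.mem_filter.1 hh).2 g
    simpa [mul_assoc] using this

omit [Fintype G] hL in
/-- A quotient generated by one element is cyclic. -/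
theorem cyclic_of_le_sup {K H : Subgroup G} (hKH : K ≤ H) [(K.subgroupOf H).Normal] {e : G}
    (he : e ∈ H) (h : H ≤ K ⊔ Subgroup.zpowers e) : IsCyclic (H ⧸ K.subgroupOf H) := by
  refine ⟨⟨QuotientGroup.mk' _ (⟨e, he⟩ : H), fun q => ?_⟩⟩
  obtain ⟨x, rfl⟩ := QuotientGroup.mk'_surjective _ q
  let π := QuotientGroup.mk' (K.subgroupOf H)
  have hle : K ⊔ Subgroup.zpowers e ≤
      ((Subgroup.zpowers (π ⟨e, he⟩)).comap π).map H.subtype := by
    refine sup_le (fun k hk => ⟨⟨k, hKH hk⟩, ?_, rfl⟩) ?_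
    · show π (⟨k, hKH hk⟩ : H) ∈ Subgroup.zpowers (π (⟨e, he⟩ : H))
      rw [show π ⟨k, hKH hk⟩ = 1 from (QuotientGroup.eq_one_iff (N := K.subgroupOf H) _).2 hk]
      exact one_mem _
    · rw [Subgroup.zpowers_le]
      exact ⟨⟨e, he⟩, Subgroup.mem_zpowers _, rfl⟩
  obtain ⟨y, hy, hyx⟩ := hle (h x.2)
  rw [show x = y from Subtype.ext hyx.symm]
  exact Subgroup.mem_zpowers_iff.1 hy

omit [Fintype G] hL in
theorem isCyclic_comm {A : Type*} [Group A] [h : IsCyclic A] (a b : A) : a * b = b * a := by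
  obtain ⟨q, hq⟩ := h.exists_generator
  obtain ⟨i, rfl⟩ := Subgroup.mem_zpowers_iff.1 (hq a)
  obtain ⟨j, rfl⟩ := Subgroup.mem_zpowers_iff.1 (hq b)
  rw [← zpow_add, ← zpow_add, add_comm]

end Cfsg.Agent.Lib.BC78.LinTwist
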