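import Cfsg.Agent.Lib.Brauer.Characterization
import Cfsg.Agent.Lib.BC78.LinTwist
import Cfsg.Agent.Lib.BC78.Clifford
import Mathlib.GroupTheory.Nilpotent

/-!
# Gluing distinguished extensions

* `solvable_induction` : induction along cyclic steps to `N ⊔ E` with `E` solvable;
* `glue` : distinguished extensions on the subgroups `N ⊔ E`, unique on cyclic steps, glue to an
  extension to the whole group.
-/

set_option autoImplicit false

namespace Cfsg.Agent.Lib.BC78.GlueExt

open scoped ComplexConjugate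
open Cfsg.Agent.Lib.Induced.Basic Cfsg.Agent.Lib.Characters.Basic
open Cfsg.Agent.Lib.BC78

universe u

variable {G : Type u} [Group G]

/-- Elementary groups are solvable. -/
theorem isSolvable_of_isElementary {E : Type u} [Group E] [Finite E] {p : ℕ} [Fact p.Prime]
    (h : Cfsg.IsElementary p E) : Group.IsSolvable E := by
  obtain ⟨x, hx, -, k, hk⟩ := h
  haveI hn : (Subgroup.zpowers x).Normal := ⟨fun z hz g => by
    obtain ⟨i, rfl⟩ := Subgroup.mem_zpowers_iff.1 hz
    rw [Subgroup.mem_center_iff.1 (Subgroup.zpow_mem _ hx i) g, mul_inv_cancel_right]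
    exact Subgroup.zpow_mem _ (Subgroup.mem_zpowers x) i⟩
  have hq : IsPGroup p (E ⧸ Subgroup.zpowers x) :=
    IsPGroup.of_card (n := k) (by rw [← Subgroup.index_eq_card]; exact hk)
  haveI := hq.isNilpotent
  refine Group.isSolvable_of_ker_le_range (Subgroup.zpowers x).subtype
    (QuotientGroup.mk' (Subgroup.zpowers x)) ?_
  rw [QuotientGroup.ker_mk', Subgroup.range_subtype]

variable [Finite G] (N : Subgroup G) [hN : N.Normal]

/-- Induction along cyclic steps. -/
theorem solvable_induction (P : Subgroup G → Prop) (base : P N)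
    (step : ∀ L H : Subgroup G, N ≤ L → L ≤ H → ∀ _ : (L.subgroupOf H).Normal,
      IsCyclic (H ⧸ L.subgroupOf H) → P L → P H)
    (E : Subgroup G) [Group.IsSolvable E] : P (N ⊔ E) := by
  suffices h : ∀ n : ℕ, ∀ E : Subgroup G, Nat.card E = n → Group.IsSolvable E → P (N ⊔ E) from
    h _ E rfl inferInstance
  intro n
  induction n using Nat.strong_induction_on with | _ n ih => ?_
  intro E hcard hsolv
  rcases eq_or_ne E ⊥ with rfl | hE
  · rwa [sup_bot_eq]
  haveI : Nontrivial E := (Subgroup.nontrivial_iff_ne_bot E).2 hE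
  have hlt : commutator E < ⊤ := Group.IsSolvable.commutator_lt_top_of_nontrivial E
  obtain ⟨M, hM, hcM⟩ := (eq_top_or_exists_le_coatom (commutator E)).resolve_left hlt.ne
  obtain ⟨e, -, he⟩ := SetLike.exists_of_lt (lt_top_iff_ne_top.2 hM.1)
  let M' : Subgroup G := M.map E.subtype
  have hM'E : M' ≤ E := Subgroup.map_subtype_le M
  have hconjM : ∀ x ∈ E, ∀ m ∈ M', x * m * x⁻¹ ∈ M' := by
    rintro x hx _ ⟨m, hm, rfl⟩
    refine ⟨(⟨x, hx⟩ : E) * m * (⟨x, hx⟩ : E)⁻¹, ?_, rfl⟩
    have h1 : (⟨x, hx⟩ : E) * m * (⟨x, hx⟩ : E)⁻¹ * m⁻¹ ∈ M :=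
      hcM (Subgroup.commutator_mem_commutator (Subgroup.mem_top _) (Subgroup.mem_top _))
    simpa using M.mul_mem h1 hm
  have hLn : ((N ⊔ M').subgroupOf (N ⊔ E)).Normal := by
    rw [Subgroup.normal_subgroupOf_iff_le_normalizer (sup_le_sup_left hM'E N)]
    refine sup_le ((le_sup_left : N ≤ N ⊔ M').trans Subgroup.le_normalizer) fun x hx => ?_
    have key : ∀ y ∈ E, ∀ l ∈ N ⊔ M', y * l * y⁻¹ ∈ N ⊔ M' := by
      intro y hy l hl
      rw [← SetLike.mem_coe, Subgroup.normal_mul] at hl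
      obtain ⟨a, ha, b, hb, rfl⟩ := hl
      rw [show y * (a * b) * y⁻¹ = y * a * y⁻¹ * (y * b * y⁻¹) by group]
      exact mul_mem (Subgroup.mem_sup_left (hN.conj_mem a ha y))
        (Subgroup.mem_sup_right (hconjM y hy b hb))
    rw [Subgroup.mem_normalizer_iff]
    refine fun l => ⟨key x hx l, fun h => ?_⟩
    simpa [mul_assoc] using key x⁻¹ (inv_mem hx) _ h
  refine step _ _ le_sup_left (sup_le_sup_left hM'E N) hLn ?_ ?_
  · haveI := hLn
    refine LinTwist.cyclic_of_le_sup (sup_le_sup_left hM'E N) (Subgroup.mem_sup_right e.2) ?_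
    refine sup_le (le_sup_left.trans le_sup_left) fun x hx => ?_
    have htop : M ⊔ Subgroup.zpowers e = ⊤ :=
      hM.2 _ (lt_of_le_of_ne le_sup_left fun h => he (h ▸ Subgroup.mem_sup_right (Subgroup.mem_zpowers e)))
    have hE' : E = M' ⊔ Subgroup.zpowers (e : G) := by
      have := congrArg (Subgroup.map E.subtype) htop
      rw [Subgroup.map_sup, MonoidHom.map_zpowers, ← MonoidHom.range_eq_map,
        Subgroup.range_subtype] at this
      exact this.symm
    rw [hE'] at hx
    exact (sup_le_sup_right (le_sup_right : M' ≤ N ⊔ M') _) hx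
  · refine ih _ ?_ M' rfl ?_
    · rw [← hcard, show Nat.card M' = Nat.card M from
        (Nat.card_congr (M.equivMapOfInjective _ E.subtype_injective).toEquiv).symm]
      refine lt_of_le_of_ne (Subgroup.card_le_card_group M) fun h => hM.1 ?_
      exact Subgroup.eq_top_of_card_eq M h
    · exact Group.isSolvable_of_isSolvable_injective
        (f := Subgroup.inclusion hM'E) (Subgroup.inclusion_injective _)

omit [Finite G] hN in
/-- An irreducible character with irreducible restriction to `N` restricts irreducibly between. -/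
theorem exists_restrict [Fintype G] {θ : Cfsg.IrrCharacter N} {L H : Subgroup G} (hNL : N ≤ L)
    (hLH : L ≤ H) (χ : Cfsg.IrrCharacter H)
    (hχ : ∀ (n : N) (h : H), (h : G) = n → (χ : H → ℂ) h = (θ : N → ℂ) n) :
    ∃ ψ : Cfsg.IrrCharacter L, ∀ l, (ψ : L → ℂ) l = (χ : H → ℂ) (Subgroup.inclusion hLH l) := by
  classical
  haveI := Fintype.ofFinite L
  haveI := Fintype.ofFinite N
  refine ⟨⟨(χ : H → ℂ) ∘ Subgroup.inclusion hLH, ?_⟩, fun l => rfl⟩
  refine Lib.Clifford.Monomial.isIrr_of_comp_irr (Subgroup.inclusion hNL)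
    (isCharacter_comp _ (isCharacter_irr χ)) ?_
  convert θ.2 using 1
  exact funext fun n => hχ n _ rfl

/-- Distinguished extensions glue to the whole group. -/
theorem glue [Fintype G] {θ : Cfsg.IrrCharacter N}
    (W : ∀ H : Subgroup G, Cfsg.IrrCharacter H → Prop)
    (hext : ∀ H, N ≤ H → ∀ χ, W H χ → ∀ (n : N) (h : H), (h : G) = n →
      (χ : H → ℂ) h = (θ : N → ℂ) n)
    (hex : ∀ E : Subgroup G, Group.IsSolvable E → ∃ χ, W (N ⊔ E) χ)
    (hsub : ∀ (L H : Subgroup G) (hLH : L ≤ H), N ≤ L → ∀ (χ : Cfsg.IrrCharacter H)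
      (ψ : Cfsg.IrrCharacter L), W H χ →
        (∀ l, (ψ : L → ℂ) l = (χ : H → ℂ) (Subgroup.inclusion hLH l)) → W L ψ)
    (huniq : ∀ (g : G) (χ χ' : Cfsg.IrrCharacter ↥(N ⊔ Subgroup.zpowers g)),
      W _ χ → W _ χ' → χ = χ')
    (T : Set G) (hT : N ⊔ Subgroup.closure T = ⊤)
    (hconj : ∀ x ∈ T, ∀ (H H' : Subgroup G), N ≤ H → N ≤ H' → ∀ (χ : Cfsg.IrrCharacter H)
      (ψ : Cfsg.IrrCharacter H'), W H χ → (∀ h' : H', x⁻¹ * (h' : G) * x ∈ H) →
        (∀ (h : H) (h' : H'), (h' : G) = x * h * x⁻¹ → (ψ : H' → ℂ) h' = (χ : H → ℂ) h) →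
        W H' ψ) :
    ∃ η : Cfsg.IrrCharacter G, (∀ n : N, (η : G → ℂ) n = (θ : N → ℂ) n) ∧
      ∀ H, N ≤ H → ∀ χ, W H χ → ∀ h : H, (η : G → ℂ) h = (χ : H → ℂ) h := by
  classical
  haveI := Fintype.ofFinite N
  let Z : G → Subgroup G := fun g => N ⊔ Subgroup.zpowers g
  have hsZ : ∀ g : G, Group.IsSolvable (Subgroup.zpowers g) := fun g =>
    Group.isSolvable_of_comm fun a b => Subtype.ext (by
      obtain ⟨i, hi⟩ := Subgroup.mem_zpowers_iff.1 a.2
      obtain ⟨j, hj⟩ := Subgroup.mem_zpowers_iff.1 b.2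
      rw [Subgroup.coe_mul, Subgroup.coe_mul, ← hi, ← hj, ← zpow_add, ← zpow_add, add_comm])
  let c : ∀ g, Cfsg.IrrCharacter (Z g) := fun g => (hex _ (hsZ g)).choose
  have hc : ∀ g, W (Z g) (c g) := fun g => (hex _ (hsZ g)).choose_spec
  have hmem : ∀ g, g ∈ Z g := fun g => Subgroup.mem_sup_right (Subgroup.mem_zpowers g)
  let η : G → ℂ := fun g => (c g : Z g → ℂ) ⟨g, hmem g⟩
  have hagree : ∀ H, N ≤ H → ∀ χ, W H χ → ∀ h : H, η h = (χ : H → ℂ) h := by
    intro H hNH χ hχ h
    have hle : Z (h : G) ≤ H := sup_le hNH (Subgroup.zpowers_le.2 h.2)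
    obtain ⟨ψ, hψ⟩ := exists_restrict N (le_sup_left : N ≤ Z (h : G)) hle χ (hext H hNH χ hχ)
    have := huniq (h : G) ψ (c h) (hsub _ _ hle le_sup_left χ ψ hχ hψ) (hc h)
    change (c (h : G) : Z (h : G) → ℂ) ⟨(h : G), _⟩ = _
    rw [← this, hψ]
    rfl
  have hηN : ∀ n : N, η n = (θ : N → ℂ) n := fun n => hext _ le_sup_left _ (hc n) n _ rfl
  -- invariance under conjugation
  have hcl : Cfsg.IsClassFunction G η := by
    intro g x
    let S : Subgroup G :=
      { carrier := {x | ∀ g, η (x * g * x⁻¹) = η g}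
        one_mem' := fun g => by simp
        mul_mem' := fun {a b} ha hb g => by
          rw [show a * b * g * (a * b)⁻¹ = a * (b * g * b⁻¹) * a⁻¹ by group, ha, hb]
        inv_mem' := fun {a} ha g => by
          have := ha (a⁻¹ * g * a)
          rw [show a * (a⁻¹ * g * a) * a⁻¹ = g by group] at this
          simpa using this.symm }
    suffices h : N ⊔ Subgroup.closure T ≤ S by
      exact h (hT ▸ Subgroup.mem_top x) g
    refine sup_le (fun n hn g => ?_) ((Subgroup.closure_le S).2 fun y hy g => ?_)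
    · have hH : n * g * n⁻¹ ∈ Z g := mul_mem (mul_mem (Subgroup.mem_sup_left hn) (hmem g))
        (inv_mem (Subgroup.mem_sup_left hn))
      rw [hagree _ le_sup_left _ (hc g) ⟨_, hH⟩]
      exact isClassFunction_irr (c g) ⟨g, hmem g⟩ ⟨n, Subgroup.mem_sup_left hn⟩
    · have hmap : (Z g).map (MulAut.conj y).toMonoidHom = Z (y * g * y⁻¹) := by
        rw [Subgroup.map_sup, MonoidHom.map_zpowers]
        congr 1
        exact Subgroup.Normal.map_conj_eq (H := N) (g := y)
      let f : Z (y * g * y⁻¹) →* Z g :=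
        ((MulAut.conj y⁻¹).toMonoidHom.comp (Z (y * g * y⁻¹)).subtype).codRestrict (Z g) fun h => by
          obtain ⟨a, ha, hah⟩ := hmap.ge h.2
          simp only [MonoidHom.coe_comp, Function.comp_apply, Subgroup.coe_subtype,
            MulEquiv.coe_toMonoidHom, ← hah, MulAut.conj_apply]
          simpa [mul_assoc] using ha
      have hf : Function.Surjective f := fun a => by
        refine ⟨⟨y * a * y⁻¹, hmap.le ⟨(a : G), a.2, rfl⟩⟩, Subtype.ext ?_⟩
        show y⁻¹ * (y * a * y⁻¹) * y⁻¹⁻¹ = a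
        group
      let ψ : Cfsg.IrrCharacter (Z (y * g * y⁻¹)) :=
        ⟨(c g : Z g → ℂ) ∘ f, isIrrCharacter_comp f hf (c g).2⟩
      have hψ : W _ ψ := by
        refine hconj y hy _ _ le_sup_left le_sup_left (c g) ψ (hc g) (fun h' => ?_) fun h h' e => ?_
        · have h2 : y⁻¹ * (h' : G) * y⁻¹⁻¹ ∈ Z g := (f h').2
          rwa [inv_inv] at h2
        change (c g : Z g → ℂ) (f h') = _
        refine congrArg (c g : Z g → ℂ) (Subtype.ext ?_)
        show y⁻¹ * (h' : G) * y⁻¹⁻¹ = _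
        rw [e]
        group
      rw [hagree _ le_sup_left ψ hψ ⟨_, hmem _⟩]
      show (c g : Z g → ℂ) (f _) = (c g : Z g → ℂ) ⟨g, hmem g⟩
      refine congrArg (c g : Z g → ℂ) (Subtype.ext ?_)
      show y⁻¹ * (y * g * y⁻¹) * y⁻¹⁻¹ = g
      group
  have hgen : Cfsg.IsGeneralizedCharacter G η := by
    apply Lib.Brauer.Characterization.isGeneralized_of_mem
    refine Lib.Brauer.Characterization.mem_of_elementary ℤ hcl fun E _ q hq hel => ?_
    haveI : Fact q.Prime := ⟨hq⟩
    obtain ⟨χ, hχ⟩ := hex E (isSolvable_of_isElementary hel)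
    have hE : (fun e : E => η (e : G)) =
        (χ : ↥(N ⊔ E) → ℂ) ∘ Subgroup.inclusion (le_sup_right : E ≤ N ⊔ E) :=
      funext fun e => hagree _ le_sup_left χ hχ (Subgroup.inclusion le_sup_right e)
    rw [hE]
    refine Submodule.span_mono ?_ (Lib.Brauer.Monomial.char_mem
      (isCharacter_comp _ (isCharacter_irr χ)))
    exact fun f ⟨K, _, l, hl⟩ => ⟨K, trivial, l, hl⟩
  have hnorm : Cfsg.classInner η η = 1 := by
    have hcoset : ∀ g : G, ∑ n : N, η ((n : G) * g) * conj (η ((n : G) * g)) = (Nat.card N : ℂ) := by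
      intro g
      set H := Z g with hH
      haveI : (N.subgroupOf H).Normal := inferInstance
      haveI := LinTwist.cyclic_of_le_sup (K := N) (H := H) le_sup_left (hmem g) le_rfl
      let e := Subgroup.subgroupOfEquivOfLe (le_sup_left : N ≤ H)
      let θ' : Cfsg.IrrCharacter (N.subgroupOf H) :=
        ⟨(θ : N → ℂ) ∘ e.toMonoidHom, isIrrCharacter_comp _ e.surjective θ.2⟩
      have h1 := LinTwist.coset_norm (N.subgroupOf H) LinTwist.isCyclic_comm (c g) θ'
        (fun x => hext _ le_sup_left _ (hc g) (e x) (x : H) rfl) ⟨g, hmem g⟩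
      rw [Nat.card_congr e.toEquiv] at h1
      rw [← h1]
      refine Fintype.sum_equiv e.symm.toEquiv _ _ fun n => ?_
      rw [show (n : G) * g = (((e.symm n : N.subgroupOf H) : H) * (⟨g, hmem g⟩ : H) : H) from rfl,
        hagree H le_sup_left (c g) (hc g)]
      rfl
    have h2 : ∑ g : G, ∑ n : N, η ((n : G) * g) * conj (η ((n : G) * g)) =
        (Nat.card N : ℂ) * ∑ g : G, η g * conj (η g) := by
      rw [Finset.sum_comm]
      have : ∀ n : N, ∑ g : G, η ((n : G) * g) * conj (η ((n : G) * g)) = ∑ g : G, η g * conj (η g) :=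
        fun n => Fintype.sum_equiv (Equiv.mulLeft (n : G)) _ _ fun g => rfl
      rw [Finset.sum_congr rfl fun n _ => this n, Finset.sum_const, nsmul_eq_mul, Finset.card_univ,
        ← Nat.card_eq_fintype_card]
    rw [Finset.sum_congr rfl fun g _ => hcoset g, Finset.sum_const, nsmul_eq_mul, Finset.card_univ,
      ← Nat.card_eq_fintype_card, mul_comm] at h2
    rw [Cfsg.classInner, ← mul_left_cancel₀ (Nat.cast_ne_zero.mpr Nat.card_pos.ne') h2,
      inv_mul_cancel₀ natCard_ne_zero]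
  have hpos : 0 < (η 1).re := by
    obtain ⟨d, hd, hd'⟩ := exists_degree_pos θ
    have h1 := hηN 1
    rw [OneMemClass.coe_one, hd'] at h1
    rw [h1, Complex.natCast_re]
    exact Nat.cast_pos.2 hd
  exact ⟨⟨η, PowChar.isIrr_of_norm_one hgen hnorm hpos⟩, hηN, hagree⟩

end Cfsg.Agent.Lib.BC78.GlueExt
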