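import Cfsg.Agent.Lib.BrauerPairs.Bridge
import Cfsg.Agent.Lib.BrauerPairs.Principal
import Cfsg.Agent.Lib.BrauerMap.Inflation
import Cfsg.Agent.Lib.Chars82.PrincipalBlock
import Cfsg.Agent.Lib.Blocks.Contrib
import Cfsg.Agent.Lib.Clifford.Monomial
import Mathlib.GroupTheory.SchurZassenhaus

/-!
# The principal block idempotent on the centralizer of a Sylow subgroup

* `exists_complement` : `C(S) = Z(S) × K`;
* `residue_coeff` : the reduced idempotent on `C(S)` is the average over `K`;
* `not_memLocalIdeal_sum` : its sum over a normal subgroup is a unit;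
* `weighted_eq`, `exists_over` : the members of the principal block over a member of the principal
  block of a normal subgroup.
-/

set_option autoImplicit false

namespace Cfsg.Agent.Lib.BC78.Local

open scoped ComplexConjugate
open Cfsg.Agent.Lib.Blocks Cfsg.Agent.Lib.Blocks.Contrib
open Cfsg.Agent.Lib.Induced.Basic Cfsg.Agent.Lib.Characters.Basic

attribute [local instance] Ideal.Quotient.field

universe u

variable {G : Type u} [Group G] [Finite G] {p : ℕ} [hp : Fact p.Prime]
  {M : Ideal Cfsg.AlgInt} [M.IsMaximal] (hM : Cfsg.IsPModular p M) (S : Sylow p G)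


/-- A `p`-element centralizing a Sylow subgroup lies in it. -/
theorem mem_sylow_of_centralizes {x : G} (hx : x ∈ (Subgroup.centralizer ((S : Subgroup G) : Set G))) {j : ℕ} (hj : x ^ p ^ j = 1) :
    x ∈ (S : Subgroup G) := by
  have hz : IsPGroup p (Subgroup.zpowers x) := by
    obtain ⟨i, -, hi⟩ := (Nat.dvd_prime_pow hp.out).1 (orderOf_dvd_of_pow_eq_one hj)
    exact IsPGroup.of_card (by rw [Nat.card_zpowers, hi])
  exact ((SetLike.ext_iff.1 (hz.inf_normalizer_sylow S) x).1 (Subgroup.mem_inf.2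
    ⟨Subgroup.mem_zpowers x, Subgroup.centralizer_le_normalizer _ hx⟩)).2

/-- The centralizer of a Sylow subgroup has a normal `p`-complement. -/
theorem exists_complement : ∃ K : Subgroup (Subgroup.centralizer ((S : Subgroup G) : Set G)), K.Normal ∧ ¬ p ∣ Nat.card K ∧
    (∀ c : (Subgroup.centralizer ((S : Subgroup G) : Set G)), ¬ p ∣ orderOf (c : G) → c ∈ K) ∧
    ∀ c : (Subgroup.centralizer ((S : Subgroup G) : Set G)), ∃ z k : (Subgroup.centralizer ((S : Subgroup G) : Set G)), (z : G) ∈ (S : Subgroup G) ∧ k ∈ K ∧ c = z * k := by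
  set C := (Subgroup.centralizer ((S : Subgroup G) : Set G))
  let Z : Subgroup C := (S : Subgroup G).subgroupOf C
  have hcen : Z ≤ Subgroup.center C := fun z hz => Subgroup.mem_center_iff.2 fun c =>
    Subtype.ext (Subgroup.mem_centralizer_iff.1 c.2 z hz).symm
  haveI : Z.Normal := ⟨fun z hz g => by
    rw [Subgroup.mem_center_iff.1 (hcen hz) g, mul_inv_cancel_right]; exact hz⟩
  have hidx : ¬ p ∣ Z.index := by
    intro h
    rw [Subgroup.index_eq_card] at h
    obtain ⟨q, hq⟩ := exists_prime_orderOf_dvd_card' (G := C ⧸ Z) p h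
    obtain ⟨c, rfl⟩ := QuotientGroup.mk_surjective q
    obtain ⟨a, m, hm, ham⟩ := Nat.exists_eq_pow_mul_and_not_dvd (orderOf_pos c).ne' p hp.out.ne_one
    have hcm : ((c ^ m : C) : G) ∈ (S : Subgroup G) := by
      refine mem_sylow_of_centralizes S (c ^ m).2 (j := a) ?_
      rw [← Subgroup.coe_pow, ← pow_mul, mul_comm, ← ham, pow_orderOf_eq_one]
      rfl
    have h1 : ((c : C) : C ⧸ Z) ^ m = 1 := by
      rw [← QuotientGroup.mk_pow, QuotientGroup.eq_one_iff]
      exact hcm
    exact hm (hq ▸ orderOf_dvd_of_pow_eq_one h1)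
  have hZ : IsPGroup p Z := S.isPGroup'.comap_subtype
  obtain ⟨j, hj⟩ := hZ.exists_card_eq
  have hcop : Nat.Coprime (Nat.card Z) Z.index := by
    rw [hj]; exact Nat.Coprime.pow_left j (hp.out.coprime_iff_not_dvd.2 hidx)
  obtain ⟨K, hK⟩ := Subgroup.exists_right_complement'_of_coprime hcop
  have hdec : ∀ c : C, ∃ z k : C, (z : G) ∈ (S : Subgroup G) ∧ k ∈ K ∧ c = z * k := by
    intro c
    obtain ⟨⟨z, k⟩, h⟩ := (hK.existsUnique c).exists
    exact ⟨z, k, z.2, k.2, h.symm⟩
  have hcard : Nat.card K = Z.index := hK.symm.index_eq_card.symm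
  have hKn : K.Normal := ⟨fun k hk c => by
    obtain ⟨z, k', hz, hk', rfl⟩ := hdec c
    have : z * k' * k * (z * k')⁻¹ = k' * k * k'⁻¹ := by
      have hz' := Subgroup.mem_center_iff.1 (hcen (show z ∈ Z from hz)) (k' * k * k'⁻¹)
      calc z * k' * k * (z * k')⁻¹ = z * (k' * k * k'⁻¹) * z⁻¹ := by group
        _ = k' * k * k'⁻¹ := by rw [← hz', mul_inv_cancel_right]
    rw [this]
    exact mul_mem (mul_mem hk' hk) (inv_mem hk')⟩
  refine ⟨K, hKn, hcard ▸ hidx, fun c hc => ?_, hdec⟩
  obtain ⟨z, k, hz, hk, rfl⟩ := hdec c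
  suffices z = 1 by rw [this, one_mul]; exact hk
  have hcomm : Commute z k := (Subgroup.mem_center_iff.1 (hcen (show z ∈ Z from hz)) k).symm
  obtain ⟨i, hi⟩ := hZ ⟨z, hz⟩
  have hzi : z ^ p ^ i = 1 := congrArg Subtype.val hi
  have h1 : z ^ (orderOf (z * k) * Nat.card K) = 1 := by
    have h2 : (z * k) ^ (orderOf (z * k) * Nat.card K) = 1 := by
      rw [pow_mul, pow_orderOf_eq_one, one_pow]
    rw [hcomm.mul_pow] at h2
    rwa [show k ^ (orderOf (z * k) * Nat.card K) = 1 by
      rw [mul_comm, pow_mul, orderOf_dvd_iff_pow_eq_one.1 (Subgroup.orderOf_dvd_natCard K hk), one_pow],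
      mul_one] at h2
  have hcop' : Nat.Coprime (p ^ i) (orderOf (z * k) * Nat.card K) := by
    refine Nat.Coprime.pow_left i (hp.out.coprime_iff_not_dvd.2 fun h => ?_)
    rcases hp.out.dvd_mul.1 h with h | h
    · exact hc (by rwa [← Subgroup.orderOf_coe] at h)
    · exact hidx (hcard ▸ h)
  have h3 := pow_gcd_eq_one.2 ⟨hzi, h1⟩
  rwa [hcop'.gcd_eq_one, pow_one] at h3

variable (K : Subgroup (Subgroup.centralizer ((S : Subgroup G) : Set G))) [hKn : K.Normal] (hKp : ¬ p ∣ Nat.card K)
  (hdec : ∀ c : (Subgroup.centralizer ((S : Subgroup G) : Set G)), ∃ z k : (Subgroup.centralizer ((S : Subgroup G) : Set G)), (z : G) ∈ (S : Subgroup G) ∧ k ∈ K ∧ c = z * k)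

include hM hKp hdec

/-- The principal block of `C(S)` consists of the characters trivial on the complement. -/
theorem principalBlock_centralizer : Cfsg.principalBlock M (Subgroup.centralizer ((S : Subgroup G) : Set G)) =
    {ψ : Cfsg.IrrCharacter (Subgroup.centralizer ((S : Subgroup G) : Set G)) | ∀ n ∈ K, (ψ : (Subgroup.centralizer ((S : Subgroup G) : Set G)) → ℂ) n = (ψ : (Subgroup.centralizer ((S : Subgroup G) : Set G)) → ℂ) 1} := by
  classical
  haveI := Fintype.ofFinite (Subgroup.centralizer ((S : Subgroup G) : Set G))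
  ext ψ
  refine ⟨fun h n hn => Chars82.PrincipalBlock.apply_eq_of_mem_principalBlock hM K hKp h ⟨n, hn⟩,
    fun h => ?_⟩
  obtain ⟨n, ρ, hρ, hρψ⟩ := exists_rep ψ
  haveI := hρ
  have hK1 : ∀ k ∈ K, ρ k = 1 := fun k hk => by
    refine (Characters.Diag.char_eq_finrank_iff ρ k).1 ?_
    rw [hρψ, h k hk, ← hρψ, Representation.char_one]
  have hcomm : ∀ a b, ρ a * ρ b = ρ b * ρ a := by
    intro a b
    obtain ⟨z, k, hz, hk, rfl⟩ := hdec a
    rw [map_mul, hK1 k hk, mul_one, ← map_mul, ← map_mul]
    congr 1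
    exact Subtype.ext (Subgroup.mem_centralizer_iff.1 b.2 z hz)
  have h1 : (ψ : (Subgroup.centralizer ((S : Subgroup G) : Set G)) → ℂ) 1 = 1 := by
    rw [← hρψ, Representation.char_one, Clifford.Monomial.finrank_eq_one_of_commute ρ hcomm,
      Nat.cast_one]
  intro g
  obtain ⟨z, k, hz, hk, rfl⟩ := hdec g
  let μ := Characters.Linear.degOneHom (isCharacter_irr ψ) h1
  have hμk : μ k = 1 := Units.ext (by rw [Characters.Linear.degOneHom_apply, h k hk, h1]; rfl)
  obtain ⟨i, hi⟩ := S.isPGroup' ⟨z, hz⟩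
  have hzi : z ^ p ^ i = 1 := Subtype.ext (by
    rw [Subgroup.coe_pow]; exact congrArg Subtype.val hi)
  have hv : (ψ : (Subgroup.centralizer ((S : Subgroup G) : Set G)) → ℂ) (z * k) = (μ z : ℂ) := by
    rw [← Characters.Linear.degOneHom_apply (isCharacter_irr ψ) h1, map_mul, hμk, mul_one]
  simp only [Cfsg.centralChar, hv, h1, div_one, mul_one]
  rw [← mul_one_sub]
  refine memLocalIdeal_mul_left (natCast_mem _ _) ?_
  have hint : (μ z : ℂ) ∈ localRing M := by
    rw [← hv]; exact mem_localRing_of_isIntegral (isIntegral_apply (isCharacter_irr _) _)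
  have hr : residue M (⟨(μ z : ℂ), hint⟩ : localRing M) = 1 := by
    refine residue_eq_one_of_pow_eq_one hM (k := i) (Subtype.ext ?_)
    show (μ z : ℂ) ^ p ^ i = 1
    rw [← Units.val_pow_eq_pow_val, ← map_pow, hzi, map_one, Units.val_one]
  exact (memLocalIdeal_sub_iff (x := 1) (y := ⟨(μ z : ℂ), hint⟩)).mpr (by rw [hr, map_one])

open scoped Classical in
/-- The reduced idempotent of the principal block on `C(S)`. -/
theorem residue_coeff [CharP (Cfsg.AlgInt ⧸ M) p] (c : (Subgroup.centralizer ((S : Subgroup G) : Set G))) :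
    residue M (⟨Cfsg.blockCoeff (Cfsg.principalBlock M G) (c : G),
      memLocalRing_blockCoeff isPBlock_principalBlock _⟩ : localRing M) =
    if c ∈ K then residue M (⟨(Nat.card K : ℂ)⁻¹, natCast_inv_mem_localRing hM hKp⟩ : localRing M)
    else 0 := by
  haveI := Fintype.ofFinite G
  haveI : CharP (BrauerPairs.Bridge.Res M) p := ‹CharP (Cfsg.AlgInt ⧸ M) p›
  set B := BrauerPairs.Bridge.isPBlock_principalBlock (M := M) (G := G)
  set Bc := BrauerPairs.Bridge.isPBlock_principalBlock (M := M) (G := (Subgroup.centralizer ((S : Subgroup G) : Set G)))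
  have hfixS : BrauerMap.Basic.IsFixedBy (S : Subgroup G)
      (BrauerPairs.Center.bidem (BrauerPairs.Bridge.blk B)) :=
    BrauerMap.Basic.isFixedBy_of_mem_center _ (BrauerPairs.Center.bidem_mem _)
  have hfixC : BrauerMap.Basic.IsFixedBy (Subgroup.centralizer ((S : Subgroup G) : Set G))
      (BrauerPairs.Center.bidem (BrauerPairs.Bridge.blk B)) :=
    BrauerMap.Basic.isFixedBy_of_mem_center _ (BrauerPairs.Center.bidem_mem _)
  have hkey : BrauerPairs.Trunc.br (S : Subgroup G)
      (BrauerPairs.Center.bidem (BrauerPairs.Bridge.blk B)) =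
      BrauerPairs.Center.bidem (BrauerPairs.Bridge.blk Bc) := by
    have hidem : IsIdempotentElem (⟨_, BrauerPairs.Trunc.br_mem_center hfixC⟩ :
        Subalgebra.center _ (MonoidAlgebra (BrauerPairs.Bridge.Res M) (Subgroup.centralizer ((S : Subgroup G) : Set G)))) :=
      Subtype.ext (BrauerPairs.Trunc.br_isIdem S.isPGroup'
        (BrauerPairs.Center.bidem_isIdem _) hfixS)
    refine congrArg Subtype.val (BrauerPairs.Center.idem_ext (k := BrauerPairs.Bridge.Res M) hidem
      (BrauerPairs.Center.idem_isIdem (BrauerPairs.Bridge.blk Bc)) fun φ => ?_)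
    rw [BrauerPairs.Center.apply_idem, ← BrauerPairs.Trunc.val_eq φ hfixC,
      BrauerPairs.Bridge.blk_principalBlock, BrauerPairs.Bridge.blk_principalBlock]
    split_ifs with h
    · subst h
      exact (BrauerPairs.Principal.pairOf_princ S.isPGroup').2
    · rcases BrauerPairs.Trunc.val_zero_or_one S.isPGroup' φ
        (BrauerPairs.Center.bidem_isIdem (BrauerPairs.Principal.princ (BrauerPairs.Bridge.Res M) G))
        (BrauerMap.Basic.isFixedBy_of_mem_center _ (BrauerPairs.Center.bidem_mem _))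
        (BrauerMap.Basic.isFixedBy_of_mem_center _ (BrauerPairs.Center.bidem_mem _)) with h0 | h0
      · exact h0
      · exact absurd ((BrauerPairs.Principal.pairOf_princ_iff S.isPGroup' φ).1 ⟨S.isPGroup', h0⟩) h
  have h1 := congrArg (fun w : MonoidAlgebra (BrauerPairs.Bridge.Res M) (Subgroup.centralizer ((S : Subgroup G) : Set G)) => w.coeff c) hkey
  simp only [BrauerPairs.Trunc.coeff_br, BrauerPairs.Bridge.coeff_bidem] at h1
  refine h1.trans ?_
  have h2 : Cfsg.blockCoeff (Cfsg.principalBlock M (Subgroup.centralizer ((S : Subgroup G) : Set G))) c =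
      if c ∈ K then (Nat.card K : ℂ)⁻¹ else 0 := by
    rw [principalBlock_centralizer hM S K hKp hdec, BrauerMap.Inflation.blockCoeff_trivialOn K c]
  split_ifs with h
  · rw [if_pos h] at h2
    exact congrArg (residue M) (Subtype.ext h2)
  · rw [if_neg h] at h2
    exact (congrArg (residue M) (Subtype.ext h2)).trans (map_zero _)

omit hKp hdec hKn K S
variable (N : Subgroup G) [hN : N.Normal]

/-- The sum of the principal idempotent over a normal subgroup is a unit. -/
theorem not_memLocalIdeal_sum [Fintype N] :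
    ¬ Cfsg.MemLocalIdeal M (∑ n : N, Cfsg.blockCoeff (Cfsg.principalBlock M G) (n : G)) := by
  classical
  haveI := charP_residue hM
  haveI := Fintype.ofFinite G
  obtain ⟨S⟩ : Nonempty (Sylow p G) := inferInstance
  obtain ⟨K, hK, hKp, -, hdec⟩ := exists_complement (p := p) S
  let f : G → Cfsg.AlgInt ⧸ M := fun g => if g ∈ N then
    residue M (⟨Cfsg.blockCoeff (Cfsg.principalBlock M G) g,
      memLocalRing_blockCoeff isPBlock_principalBlock _⟩ : localRing M) else 0
  intro hmem
  have hsum : ∑ g, f g = 0 := by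
    simp only [f]
    rw [← Finset.sum_filter, Finset.sum_subtype (p := fun g => g ∈ N) _ (fun g => by simp),
      ← map_sum, residue_eq_zero_iff]
    push_cast
    exact hmem
  letI : MulAction (S : Subgroup G) G := MulAction.compHom G (MulAut.conj.comp (S : Subgroup G).subtype)
  have hsm : ∀ (u : (S : Subgroup G)) (x : G), u • x = u * x * (u : G)⁻¹ := fun _ _ => rfl
  rw [BrauerMap.Basic.sum_eq_sum_fixed S.isPGroup' f (fun u x => by
    simp only [f, hsm]
    have hiff : (u : G) * x * (u : G)⁻¹ ∈ N ↔ x ∈ N :=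
      ⟨fun h => by simpa [mul_assoc] using hN.conj_mem _ h (u : G)⁻¹, fun h => hN.conj_mem x h _⟩
    exact if_congr hiff (congrArg (residue M) (Subtype.ext (blockCoeff_conj_apply _ _ _))) rfl)] at hsum
  let s : Finset K := Finset.univ.filter fun k => ((k : (Subgroup.centralizer ((S : Subgroup G) : Set G))) : G) ∈ N
  have hval : ∀ c : (Subgroup.centralizer ((S : Subgroup G) : Set G)), f (c : G) =
      if c ∈ K ∧ (c : G) ∈ N then
        residue M (⟨(Nat.card K : ℂ)⁻¹, natCast_inv_mem_localRing hM hKp⟩ : localRing M)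
      else 0 := fun c => by
    by_cases hcN : (c : G) ∈ N
    · simp only [f, if_pos hcN, hcN, and_true]
      exact residue_coeff hM S K hKp hdec c
    · simp [f, hcN]
  have hfix : ∀ x : G, x ∈ MulAction.fixedPoints (S : Subgroup G) G ↔ x ∈ (Subgroup.centralizer ((S : Subgroup G) : Set G)) := by
    intro x
    rw [Subgroup.mem_centralizer_iff]
    constructor
    · intro hx u hu
      have := hx ⟨u, hu⟩
      rw [hsm, mul_inv_eq_iff_eq_mul] at this
      exact this
    · intro hx u
      rw [hsm, hx u u.2, mul_inv_cancel_right]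
  rw [Finset.sum_subtype (p := fun g => g ∈ (Subgroup.centralizer ((S : Subgroup G) : Set G))) _ (fun g => by simp [hfix]),
    Finset.sum_congr rfl fun c _ => hval c, ← Finset.sum_filter, Finset.sum_const, nsmul_eq_mul,
    mul_eq_zero] at hsum
  rcases hsum with h | h
  · rw [CharP.cast_eq_zero_iff (Cfsg.AlgInt ⧸ M) p] at h
    apply hKp
    let L : Subgroup (Subgroup.centralizer ((S : Subgroup G) : Set G)) := K ⊓ N.subgroupOf (Subgroup.centralizer ((S : Subgroup G) : Set G))
    have hL : (Finset.univ.filter fun c : (Subgroup.centralizer ((S : Subgroup G) : Set G)) => c ∈ K ∧ (c : G) ∈ N).card = Nat.card L := by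
      rw [← Fintype.card_subtype, ← Nat.card_eq_fintype_card]
      exact Nat.card_congr (Equiv.subtypeEquivRight fun c => by
        simp [L, Subgroup.mem_subgroupOf])
    rw [hL] at h
    exact h.trans (Subgroup.card_dvd_of_le inf_le_left)
  · rw [residue_eq_zero_iff] at h
    refine not_memLocalIdeal_one (M := M) ?_
    have h2 := memLocalIdeal_mul_left (natCast_mem (localRing M) (Nat.card K)) h
    rwa [mul_inv_cancel₀ (Nat.cast_ne_zero.2 Nat.card_pos.ne')] at h2

omit hp hN in
/-- The weighted degree sum over a character of a subgroup. -/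
theorem weighted_eq [Fintype G] (H : Subgroup G) [Fintype H] (B : Set (Cfsg.IrrCharacter G))
    (η : Cfsg.IrrCharacter H) :
    ∑ χ ∈ bset B, Cfsg.classInner (fun x : H => (χ : G → ℂ) x) η * (χ : G → ℂ) 1 =
      (H.index : ℂ) * ∑ x : H, Cfsg.blockCoeff B (x : G) * (η : H → ℂ) x := by
  have hidx : (H.index : ℂ) * (Nat.card G : ℂ)⁻¹ = (Nat.card H : ℂ)⁻¹ := by
    rw [← Subgroup.index_mul_card H, Nat.cast_mul, mul_inv, ← mul_assoc,
      mul_inv_cancel₀ (Nat.cast_ne_zero.mpr Subgroup.index_ne_zero_of_finite), one_mul]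
  have hreal : ∀ χ : Cfsg.IrrCharacter G, Cfsg.classInner (fun x : H => (χ : G → ℂ) x) η =
      Cfsg.classInner (η : H → ℂ) (fun x : H => (χ : G → ℂ) x) := fun χ => by
    obtain ⟨m, hm⟩ := exists_classInner_nat (G := H) (isCharacter_comp H.subtype (isCharacter_irr χ))
      (isCharacter_irr η)
    change Cfsg.classInner ((χ : G → ℂ) ∘ H.subtype) η = Cfsg.classInner (η : H → ℂ) ((χ : G → ℂ) ∘ H.subtype)
    rw [hm, ← classInner_conj_symm, hm, map_natCast]
  rw [Finset.sum_congr rfl fun χ _ => by rw [hreal χ]]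
  simp only [Cfsg.blockCoeff, finsum_mem_bset, Cfsg.classInner, Finset.mul_sum, Finset.sum_mul]
  rw [Finset.sum_comm]
  refine Finset.sum_congr rfl fun x _ => Finset.sum_congr rfl fun χ _ => ?_
  rw [← hidx]
  ring

/-- On a member of the principal block of a normal subgroup the idempotent has unit weight. -/
theorem not_memLocalIdeal_sum_mul [Fintype N] {θ : Cfsg.IrrCharacter N}
    (hθ : θ ∈ Cfsg.principalBlock M N) :
    ¬ Cfsg.MemLocalIdeal M
      ((∑ n : N, Cfsg.blockCoeff (Cfsg.principalBlock M G) (n : G) * (θ : N → ℂ) n) /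
        (θ : N → ℂ) 1) := by
  classical
  let z : Subalgebra.center (localRing M) (MonoidAlgebra (localRing M) N) :=
    ofClassFun (fun n : N => (⟨Cfsg.blockCoeff (Cfsg.principalBlock M G) (n : G),
      memLocalRing_blockCoeff isPBlock_principalBlock _⟩ : localRing M))
      (fun u n => Subtype.ext (blockCoeff_conj_apply _ (u : G) (n : G)))
  have hval : ∀ φ : Cfsg.IrrCharacter N, (omegaR M φ z : ℂ) =
      (∑ n : N, Cfsg.blockCoeff (Cfsg.principalBlock M G) (n : G) * (φ : N → ℂ) n) /
        (φ : N → ℂ) 1 := fun φ => by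
    rw [coe_omegaR, omega_apply, lin_apply]
    simp only [coeff_mapCenter]
    rfl
  have heq : residue M (omegaR M θ z) = residue M (omegaR M (oneChar N) z) := by
    rw [← omegaBar_mapCenter, ← omegaBar_mapCenter,
      omegaBar_eq_of_mem isPBlock_principalBlock hθ oneChar_mem_principalBlock]
  intro h
  rw [← hval, ← residue_eq_zero_iff, heq, residue_eq_zero_iff, hval] at h
  simp only [oneChar_apply, mul_one, div_one] at h
  exact not_memLocalIdeal_sum hM N h

/-- Every member of the principal block of a normal subgroup lies under one of the group. -/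
theorem exists_over [Fintype G] [Fintype N] {θ : Cfsg.IrrCharacter N}
    (hθ : θ ∈ Cfsg.principalBlock M N) :
    ∃ χ ∈ Cfsg.principalBlock M G, Cfsg.classInner (fun x : N => (χ : G → ℂ) x) θ ≠ 0 := by
  by_contra hcon
  push Not at hcon
  apply not_memLocalIdeal_sum_mul hM N hθ
  have h := weighted_eq hM N (Cfsg.principalBlock M G) θ
  rw [Finset.sum_eq_zero fun χ hχ => by rw [hcon χ (mem_bset.1 hχ), zero_mul], zero_eq_mul,
    Nat.cast_eq_zero] at h
  rw [h.resolve_left Subgroup.index_ne_zero_of_finite, zero_div]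
  exact memLocalIdeal_zero

end Cfsg.Agent.Lib.BC78.Local
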