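import Cfsg.Agent.Lib.Characters.Transitive
import Cfsg.Agent.Lib.BC78.PowChar
import Mathlib.GroupTheory.GroupAction.SubMulAction.Combination

/-!
# The first characters of highly transitive groups

For a group acting 4-transitively on at least 4 points the class functions `chi1`, `chi2`, `chi11`
(the characters of the partitions `(n-1,1)`, `(n-2,2)`, `(n-2,1,1)`) are irreducible characters.
-/

set_option autoImplicit false

namespace Cfsg.Agent.Lib.BC78.LowPermChars

open MulAction
open scoped ComplexConjugate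
open Cfsg.Agent.Lib.Characters.Transitive Cfsg.Agent.Lib.Characters.Basic
open Cfsg.Agent.Lib.Induced.Basic

universe u v

variable {G : Type u} [Group G] {α : Type v} [MulAction G α]

variable (α) in
/-- The number of fixed points. -/
noncomputable def fixN (g : G) : ℕ := Nat.card (fixedBy α g)

variable (α) in
/-- The ordered pairs exchanged by `g`. -/
def Swapped (g : G) : Set (Fin 2 ↪ α) := {e | g • e 0 = e 1 ∧ g • e 1 = e 0}

variable (α) in
/-- Twice the number of two-cycles. -/
noncomputable def swapN (g : G) : ℕ := Nat.card (Swapped α g)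

variable (α) in
/-- The embeddings on which `g` induces `σ`. -/
noncomputable def pattern (k : ℕ) (σ : Equiv.Perm (Fin k)) (g : G) : ℕ :=
  Nat.card {e : Fin k ↪ α // g • e = σ.toEmbedding.trans e}

theorem pattern_iff {k : ℕ} {σ : Equiv.Perm (Fin k)} {g : G} {e : Fin k ↪ α} :
    g • e = σ.toEmbedding.trans e ↔ ∀ i, g • e i = e (σ i) :=
  ⟨fun h i => by simpa using congrFun (congrArg DFunLike.coe h) i,
    fun h => Function.Embedding.ext fun i => by simpa using h i⟩

variable [Finite α]

theorem sum_pattern [Fintype G] {k : ℕ} (σ : Equiv.Perm (Fin k))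
    (hk : IsMultiplyPretransitive G α k) (hle : k ≤ Nat.card α) :
    ∑ g : G, (pattern α k σ g : ℂ) = (Nat.card G : ℂ) := by
  classical
  haveI := Fintype.ofFinite α
  haveI : IsPretransitive G (Fin k ↪ α) := hk
  obtain ⟨e0⟩ : Nonempty (Fin k ↪ α) := Function.Embedding.nonempty_of_card_le (by
    rw [Fintype.card_fin, ← Nat.card_eq_fintype_card]; exact hle)
  have hN : 0 < Nat.card (Fin k ↪ α) := Nat.card_pos_iff.2 ⟨⟨e0⟩, inferInstance⟩
  have he : ∀ e : Fin k ↪ α, Nat.card (Fin k ↪ α) *
      Nat.card {g : G // g • e = σ.toEmbedding.trans e} = Nat.card G := by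
    intro e
    obtain ⟨a, ha⟩ := exists_smul_eq G e (σ.toEmbedding.trans e)
    rw [show Nat.card {g : G // g • e = σ.toEmbedding.trans e} = Nat.card (stabilizer G e) from
      Nat.card_congr ((Equiv.mulLeft a⁻¹).subtypeEquiv fun g => by
        rw [mem_stabilizer_iff, Equiv.coe_mulLeft, mul_smul, inv_smul_eq_iff, ha]),
      ← index_stabilizer_of_transitive G e, Subgroup.index_mul_card]
  have h1 : Nat.card (Fin k ↪ α) * ∑ g : G, pattern α k σ g =
      Nat.card (Fin k ↪ α) * Nat.card G := by
    simp only [pattern]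
    rw [← Nat.card_sigma, Nat.card_congr
      (show (Σ g : G, {e : Fin k ↪ α // g • e = σ.toEmbedding.trans e}) ≃
          Σ e : Fin k ↪ α, {g : G // g • e = σ.toEmbedding.trans e} from
        { toFun := fun z => ⟨z.2.1, z.1, z.2.2⟩
          invFun := fun z => ⟨z.2.1, z.1, z.2.2⟩
          left_inv := fun _ => rfl
          right_inv := fun _ => rfl }), Nat.card_sigma, Finset.mul_sum,
      Finset.sum_congr rfl fun e _ => he e, Finset.sum_const, Finset.card_univ, smul_eq_mul,
      ← Nat.card_eq_fintype_card]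
  exact_mod_cast Nat.eq_of_mul_eq_mul_left hN h1

theorem pattern_one (k : ℕ) (g : G) : pattern α k 1 g = (fixN α g).descFactorial k := by
  classical
  haveI := Fintype.ofFinite α
  rw [pattern, fixN, Nat.card_congr
    (show {e : Fin k ↪ α // g • e = (1 : Equiv.Perm (Fin k)).toEmbedding.trans e} ≃
        (Fin k ↪ fixedBy α g) from
      { toFun := fun e => ⟨fun i => ⟨e.1 i, by simpa using pattern_iff.1 e.2 i⟩,
          fun i j h => e.1.injective (congrArg Subtype.val h)⟩
        invFun := fun e => ⟨⟨fun i => (e i : α), Subtype.val_injective.comp e.injective⟩,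
          pattern_iff.2 fun i => (e i).2⟩
        left_inv := fun _ => rfl
        right_inv := fun _ => rfl }),
    Nat.card_eq_fintype_card, Fintype.card_embedding_eq, Fintype.card_fin,
    Nat.card_eq_fintype_card]

theorem pattern_swap_two (g : G) : pattern α 2 (Equiv.swap 0 1) g = swapN α g := by
  refine Nat.card_congr (Equiv.subtypeEquivRight fun e => ?_)
  rw [pattern_iff, Fin.forall_fin_two]
  simp [Swapped, Equiv.swap_apply_left, Equiv.swap_apply_right]

omit [Finite α] in
theorem swapped_ne_fixed {g : G} {e : Fin 2 ↪ α} (he : e ∈ Swapped α g) {a : α}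
    (ha : g • a = a) (i : Fin 2) : e i ≠ a := by
  intro h
  fin_cases i <;> simp only [Fin.zero_eta, Fin.mk_one, Fin.isValue] at h
  · rw [← h] at ha; exact absurd (e.injective (ha.symm.trans he.1)) (by decide)
  · rw [← h] at ha; exact absurd (e.injective (ha.symm.trans he.2)) (by decide)

omit [MulAction G α] [Finite α] in
theorem inj3 {a b c : α} (h1 : a ≠ b) (h2 : a ≠ c) (h3 : b ≠ c) :
    Function.Injective ![a, b, c] := by
  intro i j h
  fin_cases i <;> fin_cases j <;>
    first
      | rfl
      | exact absurd h ‹_›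
      | exact absurd h.symm ‹_›

omit [MulAction G α] [Finite α] in
theorem inj4 {a b c d : α} (h1 : a ≠ b) (h2 : a ≠ c) (h3 : a ≠ d) (h4 : b ≠ c) (h5 : b ≠ d)
    (h6 : c ≠ d) : Function.Injective ![a, b, c, d] := by
  intro i j h
  fin_cases i <;> fin_cases j <;>
    first
      | rfl
      | exact absurd h ‹_›
      | exact absurd h.symm ‹_›

theorem pattern_swap_three (g : G) :
    pattern α 3 (Equiv.swap 0 1) g = swapN α g * fixN α g := by
  rw [swapN, fixN, ← Nat.card_prod]
  refine Nat.card_congr
    { toFun := fun e => (⟨⟨fun i => e.1 (Fin.castLE (by omega) i), fun i j h =>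
          Fin.castLE_injective _ (e.1.injective h)⟩, ?_⟩, ⟨e.1 2, ?_⟩)
      invFun := fun z => ⟨⟨![z.1.1 0, z.1.1 1, z.2.1], ?_⟩, ?_⟩
      left_inv := fun e => ?_
      right_inv := fun z => ?_ }
  · have h := pattern_iff.1 e.2
    exact ⟨h 0, h 1⟩
  · have h := pattern_iff.1 e.2 2
    rw [Equiv.swap_apply_of_ne_of_ne (by decide) (by decide)] at h
    exact h
  · have h0 := swapped_ne_fixed z.1.2 z.2.2 0
    have h1 := swapped_ne_fixed z.1.2 z.2.2 1
    have h01 : z.1.1 0 ≠ z.1.1 1 := fun h => absurd (z.1.1.injective h) (by decide)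
    exact inj3 h01 h0 h1
  · refine pattern_iff.2 fun i => ?_
    fin_cases i
    · exact z.1.2.1
    · exact z.1.2.2
    · exact z.2.2
  · refine Subtype.ext (Function.Embedding.ext fun i => ?_)
    fin_cases i <;> rfl
  · refine Prod.ext (Subtype.ext (Function.Embedding.ext fun i => ?_)) rfl
    fin_cases i <;> rfl

theorem pattern_swap_four (g : G) :
    pattern α 4 (Equiv.swap 0 1) g = swapN α g * (fixN α g).descFactorial 2 := by
  rw [swapN, ← pattern_one 2 g, pattern, pattern, ← Nat.card_prod]
  refine Nat.card_congr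
    { toFun := fun e => (⟨⟨fun i => e.1 (Fin.castLE (by omega) i), fun i j h =>
          Fin.castLE_injective _ (e.1.injective h)⟩, ?_⟩,
        ⟨⟨fun i => e.1 (Fin.natAdd 2 i), fun i j h =>
          Fin.natAdd_injective _ _ (e.1.injective h)⟩, ?_⟩)
      invFun := fun z => ⟨⟨![z.1.1 0, z.1.1 1, z.2.1 0, z.2.1 1], ?_⟩, ?_⟩
      left_inv := fun e => ?_
      right_inv := fun z => ?_ }
  · have h := pattern_iff.1 e.2
    exact ⟨h 0, h 1⟩
  · refine pattern_iff.2 fun i => ?_
    have h := pattern_iff.1 e.2 (Fin.natAdd 2 i)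
    rw [Equiv.swap_apply_of_ne_of_ne (Fin.ne_of_val_ne (by simp))
      (Fin.ne_of_val_ne (by simp))] at h
    exact h
  · have hf : ∀ i, g • z.2.1 i = z.2.1 i := fun i => by simpa using pattern_iff.1 z.2.2 i
    have h00 := swapped_ne_fixed z.1.2 (hf 0) 0
    have h10 := swapped_ne_fixed z.1.2 (hf 0) 1
    have h01' := swapped_ne_fixed z.1.2 (hf 1) 0
    have h11 := swapped_ne_fixed z.1.2 (hf 1) 1
    have h01 : z.1.1 0 ≠ z.1.1 1 := fun h => absurd (z.1.1.injective h) (by decide)
    have h23 : z.2.1 0 ≠ z.2.1 1 := fun h => absurd (z.2.1.injective h) (by decide)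
    exact inj4 h01 h00 h01' h10 h11 h23
  · have hf : ∀ i, g • z.2.1 i = z.2.1 i := fun i => by simpa using pattern_iff.1 z.2.2 i
    refine pattern_iff.2 fun i => ?_
    fin_cases i
    · exact z.1.2.1
    · exact z.1.2.2
    · exact hf 0
    · exact hf 1
  · refine Subtype.ext (Function.Embedding.ext fun i => ?_)
    fin_cases i <;> rfl
  · refine Prod.ext (Subtype.ext (Function.Embedding.ext fun i => ?_))
      (Subtype.ext (Function.Embedding.ext fun i => ?_)) <;> fin_cases i <;> rfl

omit [Finite α] in
theorem swapped_share {g : G} {p q : Fin 2 ↪ α} (hp : p ∈ Swapped α g) (hq : q ∈ Swapped α g)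
    {i j : Fin 2} (h : q j = p i) :
    q = p ∨ q = (Equiv.swap 0 1).toEmbedding.trans p := by
  have hnext : ∀ {e : Fin 2 ↪ α}, e ∈ Swapped α g → ∀ l, g • e l = e (Equiv.swap 0 1 l) := by
    intro e he l
    fin_cases l
    · simpa using he.1
    · simpa using he.2
  have h' : q (Equiv.swap 0 1 j) = p (Equiv.swap 0 1 i) := by rw [← hnext hq, ← hnext hp, h]
  fin_cases i <;> fin_cases j <;>
    simp only [Fin.zero_eta, Fin.mk_one, Fin.isValue, Equiv.swap_apply_left,
      Equiv.swap_apply_right] at h h'
  · exact Or.inl (Function.Embedding.ext fun l => by fin_cases l <;> assumption)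
  · exact Or.inr (Function.Embedding.ext fun l => by fin_cases l <;> simpa)
  · exact Or.inr (Function.Embedding.ext fun l => by fin_cases l <;> simpa)
  · exact Or.inl (Function.Embedding.ext fun l => by fin_cases l <;> assumption)

theorem pattern_double (g : G) :
    pattern α 4 (Equiv.swap 0 1 * Equiv.swap 2 3) g + 2 * swapN α g =
      swapN α g * swapN α g := by
  classical
  haveI := Fintype.ofFinite α
  let τ : Fin 2 ↪ Fin 2 := (Equiv.swap 0 1).toEmbedding
  have hτ : ∀ e : Fin 2 ↪ α, e ∈ Swapped α g → τ.trans e ∈ Swapped α g := fun e he =>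
    ⟨by simpa [τ, Function.Embedding.trans_apply] using he.2,
      by simpa [τ, Function.Embedding.trans_apply] using he.1⟩
  have hτne : ∀ e : Fin 2 ↪ α, τ.trans e ≠ e := fun e h =>
    absurd (e.injective (congrFun (congrArg DFunLike.coe h) 0)) (by simp [τ])
  have hcount : ∀ p : Swapped α g,
      Nat.card {q : Swapped α g // q.1 ≠ p.1 ∧ q.1 ≠ τ.trans p.1} + 2 = swapN α g := by
    intro p
    rw [swapN, Nat.card_eq_fintype_card, Nat.card_eq_fintype_card, Fintype.card_subtype,
      show Finset.univ.filter (fun q : Swapped α g => q.1 ≠ p.1 ∧ q.1 ≠ τ.trans p.1) =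
        ({p, ⟨τ.trans p.1, hτ _ p.2⟩} : Finset (Swapped α g))ᶜ by
          ext q; simp [Subtype.ext_iff],
      Finset.card_compl, Finset.card_pair fun h => hτne p.1 (congrArg Subtype.val h).symm]
    have h2 := Finset.card_le_univ ({p, ⟨τ.trans p.1, hτ _ p.2⟩} : Finset (Swapped α g))
    rw [Finset.card_pair fun h => hτne p.1 (congrArg Subtype.val h).symm] at h2
    omega
  have hext : ∀ z w : (Σ p : Swapped α g,
      {q : Swapped α g // q.1 ≠ p.1 ∧ q.1 ≠ τ.trans p.1}),
      z.1.1 = w.1.1 → z.2.1.1 = w.2.1.1 → z = w := by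
    rintro ⟨⟨p, _⟩, ⟨⟨q, _⟩, _⟩⟩ ⟨⟨p', _⟩, ⟨⟨q', _⟩, _⟩⟩ rfl rfl
    rfl
  have hA : pattern α 4 (Equiv.swap 0 1 * Equiv.swap 2 3) g =
      ∑ p : Swapped α g, Nat.card {q : Swapped α g // q.1 ≠ p.1 ∧ q.1 ≠ τ.trans p.1} := by
    rw [← Nat.card_sigma, pattern]
    refine Nat.card_congr
      { toFun := fun e => ⟨⟨⟨fun i => e.1 (Fin.castLE (by omega) i), fun i j h =>
            Fin.castLE_injective _ (e.1.injective h)⟩, ?_⟩,
          ⟨⟨⟨fun i => e.1 (Fin.natAdd 2 i), fun i j h =>
            Fin.natAdd_injective _ _ (e.1.injective h)⟩, ?_⟩, ?_, ?_⟩⟩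
        invFun := fun z => ⟨⟨![z.1.1 0, z.1.1 1, z.2.1.1 0, z.2.1.1 1], ?_⟩, ?_⟩
        left_inv := fun e => ?_
        right_inv := fun z => ?_ }
    · have h := pattern_iff.1 e.2
      exact ⟨h 0, h 1⟩
    · have h := pattern_iff.1 e.2
      exact ⟨h 2, h 3⟩
    · intro h
      have := e.1.injective (congrFun (congrArg DFunLike.coe h) 0)
      simp [Fin.ext_iff] at this
    · intro h
      have := e.1.injective (congrFun (congrArg DFunLike.coe h) 0)
      simp [τ, Fin.ext_iff] at this
    · obtain ⟨⟨p, hp⟩, ⟨⟨q, hq⟩, hne, hne'⟩⟩ := z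
      have hno : ∀ i j, q j ≠ p i := fun i j h => by
        rcases swapped_share hp hq h with h | h
        · exact hne h
        · exact hne' h
      have h01 : p 0 ≠ p 1 := fun h => absurd (p.injective h) (by decide)
      have h23 : q 0 ≠ q 1 := fun h => absurd (q.injective h) (by decide)
      exact inj4 h01 (hno 0 0).symm (hno 0 1).symm (hno 1 0).symm (hno 1 1).symm h23
    · refine pattern_iff.2 fun i => ?_
      fin_cases i
      · exact z.1.2.1
      · exact z.1.2.2
      · exact z.2.1.2.1
      · exact z.2.1.2.2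
    · refine Subtype.ext (Function.Embedding.ext fun i => ?_)
      fin_cases i <;> rfl
    · exact hext _ _ (Function.Embedding.ext fun i => by fin_cases i <;> rfl)
        (Function.Embedding.ext fun i => by fin_cases i <;> rfl)
  have hsum := Finset.sum_congr rfl fun p (_ : p ∈ (Finset.univ : Finset (Swapped α g))) => hcount p
  rw [Finset.sum_add_distrib, ← hA, Finset.sum_const, Finset.sum_const, Finset.card_univ,
    smul_eq_mul, smul_eq_mul, ← Nat.card_eq_fintype_card, ← swapN, mul_comm _ 2] at hsum
  exact hsum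

/-! ### The moments -/

variable (α) in
/-- The fixed point character. -/
noncomputable def fC (g : G) : ℂ := (fixN α g : ℂ)

variable (α) in
/-- Twice the number of two-cycles, as a function into `ℂ`. -/
noncomputable def sC (g : G) : ℂ := (swapN α g : ℂ)

theorem cast_descFactorial_two (n : ℕ) : ((n.descFactorial 2 : ℕ) : ℂ) = n * (n - 1) := by
  rcases n with _ | m
  · simp
  · simp [Nat.descFactorial]; ring

theorem cast_descFactorial_three (n : ℕ) :
    ((n.descFactorial 3 : ℕ) : ℂ) = n * (n - 1) * (n - 2) := by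
  rcases n with _ | _ | m
  · simp
  · simp
  · simp [Nat.descFactorial]; ring

theorem cast_descFactorial_four (n : ℕ) :
    ((n.descFactorial 4 : ℕ) : ℂ) = n * (n - 1) * (n - 2) * (n - 3) := by
  rcases n with _ | _ | _ | m
  · simp
  · simp
  · simp
  · simp [Nat.descFactorial]; ring

section Moments

variable [Fintype G] (h4 : IsMultiplyPretransitive G α 4) (hn : 4 ≤ Nat.card α)

include h4 hn

theorem sum_pattern' {k : ℕ} (σ : Equiv.Perm (Fin k)) (hk : k ≤ 4) :
    ∑ g : G, (pattern α k σ g : ℂ) = (Nat.card G : ℂ) :=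
  sum_pattern σ (isMultiplyPretransitive_of_le' hk (by
    rw [ENat.card_eq_coe_natCard]; exact_mod_cast hn)) (hk.trans hn)

theorem moment_f : ∑ g : G, fC α g = (Nat.card G : ℂ) := by
  rw [← sum_pattern' h4 hn (1 : Equiv.Perm (Fin 1)) (by norm_num)]
  exact Finset.sum_congr rfl fun g _ => by simp [pattern_one, fC]

theorem moment_ff : ∑ g : G, fC α g * (fC α g - 1) = (Nat.card G : ℂ) := by
  rw [← sum_pattern' h4 hn (1 : Equiv.Perm (Fin 2)) (by norm_num)]
  exact Finset.sum_congr rfl fun g _ => by rw [pattern_one, cast_descFactorial_two, fC]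

theorem moment_fff : ∑ g : G, fC α g * (fC α g - 1) * (fC α g - 2) = (Nat.card G : ℂ) := by
  rw [← sum_pattern' h4 hn (1 : Equiv.Perm (Fin 3)) (by norm_num)]
  exact Finset.sum_congr rfl fun g _ => by rw [pattern_one, cast_descFactorial_three, fC]

theorem moment_ffff :
    ∑ g : G, fC α g * (fC α g - 1) * (fC α g - 2) * (fC α g - 3) = (Nat.card G : ℂ) := by
  rw [← sum_pattern' h4 hn (1 : Equiv.Perm (Fin 4)) le_rfl]
  exact Finset.sum_congr rfl fun g _ => by rw [pattern_one, cast_descFactorial_four, fC]

theorem moment_s : ∑ g : G, sC α g = (Nat.card G : ℂ) := by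
  rw [← sum_pattern' h4 hn (Equiv.swap (0 : Fin 2) 1) (by norm_num)]
  exact Finset.sum_congr rfl fun g _ => by rw [pattern_swap_two, sC]

theorem moment_sf : ∑ g : G, sC α g * fC α g = (Nat.card G : ℂ) := by
  rw [← sum_pattern' h4 hn (Equiv.swap (0 : Fin 3) 1) (by norm_num)]
  exact Finset.sum_congr rfl fun g _ => by rw [pattern_swap_three, Nat.cast_mul, sC, fC]

theorem moment_sff : ∑ g : G, sC α g * (fC α g * (fC α g - 1)) = (Nat.card G : ℂ) := by
  rw [← sum_pattern' h4 hn (Equiv.swap (0 : Fin 4) 1) le_rfl]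
  exact Finset.sum_congr rfl fun g _ => by
    rw [pattern_swap_four, Nat.cast_mul, cast_descFactorial_two, sC, fC]

theorem moment_ss : ∑ g : G, (sC α g * sC α g - 2 * sC α g) = (Nat.card G : ℂ) := by
  rw [← sum_pattern' h4 hn (Equiv.swap (0 : Fin 4) 1 * Equiv.swap 2 3) le_rfl]
  refine Finset.sum_congr rfl fun g _ => ?_
  rw [sC, sub_eq_iff_eq_add]
  exact_mod_cast (pattern_double (α := α) g).symm

end Moments

/-! ### The three characters -/

variable (α) in
/-- The character of `(n-1,1)`. -/
noncomputable def chi1 (g : G) : ℂ := fC α g - 1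

variable (α) in
/-- The character of `(n-2,2)`. -/
noncomputable def chi2 (g : G) : ℂ := (fC α g * (fC α g - 1) + sC α g) / 2 - fC α g

variable (α) in
/-- The character of `(n-2,1,1)`. -/
noncomputable def chi11 (g : G) : ℂ := (fC α g * (fC α g - 1) - sC α g) / 2 - fC α g + 1

theorem permChar_pairs (g : G) :
    permChar (Fin 2 ↪ α) g = fC α g * (fC α g - 1) := by
  rw [fC, ← cast_descFactorial_two, ← pattern_one, permChar, pattern]
  congr 1

theorem permChar_subsets [DecidableEq α] (g : G) :
    permChar (Set.powersetCard α 2) g = (fC α g * (fC α g - 1) + sC α g) / 2 := by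
  classical
  haveI := Fintype.ofFinite α
  let P := Set.powersetCard.mulActionHom_of_embedding G α (n := 2)
  have hP : ∀ e : Fin 2 ↪ α, ((P e : Set.powersetCard α 2) : Finset α) = {e 0, e 1} := by
    intro e
    show (Set.powersetCard.ofFinEmb 2 α e : Finset α) = _
    rw [Set.powersetCard.val_ofFinEmb]
    ext a
    simp [Fin.exists_fin_two, eq_comm]
  have hfib : ∀ X : fixedBy (Set.powersetCard α 2) g,
      Nat.card {e : Fin 2 ↪ α // P e = X.1} = 2 := by
    intro X
    rw [Nat.card_congr (show {e : Fin 2 ↪ α // P e = X.1} ≃ (Fin 2 ↪ (X.1 : Finset α)) from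
      { toFun := fun e => ⟨fun i => ⟨e.1 i, by
          have h := congrArg Subtype.val e.2
          rw [hP] at h
          rw [← h]; fin_cases i <;> simp⟩,
          fun i j h => e.1.injective (congrArg Subtype.val h)⟩
        invFun := fun e => ⟨⟨fun i => (e i : α), Subtype.val_injective.comp e.injective⟩, by
          refine Subtype.ext (Finset.eq_of_subset_of_card_le ?_ ?_)
          · rw [hP]; intro a ha
            rcases Finset.mem_insert.1 ha with rfl | ha
            · exact (e 0).2
            · rw [Finset.mem_singleton.1 ha]; exact (e 1).2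
          · rw [hP, Finset.card_pair, X.1.2]
            exact fun h => absurd (e.injective (Subtype.ext h)) (by decide)⟩
        left_inv := fun _ => rfl
        right_inv := fun _ => rfl }),
      Nat.card_eq_fintype_card, Fintype.card_embedding_eq, Fintype.card_fin, Fintype.card_coe,
      X.1.2]
    rfl
  have hT : Nat.card {e : Fin 2 ↪ α // g • P e = P e} =
      2 * Nat.card (fixedBy (Set.powersetCard α 2) g) := by
    rw [Nat.card_congr (show {e : Fin 2 ↪ α // g • P e = P e} ≃
        Σ X : fixedBy (Set.powersetCard α 2) g, {e : Fin 2 ↪ α // P e = X.1} from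
      { toFun := fun e => ⟨⟨P e.1, e.2⟩, e.1, rfl⟩
        invFun := fun z => ⟨z.2.1, by rw [z.2.2]; exact z.1.2⟩
        left_inv := fun _ => rfl
        right_inv := fun ⟨⟨X, hX⟩, e, he⟩ => by cases he; rfl }),
      Nat.card_sigma, Finset.sum_congr rfl fun X _ => hfib X, Finset.sum_const, Finset.card_univ,
      smul_eq_mul, Nat.card_eq_fintype_card, mul_comm]
  have hsplit : Nat.card {e : Fin 2 ↪ α // g • P e = P e} =
      pattern α 2 1 g + pattern α 2 (Equiv.swap 0 1) g := by
    rw [pattern, pattern, ← Nat.card_sum,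
      ← Nat.card_congr (subtypeOrEquiv _ _ (Pi.disjoint_iff.2 fun e => Prop.disjoint_iff.2 ?_))]
    · refine Nat.card_congr (Equiv.subtypeEquivRight fun e => ?_)
      have hne : e 0 ≠ e 1 := fun h => absurd (e.injective h) (by decide)
      rw [pattern_iff, pattern_iff, Fin.forall_fin_two, Fin.forall_fin_two, ← map_smul,
        Subtype.ext_iff, hP, hP]
      simp only [Function.Embedding.smul_apply, Equiv.Perm.coe_one, id_eq, Equiv.swap_apply_left,
        Equiv.swap_apply_right]
      constructor
      · intro h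
        have h0 : g • e 0 ∈ ({e 0, e 1} : Finset α) := h ▸ Finset.mem_insert_self _ _
        have h1 : g • e 1 ∈ ({e 0, e 1} : Finset α) :=
          h ▸ Finset.mem_insert_of_mem (Finset.mem_singleton_self _)
        simp only [Finset.mem_insert, Finset.mem_singleton] at h0 h1
        have hne' : g • e 0 ≠ g • e 1 := fun h => hne (smul_left_cancel g h)
        grind
      · rintro (⟨a, b⟩ | ⟨a, b⟩)
        · rw [a, b]
        · rw [a, b, Finset.pair_comm]
    · rintro ⟨a, b⟩
      have h0 := pattern_iff.1 a 0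
      have h1 := pattern_iff.1 b 0
      rw [h1] at h0
      exact absurd (e.injective h0) (by decide)
  rw [hT, pattern_one, pattern_swap_two] at hsplit
  rw [eq_div_iff (two_ne_zero), permChar, sC, fC, ← cast_descFactorial_two, mul_comm]
  exact_mod_cast hsplit

variable [Finite G]

theorem isGen_permChar (X : Type v) [MulAction G X] [Finite X] [IsPretransitive G X]
    [Nonempty X] : Cfsg.IsGeneralizedCharacter G (permChar X : G → ℂ) := by
  have h : (permChar X : G → ℂ) = (fun g => permChar X g - 1) + fun _ => 1 :=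
    funext fun g => (sub_add_cancel _ _).symm
  rw [h]
  exact Characters.Generalized.add
    (Characters.Generalized.of_isCharacter (isCharacter_permChar_sub_one X))
    (Characters.Generalized.of_isCharacter isCharacter_one)

variable [DecidableEq α] (h4 : IsMultiplyPretransitive G α 4) (hn : 4 ≤ Nat.card α)

include h4 hn

theorem isGen_f : Cfsg.IsGeneralizedCharacter G (fC α : G → ℂ) := by
  haveI : IsPretransitive G α := is_one_pretransitive_iff.1
    (isMultiplyPretransitive_of_le' (by norm_num : 1 ≤ 4) (by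
      rw [ENat.card_eq_coe_natCard]; exact_mod_cast hn))
  haveI : Nonempty α := (Nat.card_pos_iff.1 (by omega)).1
  exact isGen_permChar α

theorem isGen_pairs :
    Cfsg.IsGeneralizedCharacter G (fun g : G => fC α g * (fC α g - 1)) ∧
      Cfsg.IsGeneralizedCharacter G (fun g : G => (fC α g * (fC α g - 1) + sC α g) / 2) := by
  haveI := Fintype.ofFinite α
  have h2 : IsMultiplyPretransitive G α 2 := isMultiplyPretransitive_of_le' (by norm_num : 2 ≤ 4)
    (by rw [ENat.card_eq_coe_natCard]; exact_mod_cast hn)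
  haveI : IsPretransitive G (Fin 2 ↪ α) := h2
  haveI : IsPretransitive G (Set.powersetCard α 2) :=
    Set.powersetCard.isPretransitive_of_isMultiplyPretransitive G h2
  haveI hne : Nonempty (Fin 2 ↪ α) := Function.Embedding.nonempty_of_card_le (by
    rw [Fintype.card_fin, ← Nat.card_eq_fintype_card]; omega)
  haveI : Nonempty (Set.powersetCard α 2) :=
    hne.map (Set.powersetCard.mulActionHom_of_embedding G α (n := 2))
  constructor
  · have h := isGen_permChar (G := G) (Fin 2 ↪ α)
    rwa [funext permChar_pairs] at h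
  · have h := isGen_permChar (G := G) (Set.powersetCard α 2)
    rwa [funext permChar_subsets] at h

theorem isIrr_chi1 : Cfsg.IsIrrCharacter G (chi1 α : G → ℂ) := by
  haveI := Fintype.ofFinite G
  refine PowChar.isIrr_of_norm_one (Characters.Generalized.sub (isGen_f h4 hn)
    (Characters.Generalized.of_isCharacter isCharacter_one)) ?_ ?_
  · rw [Cfsg.classInner, inv_mul_eq_iff_eq_mul₀ natCard_ne_zero, mul_one]
    have e : ∀ g : G, (fC α g - 1) * conj (fC α g - 1) =
        fC α g * (fC α g - 1) - fC α g + 1 := fun g => by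
      simp only [map_sub, map_one, fC, map_natCast]; ring
    simp only [chi1, e, Finset.sum_add_distrib, Finset.sum_sub_distrib, moment_f h4 hn,
      moment_ff h4 hn, Finset.sum_const, Finset.card_univ, nsmul_eq_mul, mul_one,
      Nat.card_eq_fintype_card]
    ring
  · simp only [chi1, fC, fixN, fixedBy_one_eq_univ, Nat.card_univ, Complex.sub_re,
      Complex.natCast_re, Complex.one_re]
    have : (4 : ℝ) ≤ Nat.card α := by exact_mod_cast hn
    linarith

omit h4 hn in
theorem one_values : fC α (1 : G) = (Nat.card α : ℂ) ∧ sC α (1 : G) = 0 := by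
  refine ⟨by simp [fC, fixN, fixedBy_one_eq_univ], ?_⟩
  have : IsEmpty (Swapped α (1 : G)) := ⟨fun ⟨e, he⟩ => by
    have := he.1
    rw [one_smul] at this
    exact absurd (e.injective this) (by decide)⟩
  simp [sC, swapN]

theorem isIrr_chi2 (h5 : 5 ≤ Nat.card α) : Cfsg.IsIrrCharacter G (chi2 α : G → ℂ) := by
  haveI := Fintype.ofFinite G
  refine PowChar.isIrr_of_norm_one (Characters.Generalized.sub (isGen_pairs h4 hn).2 (isGen_f h4 hn)) ?_ ?_
  · rw [Cfsg.classInner, inv_mul_eq_iff_eq_mul₀ natCard_ne_zero, mul_one]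
    have e : ∀ g : G, ((fC α g * (fC α g - 1) + sC α g) / 2 - fC α g) *
        conj ((fC α g * (fC α g - 1) + sC α g) / 2 - fC α g) =
        (1 / 4 : ℂ) * (fC α g * (fC α g - 1) * (fC α g - 2) * (fC α g - 3)) +
          0 * (fC α g * (fC α g - 1) * (fC α g - 2)) +
          (-1 / 2 : ℂ) * (fC α g * (fC α g - 1)) + fC α g +
          (1 / 2 : ℂ) * (sC α g * (fC α g * (fC α g - 1))) +
          (1 / 4 : ℂ) * (sC α g * sC α g - 2 * sC α g) +
          (1 / 2 : ℂ) * sC α g + (-1) * (sC α g * fC α g) := fun g => by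
      simp only [map_sub, map_one, map_div₀, map_add, map_mul, map_ofNat, fC, sC, map_natCast]
      ring
    simp only [chi2, e, Finset.sum_add_distrib, ← Finset.mul_sum, moment_f h4 hn,
      moment_ff h4 hn, moment_fff h4 hn, moment_ffff h4 hn, moment_s h4 hn, moment_sf h4 hn,
      moment_sff h4 hn, moment_ss h4 hn]
    ring
  · simp only [chi2, one_values.1, one_values.2, add_zero]
    have : (5 : ℝ) ≤ Nat.card α := by exact_mod_cast h5
    norm_num [Complex.mul_re, Complex.sub_re]
    nlinarith

theorem isIrr_chi11 : Cfsg.IsIrrCharacter G (chi11 α : G → ℂ) := by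
  haveI := Fintype.ofFinite G
  have hp := isGen_pairs (G := G) h4 hn
  have h := Characters.Generalized.add (Characters.Generalized.sub
    (Characters.Generalized.sub hp.1 hp.2) (isGen_f (G := G) h4 hn))
    (Characters.Generalized.of_isCharacter (isCharacter_one (G := G)))
  have heq : (chi11 α : G → ℂ) = ((fun g => fC α g * (fC α g - 1)) -
      fun g => (fC α g * (fC α g - 1) + sC α g) / 2) - fC α + fun _ => (1 : ℂ) := by
    funext g
    simp only [Pi.add_apply, Pi.sub_apply, chi11]
    ring
  refine PowChar.isIrr_of_norm_one (heq ▸ h) ?_ ?_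
  · rw [Cfsg.classInner, inv_mul_eq_iff_eq_mul₀ natCard_ne_zero, mul_one]
    have e : ∀ g : G, chi11 α g * conj (chi11 α g) =
        (1 / 4 : ℂ) * (fC α g * (fC α g - 1) * (fC α g - 2) * (fC α g - 3)) +
          0 * (fC α g * (fC α g - 1) * (fC α g - 2)) +
          (1 / 2 : ℂ) * (fC α g * (fC α g - 1)) + (-1) * fC α g + 1 +
          (-1 / 2 : ℂ) * (sC α g * (fC α g * (fC α g - 1))) +
          (1 / 4 : ℂ) * (sC α g * sC α g - 2 * sC α g) +
          (-1 / 2 : ℂ) * sC α g + sC α g * fC α g := fun g => by
      simp only [chi11, map_add, map_sub, map_one, map_div₀, map_mul, map_ofNat, fC, sC,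
        map_natCast]
      ring
    simp only [e, Finset.sum_add_distrib, Finset.sum_sub_distrib, ← Finset.mul_sum,
      moment_f h4 hn, moment_ff h4 hn, moment_fff h4 hn, moment_ffff h4 hn, moment_s h4 hn,
      moment_sf h4 hn, moment_sff h4 hn, moment_ss h4 hn, Finset.sum_const, Finset.card_univ,
      nsmul_eq_mul, mul_one, Nat.card_eq_fintype_card]
    ring
  · simp only [chi11, one_values.1, one_values.2, sub_zero]
    have : (4 : ℝ) ≤ Nat.card α := by exact_mod_cast hn
    norm_num [Complex.mul_re, Complex.sub_re]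
    nlinarith

end Cfsg.Agent.Lib.BC78.LowPermChars
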