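import Cfsg.Agent.Lib.BC78.SectionDiv
import Cfsg.Agent.Lib.Blocks.FirstMain

/-!
# The bound `3 k₀ + 2 Σ 2^h ≤ 3 · 2^d` at a major 2-subsection
-/

set_option autoImplicit false

namespace Cfsg.Agent.Lib.BC78.MajorBound

open Cfsg.Agent.Lib.Blocks Cfsg.Agent.Lib.Blocks.Contrib Cfsg.Agent.Lib.Blocks.SectionMatrix

universe u

variable {G : Type u} [Group G] [Finite G] {M : Ideal Cfsg.AlgInt} (hM : Cfsg.IsPModular 2 M)
  {B : Set (Cfsg.IrrCharacter G)} (hB : Cfsg.IsPBlock M B) {D : Subgroup G}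
  (hD : Cfsg.IsDefectGroup 2 M B D) {z : G} (hzD : z ∈ D) (hzc : ∀ d ∈ D, d * z = z * d)
  {b : Set (Cfsg.IrrCharacter (Subgroup.centralizer ({z} : Set G)))}
  (hb : Cfsg.IsInducedBlock M (Subgroup.centralizer ({z} : Set G)) b B)
  (hbD : Cfsg.IsDefectGroup 2 M b (D.subgroupOf (Subgroup.centralizer ({z} : Set G))))

include hM hB hD hzD hzc hb hbD

theorem bound (hl : Cfsg.blockRank 2 b ≤ 3 ∨ Nat.card B ≤ Cfsg.blockRank 2 b + 3) :
    Nat.card B = Nat.card {χ : Cfsg.IrrCharacter G // χ ∈ B ∧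
        Cfsg.blockHeight 2 B (χ : G → ℂ) = 0} +
      Nat.card {χ : Cfsg.IrrCharacter G // χ ∈ B ∧ 1 ≤ Cfsg.blockHeight 2 B (χ : G → ℂ)} ∧
    3 * Nat.card B ≤ 3 * Nat.card {χ : Cfsg.IrrCharacter G // χ ∈ B ∧
        Cfsg.blockHeight 2 B (χ : G → ℂ) = 0} +
      2 * (∑ᶠ χ ∈ {χ : Cfsg.IrrCharacter G | χ ∈ B ∧ 1 ≤ Cfsg.blockHeight 2 B (χ : G → ℂ)},
        2 ^ Cfsg.blockHeight 2 B (χ : G → ℂ)) ∧
    3 * Nat.card {χ : Cfsg.IrrCharacter G // χ ∈ B ∧ Cfsg.blockHeight 2 B (χ : G → ℂ) = 0} +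
      2 * (∑ᶠ χ ∈ {χ : Cfsg.IrrCharacter G | χ ∈ B ∧ 1 ≤ Cfsg.blockHeight 2 B (χ : G → ℂ)},
        2 ^ Cfsg.blockHeight 2 B (χ : G → ℂ)) ≤ 3 * 2 ^ Cfsg.blockDefect 2 B := by
  classical
  haveI := hM.2.1
  haveI : Fact (Nat.Prime 2) := ⟨Nat.prime_two⟩
  haveI := Fintype.ofFinite G
  haveI := Fintype.ofFinite (Subgroup.centralizer ({z} : Set G))
  -- `z` is a 2-element and the defects agree
  have hDcard : Nat.card D = 2 ^ Cfsg.blockDefect 2 B := card_isDefectGroup hM hB hD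
  have hDle : D ≤ Subgroup.centralizer ({z} : Set G) := fun d hd =>
    Subgroup.mem_centralizer_singleton_iff.mpr (hzc d hd)
  have hd : Cfsg.blockDefect 2 b = Cfsg.blockDefect 2 B := by
    have h := card_isDefectGroup hM hb.1 hbD
    rw [Nat.card_congr (Subgroup.subgroupOfEquivOfLe hDle).toEquiv, hDcard] at h
    exact (Nat.pow_right_injective le_rfl h).symm
  obtain ⟨j, hj⟩ : ∃ j, orderOf z = 2 ^ j := by
    have h := IsPGroup.iff_orderOf.mp (IsPGroup.of_card hDcard) ⟨z, hzD⟩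
    obtain ⟨j, hj⟩ := h
    exact ⟨j, by rw [← hj, Subgroup.orderOf_mk]⟩
  let x : Subgroup.centralizer ({z} : Set G) :=
    ⟨z, Subgroup.mem_centralizer_singleton_iff.mpr rfl⟩
  have hx : Pelt 2 x :=
    ⟨⟨j, hj⟩, (Cfsg.Agent.Lib.BrauerMap.PrincipalSection.centralizer_zpowers_eq z).symm⟩
  obtain ⟨a, hsum, hrow⟩ := SectionDiv.exists_major_means hM hx
    (j := j) (by rw [← Subgroup.orderOf_coe]; exact hj) hb hd
  obtain ⟨χ₀, hχ₀, h₀⟩ := exists_height_zero (p := 2) hB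
  have hbound := SectionDiv.count_bound (bset B) (fun χ => Cfsg.blockHeight 2 B (χ : G → ℂ)) a
    (Cfsg.blockDefect 2 B) (fun χ hχ h0 => (hrow χ (mem_bset.mp hχ)).1 h0)
    (fun χ hχ h0 => (hrow χ (mem_bset.mp hχ)).2 h0)
    ⟨χ₀, mem_bset.mpr hχ₀, (blockHeight_eq_zero_iff hχ₀).mpr h₀⟩ (by
      have hQ : (0 : ℤ) ≤ 2 ^ Cfsg.blockDefect 2 B := pow_nonneg (by norm_num) _
      rcases hl with hl | hl
      · left
        rw [hsum, mul_comm (3 : ℤ)]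
        exact mul_le_mul_of_nonneg_left (by exact_mod_cast hl) hQ
      · right
        rw [Finset.sum_sub_distrib, hsum, Finset.sum_const, card_bset, nsmul_eq_mul]
        have h' : (Nat.card B : ℤ) - (Cfsg.blockRank 2 b : ℤ) ≤ 3 := by omega
        calc (Nat.card B : ℤ) * 2 ^ Cfsg.blockDefect 2 B -
              2 ^ Cfsg.blockDefect 2 B * (Cfsg.blockRank 2 b : ℤ)
            = 2 ^ Cfsg.blockDefect 2 B * ((Nat.card B : ℤ) - (Cfsg.blockRank 2 b : ℤ)) := by ring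
          _ ≤ 2 ^ Cfsg.blockDefect 2 B * 3 := mul_le_mul_of_nonneg_left h' hQ
          _ = 3 * 2 ^ Cfsg.blockDefect 2 B := mul_comm _ _)
  set Z := (bset B).filter fun χ : Cfsg.IrrCharacter G => Cfsg.blockHeight 2 B (χ : G → ℂ) = 0 with hZ
  set P := (bset B).filter fun χ : Cfsg.IrrCharacter G => 1 ≤ Cfsg.blockHeight 2 B (χ : G → ℂ) with hP
  have hk0 : Nat.card {χ : Cfsg.IrrCharacter G // χ ∈ B ∧
      Cfsg.blockHeight 2 B (χ : G → ℂ) = 0} = Z.card := by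
    exact Nat.subtype_card Z fun χ => by rw [hZ, Finset.mem_filter, mem_bset]
  have hk1 : Nat.card {χ : Cfsg.IrrCharacter G // χ ∈ B ∧
      1 ≤ Cfsg.blockHeight 2 B (χ : G → ℂ)} = P.card := by
    exact Nat.subtype_card P fun χ => by rw [hP, Finset.mem_filter, mem_bset]
  have hfs : (∑ᶠ χ ∈ {χ : Cfsg.IrrCharacter G | χ ∈ B ∧ 1 ≤ Cfsg.blockHeight 2 B (χ : G → ℂ)},
      2 ^ Cfsg.blockHeight 2 B (χ : G → ℂ)) = ∑ χ ∈ P, 2 ^ Cfsg.blockHeight 2 B (χ : G → ℂ) := by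
    rw [finsum_mem_eq_finite_toFinset_sum _ (Set.toFinite _)]
    refine Finset.sum_congr ?_ fun _ _ => rfl
    ext χ
    simp [hP]
  have hk : Nat.card B = Z.card + P.card := by
    rw [← card_bset, hZ, hP, ← Finset.card_filter_add_card_filter_not
      (p := fun χ : Cfsg.IrrCharacter G => Cfsg.blockHeight 2 B (χ : G → ℂ) = 0)]
    congr 2
    exact Finset.filter_congr fun χ _ => by omega
  rw [hk0, hk1, hfs]
  refine ⟨hk, ?_, hbound⟩
  have h2 : P.card * 2 ≤ ∑ χ ∈ P, 2 ^ Cfsg.blockHeight 2 B (χ : G → ℂ) := by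
    rw [← smul_eq_mul]
    refine Finset.card_nsmul_le_sum _ _ _ fun χ hχ => ?_
    calc 2 = 2 ^ 1 := rfl
      _ ≤ _ := Nat.pow_le_pow_right two_pos (Finset.mem_filter.mp hχ).2
  omega

end Cfsg.Agent.Lib.BC78.MajorBound
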