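import Cfsg.Agent.Lib.Characters.Diag
import Cfsg.Prelude.Def_Characters

/-!
# Norm one of irreducible characters
-/

namespace Cfsg.Agent.Lib.BC78.Norm

open scoped ComplexConjugate

universe u

variable {G : Type u} [Group G] [Fintype G]

theorem sum_mul_conj {χ : G → ℂ} (hχ : Cfsg.IsIrrCharacter G χ) :
    ∑ g : G, χ g * conj (χ g) = (Nat.card G : ℂ) := by
  obtain ⟨n, ρ, hρ, rfl⟩ := hχ
  haveI := hρ
  haveI : Invertible (Nat.card G : ℂ) := invertibleOfNonzero (Nat.cast_ne_zero.2 Nat.card_pos.ne')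
  have h := Representation.char_orthonormal ρ ρ
  rw [if_pos ⟨Representation.Equiv.refl ρ⟩] at h
  have h' : ∑ g : G, ρ.character g * ρ.character g⁻¹ = (Nat.card G : ℂ) := by
    field_simp at h
    exact h
  rw [← h']
  exact Finset.sum_congr rfl fun g _ => by
    rw [Cfsg.Agent.Lib.Characters.Diag.char_inv_eq_conj ρ g]

theorem sum_normSq {χ : G → ℂ} (hχ : Cfsg.IsIrrCharacter G χ) :
    ∑ g : G, Complex.normSq (χ g) = (Nat.card G : ℝ) := by
  have h := sum_mul_conj hχ
  simp only [Complex.mul_conj] at h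
  exact_mod_cast h

end Cfsg.Agent.Lib.BC78.Norm
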