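import Cfsg.Agent.Lib.BC78.GlueExt
import Cfsg.Agent.Lib.BC78.Roots
import Cfsg.Agent.Lib.BC78.Local
import Cfsg.Agent.Lib.BrauerMap.Covering
import Cfsg.Agent.Lib.Clifford.Gallagher

/-!
# The principal block over a normal subgroup supplemented by the centralizer of a Sylow subgroup

* `ratio_congr` : members of the principal block at elements with class of size prime to `p`;
* `exists_ext` : members of the principal block of `N` extend uniquely inside the principal block.
-/

set_option autoImplicit false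

namespace Cfsg.Agent.Lib.BC78.PBRestrict

open scoped ComplexConjugate
open Cfsg.Agent.Lib.Blocks
open Cfsg.Agent.Lib.Induced.Basic Cfsg.Agent.Lib.Characters.Basic
open Cfsg.Agent.Lib.Characters Cfsg.Agent.Lib.BC78

universe u

variable {p : ℕ} [hp : Fact p.Prime] {M : Ideal Cfsg.AlgInt} [M.IsMaximal]
  (hM : Cfsg.IsPModular p M)

include hM in
/-- A root of unity of order prime to `p` congruent to `1` equals `1`. -/
theorem root_eq_one {z : ℂ} {n : ℕ} (hn : ¬ p ∣ n) (hz : z ^ n = 1)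
    (h : Cfsg.MemLocalIdeal M (z - 1)) : z = 1 := by
  by_contra hne
  have hint : IsIntegral ℤ z :=
    BC78.Roots.isIntegral_of_pow_eq_one (m := n) (fun h0 => hn (h0 ▸ dvd_zero p)) hz
  have hgeom : ∑ i ∈ Finset.range n, z ^ i = 0 := by rw [geom_sum_eq hne, hz, sub_self, zero_div]
  have h1 : Cfsg.MemLocalIdeal M (∑ i ∈ Finset.range n, (z ^ i - 1)) := by
    refine memLocalIdeal_sum _ fun i hi => ?_
    clear hi
    induction i with
    | zero => simp [memLocalIdeal_zero]
    | succ i ih =>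
      rw [show z ^ (i + 1) - 1 = z * (z ^ i - 1) + (z - 1) by ring]
      exact memLocalIdeal_add (memLocalIdeal_mul_left (mem_localRing_of_isIntegral hint) ih) h
  rw [Finset.sum_sub_distrib, hgeom, Finset.sum_const, Finset.card_range, nsmul_eq_mul, mul_one,
    zero_sub] at h1
  have h2 := memLocalIdeal_neg h1
  rw [neg_neg] at h2
  exact hn ((memLocalIdeal_natCast_iff hM n).1 h2)

variable {G : Type u} [Group G] [Finite G]

/-- The principal block is preserved by isomorphisms. -/
theorem mem_principalBlock_comp {A : Type u} [Group A] [Finite A] (e : A ≃* G)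
    {χ : Cfsg.IrrCharacter G} (hχ : χ ∈ Cfsg.principalBlock M G) {ψ : Cfsg.IrrCharacter A}
    (h : ∀ a, (ψ : A → ℂ) a = (χ : G → ℂ) (e a)) : ψ ∈ Cfsg.principalBlock M A := by
  rw [Chars82.PrincipalBlock.mem_principalBlock_iff] at hχ ⊢
  intro a
  have hidx : (Subgroup.centralizer ({a} : Set A)).index =
      (Subgroup.centralizer ({e a} : Set G)).index := by
    rw [show Subgroup.centralizer ({a} : Set A) =
      (Subgroup.centralizer ({e a} : Set G)).comap e.toMonoidHom from ?_,
      Subgroup.index_comap_of_surjective (f := e.toMonoidHom) _ e.surjective]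
    ext x
    rw [Subgroup.mem_comap, Subgroup.mem_centralizer_singleton_iff,
      Subgroup.mem_centralizer_singleton_iff, MulEquiv.coe_toMonoidHom, ← map_mul, ← map_mul,
      e.injective.eq_iff]
  have := hχ (e a)
  rwa [Cfsg.centralChar, h, h, map_one, hidx, ← Cfsg.centralChar]

include hM in
/-- Members of the principal block at elements with class of size prime to `p`. -/
theorem ratio_congr {χ : Cfsg.IrrCharacter G} (hχ : χ ∈ Cfsg.principalBlock M G) {c : G}
    (hc : ¬ p ∣ (Subgroup.centralizer ({c} : Set G)).index) :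
    Cfsg.MemLocalIdeal M ((χ : G → ℂ) c / (χ : G → ℂ) 1 - 1) := by
  have h := memLocalIdeal_mul_left (natCast_inv_mem_localRing hM hc)
    (Chars82.PrincipalBlock.mem_principalBlock_iff.1 hχ c)
  have hne : ((Subgroup.centralizer ({c} : Set G)).index : ℂ) ≠ 0 :=
    Nat.cast_ne_zero.2 fun h0 => hc (h0 ▸ dvd_zero p)
  have h2 := memLocalIdeal_neg h
  rwa [Cfsg.centralChar, mul_div_assoc, ← mul_one_sub, inv_mul_cancel_left₀ hne, neg_sub] at h2

variable (N : Subgroup G) [hN : N.Normal] (P : Sylow p G)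

/-- The centralizer of the Sylow subgroup. -/
abbrev cen : Subgroup G := Subgroup.centralizer ((P : Subgroup G) : Set G)

/-- The values of an extension on the centralizer of the Sylow subgroup. -/
def Val (M : Ideal Cfsg.AlgInt) (θ : Cfsg.IrrCharacter N) (H : Subgroup G)
    (χ : Cfsg.IrrCharacter H) : Prop :=
  (∀ (n : N) (h : H), (h : G) = n → (χ : H → ℂ) h = (θ : N → ℂ) n) ∧
    ∀ c : H, (c : G) ∈ cen P → Cfsg.MemLocalIdeal M ((χ : H → ℂ) c / (θ : N → ℂ) 1 - 1)

variable (hidx : ¬ p ∣ N.index) (hsup : N ⊔ cen P = ⊤)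

include hidx in
theorem sylow_le : (P : Subgroup G) ≤ N := by
  intro x hx
  obtain ⟨i, hi⟩ := P.isPGroup' ⟨x, hx⟩
  have h1 : (x : G ⧸ N) ^ p ^ i = 1 := by
    rw [← QuotientGroup.mk_pow, show x ^ p ^ i = 1 from congrArg Subtype.val hi, QuotientGroup.mk_one]
  have h2 : (x : G ⧸ N) ^ N.index = 1 := by rw [Subgroup.index_eq_card]; exact pow_card_eq_one'
  have h3 := pow_gcd_eq_one.2 ⟨h1, h2⟩
  rw [(Nat.Coprime.pow_left i (hp.out.coprime_iff_not_dvd.2 hidx)).gcd_eq_one, pow_one,
    QuotientGroup.eq_one_iff] at h3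
  exact h3

include hidx in
theorem not_dvd_index_centralizer {H : Subgroup G} (hNH : N ≤ H) {c : H} (hc : (c : G) ∈ cen P) :
    ¬ p ∣ (Subgroup.centralizer ({c} : Set H)).index := by
  intro h
  have hle : (P : Subgroup G).subgroupOf H ≤ Subgroup.centralizer ({c} : Set H) := fun x hx => by
    rw [Subgroup.mem_centralizer_singleton_iff]
    exact Subtype.ext (Subgroup.mem_centralizer_iff.1 hc x hx)
  have h1 : (Subgroup.centralizer ({c} : Set H)).index ∣ ((P : Subgroup G).subgroupOf H).index :=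
    Subgroup.index_dvd_of_le hle
  exact P.not_dvd_index ((h.trans h1).trans
    (Subgroup.relIndex_dvd_index_of_le ((sylow_le N P hidx).trans hNH)))

omit [M.IsMaximal] in
include hsup in
theorem exists_mul {H : Subgroup G} (hNH : N ≤ H) (z : H) :
    ∃ (n : N) (c : H), (c : G) ∈ cen P ∧ z = Subgroup.inclusion hNH n * c := by
  have hz : (z : G) ∈ N ⊔ cen P := hsup ▸ Subgroup.mem_top _
  rw [← SetLike.mem_coe, Subgroup.normal_mul] at hz
  obtain ⟨n, hn, c, hc, hnc⟩ := hz
  have hcH : c ∈ H := by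
    rw [show c = n⁻¹ * (z : G) by rw [← hnc]; group]
    exact mul_mem (inv_mem (hNH hn)) z.2
  exact ⟨⟨n, hn⟩, ⟨c, hcH⟩, hc, Subtype.ext hnc.symm⟩

omit hp [Finite G] in
theorem index_subgroupOf_dvd (H : Subgroup G) : (N.subgroupOf H).index ∣ N.index :=
  Subgroup.relIndex_dvd_index_of_normal N H

include hM hidx hsup in
/-- Uniqueness over a cyclic step. -/
theorem val_unique {θ : Cfsg.IrrCharacter N} {H : Subgroup G} (hNH : N ≤ H)
    (hcyc : IsCyclic (H ⧸ N.subgroupOf H)) (χ χ' : Cfsg.IrrCharacter H)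
    (hχ : Val N P M θ H χ) (hχ' : Val N P M θ H χ') : χ = χ' := by
  classical
  haveI := Fintype.ofFinite H
  haveI := Fintype.ofFinite (N.subgroupOf H)
  haveI := Fintype.ofFinite N
  let e := Subgroup.subgroupOfEquivOfLe hNH
  let θ' : Cfsg.IrrCharacter (N.subgroupOf H) :=
    ⟨(θ : N → ℂ) ∘ e.toMonoidHom, isIrrCharacter_comp _ e.surjective θ.2⟩
  have hres : ∀ φ, Val N P M θ H φ →
      (fun x : N.subgroupOf H => (φ : H → ℂ) x) = (θ' : N.subgroupOf H → ℂ) :=
    fun φ hφ => funext fun x => hφ.1 (e x) (x : H) rfl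
  obtain ⟨l, hl, hlχ⟩ := LinTwist.exists_twist (N.subgroupOf H) LinTwist.isCyclic_comm χ χ' (by
    rw [hres χ hχ, hres χ' hχ', classInner_self_irr]; exact one_ne_zero)
  suffices h : ∀ z : H, (l z : ℂ) = 1 by
    rw [← hlχ]
    exact Subtype.ext (funext fun z => by rw [LinTwist.twist_apply, h z, one_mul])
  intro z
  obtain ⟨n, c, hc, rfl⟩ := exists_mul N P hsup hNH z
  rw [map_mul, hl _ (show (Subgroup.inclusion hNH n : H) ∈ N.subgroupOf H from n.2), one_mul]
  have hroot : (l c : ℂ) ^ (N.subgroupOf H).index = 1 := by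
    rw [← Units.val_pow_eq_pow_val, ← map_pow, hl _ (Subgroup.pow_index_mem _ c), Units.val_one]
  refine root_eq_one hM (fun h => hidx (h.trans (index_subgroupOf_dvd N H))) hroot ?_
  have hint : (l c : ℂ) ∈ localRing M := mem_localRing_of_isIntegral
    (Roots.isIntegral_of_pow_eq_one Subgroup.index_ne_zero_of_finite hroot)
  have h1 := memLocalIdeal_sub (hχ'.2 c hc) (memLocalIdeal_mul_left hint (hχ.2 c hc))
  rw [← hlχ, LinTwist.twist_apply] at h1
  convert h1 using 1
  ring

include hM hidx hsup in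
/-- Existence over a solvable quotient. -/
theorem exists_solvable {θ : Cfsg.IrrCharacter N} (hθ : θ ∈ Cfsg.principalBlock M N)
    (E : Subgroup G) [Group.IsSolvable E] :
    ∃ χ : Cfsg.IrrCharacter ↥(N ⊔ E), χ ∈ Cfsg.principalBlock M ↥(N ⊔ E) ∧
      ∀ (n : N) (h : ↥(N ⊔ E)), (h : G) = n → (χ : _ → ℂ) h = (θ : N → ℂ) n := by
  classical
  refine GlueExt.solvable_induction N
    (fun H => ∃ χ : Cfsg.IrrCharacter H, χ ∈ Cfsg.principalBlock M H ∧
      ∀ (n : N) (h : H), (h : G) = n → (χ : H → ℂ) h = (θ : N → ℂ) n)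
    ⟨θ, hθ, fun n h e => congrArg (θ : N → ℂ) (Subtype.ext e)⟩ ?_ E
  rintro L H hNL hLH hLn hcyc ⟨ξ, hξ, hξθ⟩
  haveI := hLn
  haveI := hcyc
  haveI := Fintype.ofFinite H
  haveI := Fintype.ofFinite (L.subgroupOf H)
  let e := Subgroup.subgroupOfEquivOfLe hLH
  let ξ' : Cfsg.IrrCharacter (L.subgroupOf H) :=
    ⟨(ξ : L → ℂ) ∘ e.toMonoidHom, isIrrCharacter_comp _ e.surjective ξ.2⟩
  have hξ' : ξ' ∈ Cfsg.principalBlock M (L.subgroupOf H) :=
    mem_principalBlock_comp e hξ fun a => rfl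
  obtain ⟨χ, hχ, hover⟩ := Local.exists_over hM (L.subgroupOf H) hξ'
  have hirr : Cfsg.IsIrrCharacter (L.subgroupOf H) (fun x : L.subgroupOf H => (χ : H → ℂ) x) := by
    refine LinTwist.isIrr_restrict_of_stable _ LinTwist.isCyclic_comm χ fun l hl hfix =>
      MonoidHom.ext fun z => Units.ext ?_
    obtain ⟨n, c, hc, rfl⟩ := exists_mul N P hsup (hNL.trans hLH) z
    rw [map_mul, hl _ (show (Subgroup.inclusion (hNL.trans hLH) n : H) ∈ L.subgroupOf H from
      hNL n.2), one_mul, MonoidHom.one_apply, Units.val_one]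
    have hv := congrArg (fun φ : Cfsg.IrrCharacter H => (φ : H → ℂ) c) hfix
    simp only [LinTwist.twist_apply] at hv
    refine (mul_eq_right₀ fun h0 => ?_).1 hv
    have h1 := ratio_congr hM hχ (not_dvd_index_centralizer N P hidx (hNL.trans hLH) hc)
    rw [h0, zero_div, zero_sub] at h1
    have h2 := memLocalIdeal_neg h1
    rw [neg_neg] at h2
    exact not_memLocalIdeal_one h2
  have heq : (⟨_, hirr⟩ : Cfsg.IrrCharacter (L.subgroupOf H)) = ξ' := by
    by_contra hne
    exact hover (classInner_irr_of_ne hne)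
  refine ⟨χ, hχ, fun n h hh => ?_⟩
  have hm : h ∈ L.subgroupOf H := by
    rw [Subgroup.mem_subgroupOf, hh]; exact hNL n.2
  refine (congrFun (congrArg Subtype.val heq) ⟨h, hm⟩).trans ?_
  exact hξθ n (e ⟨h, hm⟩) hh

include hM hidx hsup in
/-- Existence over a cyclic quotient. -/
theorem exists_solvable_cyc {θ : Cfsg.IrrCharacter N} (hθ : θ ∈ Cfsg.principalBlock M N) (x : G) :
    ∃ χ : Cfsg.IrrCharacter ↥(N ⊔ Subgroup.zpowers x),
      χ ∈ Cfsg.principalBlock M ↥(N ⊔ Subgroup.zpowers x) ∧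
      ∀ (n : N) (h : ↥(N ⊔ Subgroup.zpowers x)), (h : G) = n → (χ : _ → ℂ) h = (θ : N → ℂ) n := by
  haveI : Group.IsSolvable (Subgroup.zpowers x) := Group.isSolvable_of_comm fun a b => Subtype.ext (by
    obtain ⟨i, hi⟩ := Subgroup.mem_zpowers_iff.1 a.2
    obtain ⟨j, hj⟩ := Subgroup.mem_zpowers_iff.1 b.2
    rw [Subgroup.coe_mul, Subgroup.coe_mul, ← hi, ← hj, ← zpow_add, ← zpow_add, add_comm])
  exact exists_solvable hM N P hidx hsup hθ _

include hM hidx hsup in
/-- A member of the principal block of `N` extends uniquely inside the principal block. -/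
theorem exists_ext {θ : Cfsg.IrrCharacter N} (hθ : θ ∈ Cfsg.principalBlock M N) :
    ∃ η : Cfsg.IrrCharacter G, η ∈ Cfsg.principalBlock M G ∧
      (∀ n : N, (η : G → ℂ) n = (θ : N → ℂ) n) ∧
      ∀ χ ∈ Cfsg.principalBlock M G,
        (haveI := Fintype.ofFinite N; Cfsg.classInner (fun n : N => (χ : G → ℂ) n) θ ≠ 0) → χ = η := by
  classical
  haveI := Fintype.ofFinite G
  letI : Fintype N := Fintype.ofFinite N
  have hVal : ∀ H : Subgroup G, N ≤ H → ∀ χ : Cfsg.IrrCharacter H, χ ∈ Cfsg.principalBlock M H →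
      (∀ (n : N) (h : H), (h : G) = n → (χ : H → ℂ) h = (θ : N → ℂ) n) → Val N P M θ H χ := by
    intro H hNH χ hχ he
    refine ⟨he, fun c hc => ?_⟩
    have h1 := ratio_congr hM hχ (not_dvd_index_centralizer N P hidx hNH hc)
    rwa [he 1 1 (by simp)] at h1
  obtain ⟨η, hηN, hag⟩ := GlueExt.glue N (θ := θ) (fun H χ => N ≤ H ∧ Val N P M θ H χ)
    (fun H _ χ h => h.2.1)
    (fun E hE => by
      haveI := hE
      obtain ⟨χ, hχ, he⟩ := exists_solvable hM N P hidx hsup hθ E
      exact ⟨χ, le_sup_left, hVal _ le_sup_left χ hχ he⟩)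
    (fun L H hLH hNL χ ψ h hψ => ⟨hNL, fun n l e => by rw [hψ]; exact h.2.1 n _ e,
      fun c hc => by rw [hψ]; exact h.2.2 _ hc⟩)
    (fun g χ χ' h h' => by
      haveI := LinTwist.cyclic_of_le_sup (K := N) (H := N ⊔ Subgroup.zpowers g) le_sup_left
        (Subgroup.mem_sup_right (Subgroup.mem_zpowers g)) le_rfl
      exact val_unique hM N P hidx hsup le_sup_left inferInstance χ χ' h.2 h'.2)
    (cen P) (by rw [Subgroup.closure_eq]; exact hsup)
    (fun x hx H H' hNH hNH' χ ψ h hmem hψ => by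
      refine ⟨hNH', fun n h' e => ?_, fun c hc => ?_⟩
      · -- the conjugate of an extension extends the conjugate character
        have hx' : x⁻¹ * (n : G) * x ∈ N := by simpa using hN.conj_mem _ n.2 x⁻¹
        rw [hψ ⟨_, hNH hx'⟩ h' (by rw [e]; show _ = x * (x⁻¹ * (n : G) * x) * x⁻¹; group),
          h.2.1 ⟨_, hx'⟩ _ rfl]
        -- `θ` is invariant
        let Z := N ⊔ Subgroup.zpowers x
        obtain ⟨φ, -, hφ⟩ := exists_solvable_cyc hM N P hidx hsup hθ x
        have hxZ : x ∈ Z := Subgroup.mem_sup_right (Subgroup.mem_zpowers x)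
        rw [← hφ n ⟨n, Subgroup.mem_sup_left n.2⟩ rfl,
          ← hφ ⟨_, hx'⟩ ⟨_, Subgroup.mem_sup_left hx'⟩ rfl]
        have := isClassFunction_irr φ ⟨_, Subgroup.mem_sup_left n.2⟩ (⟨x, hxZ⟩⁻¹)
        rw [← this]
        exact congrArg _ (Subtype.ext (by simp))
      · have hc' : x⁻¹ * (c : G) * x ∈ cen P := mul_mem (mul_mem (inv_mem hx) hc) hx
        have hcH : x⁻¹ * (c : G) * x ∈ H := hmem c
        rw [hψ ⟨_, hcH⟩ c (by group)]
        exact h.2.2 ⟨_, hcH⟩ hc')
  obtain ⟨χ₀, hχ₀, hover⟩ := Local.exists_over hM N hθ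
  suffices key : ∀ χ ∈ Cfsg.principalBlock M G,
      Cfsg.classInner (fun n : N => (χ : G → ℂ) n) θ ≠ 0 → χ = η from
    ⟨η, key χ₀ hχ₀ hover ▸ hχ₀, hηN, fun χ hχ h => key χ hχ h⟩
  intro χ hχ hne
  have hinv : ∀ g, Lib.Clifford.Basic.conjC N g (θ : N → ℂ) = (θ : N → ℂ) := fun g => by
    have := Lib.Clifford.Basic.conjC_restrict N (isClassFunction_irr η) g
    rwa [show (fun n : N => (η : G → ℂ) n) = (θ : N → ℂ) from funext hηN] at this
  have hmul1 : (fun _ : N => (1 : ℂ)) * (θ : N → ℂ) = θ := funext fun n => one_mul _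
  obtain ⟨-, -, hG⟩ := Lib.Clifford.Gallagher.gallagher N (fun _ : N => (1 : ℂ)) (θ : N → ℂ) (oneChar N).2
    (fun g => rfl) hinv (by rw [hmul1]; exact θ.2) η.2 hηN
  obtain ⟨β, hβ, hβη⟩ := hG χ (by
    rw [hmul1, frobenius_reciprocity N _ (isClassFunction_irr χ)]
    exact Lib.Clifford.Basic.classInner_ne_zero_symm hne)
  by_contra hχη
  have hβN := Lib.Clifford.Gallagher.apply_mul_of_over_one N β hβ
  have hθ1 : (θ : N → ℂ) 1 ≠ 0 := char_one_ne_zero θ
  have hη1 : (η : G → ℂ) 1 = (θ : N → ℂ) 1 := by simpa using hηN 1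
  obtain ⟨d, hd, hβ1⟩ := exists_degree_pos β
  -- every value of `β` is congruent to its degree
  have hval : ∀ g : G, Cfsg.MemLocalIdeal M ((β : G → ℂ) g - (β : G → ℂ) 1) := by
    intro g
    obtain ⟨n, c, hc, hnc⟩ := exists_mul N P hsup (H := (⊤ : Subgroup G)) le_top ⟨g, Subgroup.mem_top g⟩
    rw [show g = (n : G) * (c : G) from congrArg Subtype.val hnc, hβN]
    have hidxc : ¬ p ∣ (Subgroup.centralizer ({(c : G)} : Set G)).index := by
      intro h
      refine P.not_dvd_index (h.trans (Subgroup.index_dvd_of_le fun y hy => ?_))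
      rw [Subgroup.mem_centralizer_singleton_iff]
      exact Subgroup.mem_centralizer_iff.1 hc y hy
    have h1 := ratio_congr hM hχ hidxc
    rw [congrFun hβη (c : G), congrFun hβη 1, Pi.mul_apply, Pi.mul_apply, hη1] at h1
    have hb : Cfsg.MemLocalIdeal M ((η : G → ℂ) c / (θ : N → ℂ) 1 - 1) := by
      obtain ⟨φ, hφ, hφe⟩ := exists_solvable_cyc hM N P hidx hsup hθ (c : G)
      have hcZ : (c : G) ∈ N ⊔ Subgroup.zpowers (c : G) :=
        Subgroup.mem_sup_right (Subgroup.mem_zpowers _)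
      have hv := hVal _ le_sup_left φ hφ hφe
      rw [hag _ le_sup_left φ ⟨le_sup_left, hv⟩ ⟨_, hcZ⟩]
      exact hv.2 ⟨_, hcZ⟩ hc
    have h2 := memLocalIdeal_sub
      (memLocalIdeal_mul_left (mem_localRing_of_isIntegral (isIntegral_apply (isCharacter_irr β) 1)) h1)
      (memLocalIdeal_mul_left (mem_localRing_of_isIntegral (isIntegral_apply (isCharacter_irr β) c)) hb)
    have hb0 : (β : G → ℂ) 1 ≠ 0 := char_one_ne_zero β
    convert h2 using 1
    field_simp
    ring
  haveI := Fintype.ofFinite (G ⧸ N)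
  have hout : ∀ g : G, (β : G → ℂ) ((g : G ⧸ N)).out = (β : G → ℂ) g := by
    intro g
    obtain ⟨n, hn⟩ := QuotientGroup.mk_out_eq_mul N g
    rw [hn]
    have := hβN ⟨g * n * g⁻¹, hN.conj_mem _ n.2 g⟩ g
    simpa [mul_assoc] using this
  have hsum : ∀ f : G → ℂ, (∀ g : G, f ((g : G ⧸ N)).out = f g) →
      ∑ g : G, f g = (Nat.card N : ℂ) * ∑ q : G ⧸ N, f q.out := by
    intro f hf
    rw [← Finset.sum_fiberwise Finset.univ (fun g : G => (g : G ⧸ N)) f, Finset.mul_sum]
    refine Finset.sum_congr rfl fun q _ => ?_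
    rw [Finset.sum_congr rfl (g := fun _ => f q.out) fun g hg => by
      rw [← hf g, (Finset.mem_filter.1 hg).2], Finset.sum_const, nsmul_eq_mul]
    congr 2
    rw [← Fintype.card_subtype, ← Nat.card_eq_fintype_card]
    induction q using QuotientGroup.induction_on with | _ a => ?_
    refine Nat.card_congr
      { toFun := fun g => ⟨a⁻¹ * g.1, (QuotientGroup.eq (s := N)).1 g.2.symm⟩
        invFun := fun n => ⟨a * n, (QuotientGroup.eq (s := N)).2 (by simp)⟩
        left_inv := fun g => Subtype.ext (by simp)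
        right_inv := fun n => Subtype.ext (by simp) }
  have hne1 : β ≠ oneChar G := by
    intro h
    refine hχη (Subtype.ext ?_)
    rw [hβη, h]
    exact funext fun g => by simp [oneChar_apply]
  have h0 : ∑ q : G ⧸ N, (β : G → ℂ) q.out = 0 := by
    have := classInner_irr_of_ne hne1
    rw [Cfsg.classInner] at this
    simp only [oneChar_apply, map_one, mul_one, hsum _ hout, mul_eq_zero, inv_eq_zero] at this
    simpa [natCard_ne_zero, subgroup_card_ne_zero N] using this
  have h1 : ∑ q : G ⧸ N, (β : G → ℂ) q.out * conj ((β : G → ℂ) q.out) = (N.index : ℂ) := by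
    have := classInner_self_irr β
    rw [Cfsg.classInner, hsum (fun g => (β : G → ℂ) g * conj ((β : G → ℂ) g)) (fun g => by rw [hout]),
      inv_mul_eq_iff_eq_mul₀ natCard_ne_zero, mul_one, ← N.index_mul_card, Nat.cast_mul,
      mul_comm (N.index : ℂ)] at this
    exact mul_left_cancel₀ (subgroup_card_ne_zero N) this
  have hcard : Fintype.card (G ⧸ N) = N.index := by
    rw [← Nat.card_eq_fintype_card, Subgroup.index_eq_card]
  have hA : Cfsg.MemLocalIdeal M ((N.index : ℂ) * (β : G → ℂ) 1) := by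
    have := memLocalIdeal_neg (memLocalIdeal_sum Finset.univ fun q (_ : q ∈ (Finset.univ : Finset (G ⧸ N))) => hval q.out)
    rw [Finset.sum_sub_distrib, h0, Finset.sum_const, Finset.card_univ, hcard, nsmul_eq_mul] at this
    simpa using this
  have hB : Cfsg.MemLocalIdeal M ((N.index : ℂ) - (N.index : ℂ) * ((β : G → ℂ) 1 * (β : G → ℂ) 1)) := by
    have := memLocalIdeal_sum Finset.univ fun q (_ : q ∈ (Finset.univ : Finset (G ⧸ N))) =>
      memLocalIdeal_add
        (memLocalIdeal_mul_left (mem_localRing_of_isIntegral (isIntegral_apply (isCharacter_irr β) q.out)) (hval q.out⁻¹))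
        (memLocalIdeal_mul_left (mem_localRing_of_isIntegral (isIntegral_apply (isCharacter_irr β) 1)) (hval q.out))
    convert this using 1
    simp only [apply_inv (isCharacter_irr β), mul_sub, Finset.sum_add_distrib, Finset.sum_sub_distrib,
      h1, ← Finset.mul_sum, ← Finset.sum_mul, h0, Finset.sum_const, Finset.card_univ, hcard,
      nsmul_eq_mul]
    ring
  have hC := memLocalIdeal_add hB (memLocalIdeal_mul_right hA
    (mem_localRing_of_isIntegral (M := M) (isIntegral_apply (isCharacter_irr β) 1)))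
  rw [mul_assoc, sub_add_cancel] at hC
  exact hidx ((memLocalIdeal_natCast_iff hM _).1 hC)

end Cfsg.Agent.Lib.BC78.PBRestrict
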