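import Cfsg.Agent.Lib.BC78.Clifford
import Cfsg.Agent.Lib.BC78.CyclicExt
import Cfsg.Agent.Lib.BC78.CoprimeFix
import Cfsg.Agent.Lib.BC78.Norm
import Cfsg.Agent.Lib.Clifford.Gallagher
import Cfsg.Agent.Lib.Characters.Linear
import Mathlib.GroupTheory.FiniteAbelian.Duality

/-!
# Fully ramified characters
-/

namespace Cfsg.Agent.Lib.BC78.Ramified

open scoped ComplexConjugate
open Cfsg.Agent.Lib.Induced.Basic Cfsg.Agent.Lib.Characters.Basic Cfsg.Agent.Lib.BC78.Clifford
  Cfsg.Agent.Lib.BC78.CoprimeFix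

universe u

variable {H : Type u} [Group H] [Fintype H] (Z : Subgroup H) [hZ : Z.Normal]

variable {Z} {χ : Cfsg.IrrCharacter H} {θ : Cfsg.IrrCharacter Z} {e : ℕ}
  (he : e ^ 2 = Z.index) (hres : ∀ z : Z, (χ : H → ℂ) z = (e : ℂ) * (θ : Z → ℂ) z)

include he in
omit hZ in
theorem e_ne_zero : e ≠ 0 := by
  rintro rfl
  simp at he
  exact Z.index_ne_zero_of_finite he.symm

include he hres

theorem invariant (g : H) : conjIrr Z θ g = θ := by
  apply Subtype.ext
  funext n
  refine mul_left_cancel₀ (Nat.cast_ne_zero.2 (e_ne_zero he) : (e : ℂ) ≠ 0) ?_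
  change (e : ℂ) * (θ : Z → ℂ) _ = (e : ℂ) * (θ : Z → ℂ) n
  rw [← hres, ← hres]
  exact isClassFunction_irr χ (n : H) g

omit hZ in
theorem classInner_eq [Fintype Z] :
    Cfsg.classInner (fun z : Z => (χ : H → ℂ) z) (θ : Z → ℂ) = e := by
  rw [show (fun z : Z => (χ : H → ℂ) z) = (e : ℂ) • (θ : Z → ℂ) from funext hres,
    classInner_smul_left, classInner_self_irr, mul_one]

omit hZ in
theorem vanish {g : H} (hg : g ∉ Z) : (χ : H → ℂ) g = 0 := by
  classical
  haveI := Fintype.ofFinite Z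
  have hall := Cfsg.Agent.Lib.BC78.Norm.sum_normSq χ.2
  have hθ := Cfsg.Agent.Lib.BC78.Norm.sum_normSq θ.2
  have hsub : ∑ x with x ∈ Z, Complex.normSq ((χ : H → ℂ) x) =
      ∑ z : Z, Complex.normSq ((χ : H → ℂ) z) :=
    Finset.sum_subtype _ (fun x => by simp) _
  have hin : ∑ z : Z, Complex.normSq ((χ : H → ℂ) z) = (Nat.card H : ℝ) := by
    simp only [hres, map_mul, ← Finset.mul_sum, hθ, Complex.normSq_natCast]
    rw [← Z.index_mul_card, ← he]
    push_cast
    ring
  rw [← Finset.sum_filter_add_sum_filter_not Finset.univ (· ∈ Z), hsub, hin, add_eq_left,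
    Finset.sum_eq_zero_iff_of_nonneg fun x _ => Complex.normSq_nonneg _] at hall
  exact Complex.normSq_eq_zero.1 (hall g (by simp [hg]))

theorem indFun_eq : Cfsg.indFun Z (θ : Z → ℂ) = (e : ℂ) • (χ : H → ℂ) := by
  classical
  funext g
  rw [Pi.smul_apply, smul_eq_mul]
  by_cases hg : g ∈ Z
  · rw [Cfsg.Agent.Lib.BC78.Clifford.indFun_restrict_normal Z _ ⟨g, hg⟩, hres ⟨g, hg⟩]
    have h : ∀ x : H, conjFun Z (θ : Z → ℂ) x ⟨g, hg⟩ = (θ : Z → ℂ) ⟨g, hg⟩ := fun x =>
      congrFun (congrArg Subtype.val (invariant he hres x)) _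
    rw [Finset.sum_congr rfl fun x _ => h x, Finset.sum_const, Finset.card_univ, nsmul_eq_mul,
      Fintype.card_eq_nat_card, ← Z.index_mul_card, ← he, ← mul_assoc, ← mul_assoc]
    push_cast
    have hc := subgroup_card_ne_zero Z
    field_simp
  · rw [indFun_eq_zero_of_not_mem_normal Z _ hg, vanish he hres hg, mul_zero]

/-- Only `χ` lies over `θ`. -/
theorem over_unique [Fintype Z] (η : Cfsg.IrrCharacter H)
    (h : Cfsg.classInner (fun z : Z => (η : H → ℂ) z) (θ : Z → ℂ) ≠ 0) : η = χ := by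
  by_contra hne
  apply h
  rw [← frobenius_reciprocity' Z _ (isClassFunction_irr η), indFun_eq he hres,
    classInner_smul_right, classInner_irr_of_ne hne, mul_zero]

omit he hres

/-- Sum of all characters of degree one of a finite abelian group at a nontrivial element. -/
theorem sum_dual {A : Type u} [CommGroup A] [Finite A] [Fintype (A →* ℂˣ)] {a : A} (ha : a ≠ 1) :
    ∑ μ : A →* ℂˣ, (μ a : ℂ) = 0 := by
  obtain ⟨l, hl⟩ := CommGroup.exists_apply_ne_one_of_hasEnoughRootsOfUnity A ℂ ha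
  have h : (l a : ℂ) * ∑ μ : A →* ℂˣ, (μ a : ℂ) = ∑ μ : A →* ℂˣ, (μ a : ℂ) := by
    rw [Finset.mul_sum]
    exact Fintype.sum_equiv (Equiv.mulLeft l) _ _ fun μ => by simp
  by_contra h0
  exact hl (Units.ext (mul_eq_right₀ h0 |>.1 h))

include he hres

/-- A fully ramified section has no self-centralizing cyclic subgroup. -/
theorem no_selfCentralizing_cyclic [Fintype Z] (hne : Z ≠ ⊤) (C : Subgroup (H ⧸ Z))
    [hcyc : IsCyclic C] : Subgroup.centralizer (C : Set (H ⧸ Z)) ≠ C := by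
  classical
  intro hC
  let π := QuotientGroup.mk' Z
  let D : Subgroup H := C.comap π
  haveI := Fintype.ofFinite D
  have hZD : Z ≤ D := fun z hz => by
    change π z ∈ C
    rw [show π z = 1 from (QuotientGroup.eq_one_iff z).2 hz]
    exact C.one_mem
  let Z' : Subgroup D := Z.subgroupOf D
  haveI : Z'.Normal := hZ.subgroupOf D
  haveI := Fintype.ofFinite Z'
  let i : Z' →* Z := (Subgroup.subgroupOfEquivOfLe hZD).toMonoidHom
  let θ' : Cfsg.IrrCharacter Z' :=
    ⟨(θ : Z → ℂ) ∘ i, isIrrCharacter_comp i (Subgroup.subgroupOfEquivOfLe hZD).surjective θ.2⟩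
  have hinv : ∀ d : D, conjIrr Z' θ' d = θ' := by
    intro d
    apply Subtype.ext
    funext n
    have h := congrFun (congrArg Subtype.val (invariant he hres (d : H))) (i n)
    refine Eq.trans ?_ h
    exact congrArg (θ : Z → ℂ) (Subtype.ext rfl)
  let f : D ⧸ Z' →* C :=
    QuotientGroup.lift Z' ((π.comp D.subtype).codRestrict C fun d => d.2) fun d hd =>
      Subtype.ext ((QuotientGroup.eq_one_iff (d : H)).2 hd)
  have hf : Function.Injective f := by
    rw [injective_iff_map_eq_one]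
    intro q hq
    obtain ⟨d, rfl⟩ := QuotientGroup.mk'_surjective Z' q
    exact (QuotientGroup.eq_one_iff d).2 ((QuotientGroup.eq_one_iff (d : H)).1
      (congrArg Subtype.val hq))
  haveI : IsCyclic (D ⧸ Z') := isCyclic_of_injective f hf
  letI : CommGroup (D ⧸ Z') := IsCyclic.commGroup
  obtain ⟨η, hη⟩ := CyclicExt.exists_extension Z' θ' hinv
  obtain ⟨q, hq⟩ := IsCyclic.exists_generator (α := C)
  obtain ⟨x, hx⟩ := QuotientGroup.mk'_surjective Z (q : H ⧸ Z)
  have hxD : x ∈ D := by change π x ∈ C; rw [show π x = (q : H ⧸ Z) from hx]; exact q.2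
  -- a nonvanishing point in the coset of a generator
  obtain ⟨x₁, hx₁, hηx₁⟩ : ∃ x₁ : D, π x₁ = q ∧ (η : D → ℂ) x₁ ≠ 0 := by
    obtain ⟨k, σ, hσ, hση⟩ := exists_rep η
    haveI : (Cfsg.Agent.Lib.Clifford.Gallagher.res Z' σ).IsIrreducible := by
      rw [isIrreducible_iff_classInner_self]
      have h : (Cfsg.Agent.Lib.Clifford.Gallagher.res Z' σ).character = (θ' : Z' → ℂ) := by
        funext n
        rw [← hη n, ← hση]
        rfl
      rw [h]
      exact classInner_self_irr θ'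
    have h := Cfsg.Agent.Lib.Clifford.Gallagher.average_self Z' σ (⟨x, hxD⟩ : D)
    obtain ⟨n, -, hn⟩ := Finset.exists_ne_zero_of_sum_ne_zero (s := Finset.univ)
      (f := fun n : Z' => σ.character ((n : D) * ⟨x, hxD⟩) *
        conj (σ.character ((n : D) * ⟨x, hxD⟩))) (fun h0 => by rw [h0, mul_zero] at h; exact zero_ne_one h)
    refine ⟨(n : D) * ⟨x, hxD⟩, ?_, ?_⟩
    · rw [Subgroup.coe_mul, map_mul, show π ((n : D) : H) = 1 from
        (QuotientGroup.eq_one_iff _).2 n.2, one_mul]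
      exact hx
    · intro h0
      rw [← hση] at h0
      exact hn (by rw [h0, zero_mul])
  have hx₁Z : (x₁ : H) ∉ Z := by
    intro hmem
    apply hne
    have hq1 : (q : H ⧸ Z) = 1 := hx₁ ▸ (QuotientGroup.eq_one_iff _).2 hmem
    have hbot : C = ⊥ := by
      rw [Subgroup.eq_bot_iff_forall]
      intro y hy
      obtain ⟨j, hj⟩ := Subgroup.mem_zpowers_iff.1 (hq ⟨y, hy⟩)
      have := congrArg Subtype.val hj
      simpa [hq1] using this.symm
    rw [Subgroup.eq_top_iff']
    intro h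
    have hmem' : π h ∈ Subgroup.centralizer (C : Set (H ⧸ Z)) := by
      rw [Subgroup.mem_centralizer_iff]
      intro y hy
      rw [hbot] at hy
      rw [Subgroup.mem_bot.1 hy]
      simp
    rw [hC, hbot, Subgroup.mem_bot] at hmem'
    exact (QuotientGroup.eq_one_iff h).1 hmem'
  -- induced twists vanish
  haveI := Fintype.ofFinite ((D ⧸ Z') →* ℂˣ)
  let ψ : ((D ⧸ Z') →* ℂˣ) → D → ℂ := fun μ =>
    (fun d : D => ((μ (QuotientGroup.mk' Z' d) : ℂˣ) : ℂ)) * (η : D → ℂ)
  have hzero : ∀ μ, Cfsg.indFun D (ψ μ) (x₁ : H) = 0 := by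
    intro μ
    have hμ : Cfsg.IsIrrCharacter D (ψ μ) :=
      Cfsg.Agent.Lib.Characters.Linear.isIrrCharacter_linear_mul
        (Cfsg.Agent.Lib.Induced.Character.isCharacter_hom (μ.comp (QuotientGroup.mk' Z')))
        (by simp) η.2
    have hξ : Cfsg.IsCharacter H (Cfsg.indFun D (ψ μ)) :=
      Cfsg.Agent.Lib.Induced.Character.isCharacter_indFun D (IsCharacter_of_isIrrCharacter hμ)
    rw [character_eq_finsum hξ, finsum_eq_single _ χ]
    · rw [Pi.smul_apply, smul_eq_mul, vanish he hres hx₁Z, mul_zero]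
    · intro η' hne'
      by_cases h0 : Cfsg.classInner (Cfsg.indFun D (ψ μ)) η' = 0
      · rw [h0, zero_smul]
      exfalso
      apply hne'
      apply over_unique he hres
      rw [frobenius_reciprocity D _ (isClassFunction_irr η')] at h0
      have h1 : Cfsg.classInner ((η' : H → ℂ) ∘ D.subtype) (⟨ψ μ, hμ⟩ : Cfsg.IrrCharacter D) ≠ 0 :=
        fun hz => h0 (by rw [← classInner_conj_symm]; exact (congrArg conj hz).trans (map_zero _))
      let j : Z →* D := Subgroup.inclusion hZD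
      have h2 : Cfsg.classInner (((⟨ψ μ, hμ⟩ : Cfsg.IrrCharacter D) : D → ℂ) ∘ j) θ ≠ 0 := by
        have : ((⟨ψ μ, hμ⟩ : Cfsg.IrrCharacter D) : D → ℂ) ∘ j = (θ : Z → ℂ) := by
          funext z
          change ((μ (QuotientGroup.mk' Z' (j z)) : ℂˣ) : ℂ) * (η : D → ℂ) (j z) = _
          rw [show QuotientGroup.mk' Z' (j z) = 1 from (QuotientGroup.eq_one_iff _).2 z.2,
            map_one, Units.val_one, one_mul]
          exact hη ⟨j z, z.2⟩
        rw [this, classInner_self_irr]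
        exact one_ne_zero
      exact inner_ne_zero_comp j (isCharacter_comp D.subtype (isCharacter_irr η')) _
        (isCharacter_irr θ) h1 h2
  -- but their combination does not
  let q₁ : D ⧸ Z' := QuotientGroup.mk' Z' x₁
  have hsum : ∑ μ : (D ⧸ Z') →* ℂˣ, ((μ q₁⁻¹ : ℂˣ) : ℂ) * Cfsg.indFun D (ψ μ) (x₁ : H) =
      (Nat.card ((D ⧸ Z') →* ℂˣ) : ℂ) * (η : D → ℂ) x₁ := by
    simp only [indFun_apply, ψ, Pi.mul_apply, Finset.mul_sum]
    rw [Finset.sum_comm]
    have hin : ∀ h : H, (∑ μ : (D ⧸ Z') →* ℂˣ, ((μ q₁⁻¹ : ℂˣ) : ℂ) * ((Nat.card D : ℂ)⁻¹ *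
        if hh : h⁻¹ * x₁ * h ∈ D then
          ((μ (QuotientGroup.mk' Z' ⟨h⁻¹ * x₁ * h, hh⟩) : ℂˣ) : ℂ) * (η : D → ℂ) ⟨_, hh⟩ else 0)) =
        if h ∈ D then (Nat.card D : ℂ)⁻¹ *
          ((Nat.card ((D ⧸ Z') →* ℂˣ) : ℂ) * (η : D → ℂ) x₁) else 0 := by
      intro h
      by_cases hh : h⁻¹ * x₁ * h ∈ D
      · simp only [dif_pos hh]
        have e1 : ∀ μ : (D ⧸ Z') →* ℂˣ, ((μ q₁⁻¹ : ℂˣ) : ℂ) * ((Nat.card D : ℂ)⁻¹ *
            (((μ (QuotientGroup.mk' Z' ⟨h⁻¹ * x₁ * h, hh⟩) : ℂˣ) : ℂ) * (η : D → ℂ) ⟨_, hh⟩)) =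
            ((Nat.card D : ℂ)⁻¹ * (η : D → ℂ) ⟨_, hh⟩) *
              ((μ (q₁⁻¹ * QuotientGroup.mk' Z' ⟨h⁻¹ * x₁ * h, hh⟩) : ℂˣ) : ℂ) := fun μ => by
          rw [map_mul, Units.val_mul]; ring
        rw [Finset.sum_congr rfl fun μ _ => e1 μ, ← Finset.mul_sum]
        by_cases hD : h ∈ D
        · rw [if_pos hD]
          have e2 : (⟨h⁻¹ * x₁ * h, hh⟩ : D) = (⟨h, hD⟩ : D)⁻¹ * x₁ * ((⟨h, hD⟩ : D)⁻¹)⁻¹ :=
            Subtype.ext (by simp)
          have e3 : QuotientGroup.mk' Z' ⟨h⁻¹ * x₁ * h, hh⟩ = q₁ := by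
            rw [e2, map_mul, map_mul, mul_comm _ q₁, mul_assoc, ← map_mul, mul_inv_cancel,
              map_one, mul_one]
          have e4 : (η : D → ℂ) ⟨_, hh⟩ = (η : D → ℂ) x₁ := by
            rw [e2]; exact isClassFunction_irr η x₁ _
          rw [e3, e4, inv_mul_cancel]
          simp only [map_one, Units.val_one, Finset.sum_const, Finset.card_univ, nsmul_one,
            Fintype.card_eq_nat_card]
          ring
        · rw [if_neg hD, sum_dual, mul_zero]
          intro hone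
          apply hD
          rw [inv_mul_eq_one] at hone
          have hπ : π (h⁻¹ * x₁ * h) = q := by
            rw [← hx₁]
            exact (congrArg (fun z => ((f z : C) : H ⧸ Z)) hone).symm
          change π h ∈ C
          rw [← hC, Subgroup.mem_centralizer_iff]
          intro y hy
          obtain ⟨j, hj⟩ := Subgroup.mem_zpowers_iff.1 (hq ⟨y, hy⟩)
          have hyq : y = (q : H ⧸ Z) ^ j := by
            have := congrArg Subtype.val hj
            simpa using this.symm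
          rw [hyq]
          refine (Commute.zpow_left ?_ j).eq
          rw [map_mul, map_mul, hx₁, map_inv, mul_assoc, inv_mul_eq_iff_eq_mul] at hπ
          exact hπ
      · rw [if_neg (fun hD => hh (D.mul_mem (D.mul_mem (D.inv_mem hD) x₁.2) hD))]
        simp [dif_neg hh]
    rw [Finset.sum_congr rfl fun h _ => hin h, ← Finset.sum_filter, Finset.sum_const, nsmul_eq_mul,
      show (Finset.univ.filter (· ∈ D)).card = Nat.card D by
        rw [Nat.card_eq_fintype_card, Fintype.card_subtype],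
      ← mul_assoc, mul_inv_cancel₀ (subgroup_card_ne_zero D), one_mul]
  simp only [hzero, mul_zero, Finset.sum_const_zero] at hsum
  rcases mul_eq_zero.1 hsum.symm with h | h
  · exact absurd h (Nat.cast_ne_zero.2 Nat.card_pos.ne')
  · exact hηx₁ h

end Cfsg.Agent.Lib.BC78.Ramified
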