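import Cfsg.Agent.Lib.BC78.Ramified
import Mathlib.GroupTheory.Sylow
import Mathlib.GroupTheory.GroupAction.Quotient

/-!
# Fully ramified characters and complements

If `χ` is fully ramified over `Z` and, for a Sylow preimage `T` and `P = T ∩ K`, the characters of
`P` over the ramified character have trivial inertia in `T / P`, then the quotient by `K` has a
subgroup whose index is the full `p`-part of its order.
-/

namespace Cfsg.Agent.Lib.BC78.RamifiedComplement

open scoped ComplexConjugate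
open Cfsg.Agent.Lib.Induced.Basic Cfsg.Agent.Lib.Characters.Basic Cfsg.Agent.Lib.BC78.Clifford
  Cfsg.Agent.Lib.BC78.CoprimeFix

universe u

variable {T : Type u} [Group T] [Fintype T]

theorem inner_symm {φ ψ : T → ℂ} (h : Cfsg.classInner φ ψ ≠ 0) : Cfsg.classInner ψ φ ≠ 0 :=
  fun h0 => h (by rw [← classInner_conj_symm, h0, map_zero])

/-- Pull back along a bijective homomorphism. -/
def pull {A B : Type u} [Group A] [Group B] (f : A →* B) (hf : Function.Surjective f)
    (η : Cfsg.IrrCharacter B) : Cfsg.IrrCharacter A :=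
  ⟨(η : B → ℂ) ∘ f, isIrrCharacter_comp f hf η.2⟩

theorem classInner_comp_equiv {A B : Type u} [Group A] [Group B] [Fintype A] [Fintype B]
    (f : A ≃* B) (φ ψ : B → ℂ) :
    Cfsg.classInner (φ ∘ f) (ψ ∘ f) = Cfsg.classInner φ ψ := by
  simp only [Cfsg.classInner, Function.comp_apply, Nat.card_congr f.toEquiv]
  congr 1
  exact Fintype.sum_equiv f.toEquiv _ _ fun a => rfl

section TLevel

variable (Z P : Subgroup T) [hZn : Z.Normal] [hPn : P.Normal] [Fintype Z] [Fintype P] (hZP : Z ≤ P)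
  {θ : Cfsg.IrrCharacter Z} {ψ : Cfsg.IrrCharacter T}
  (huniq : ∀ φ : Cfsg.IrrCharacter T,
    Cfsg.classInner ((φ : T → ℂ) ∘ Z.subtype) θ ≠ 0 → φ = ψ)
include huniq

omit hZn hPn in
theorem eq_smul (I : Subgroup T) [Fintype I] (hZI : Z ≤ I) (η : Cfsg.IrrCharacter I)
    (hη : Cfsg.classInner ((η : I → ℂ) ∘ Subgroup.inclusion hZI) θ ≠ 0) :
    ∃ c : ℕ, c ≠ 0 ∧ Cfsg.classInner ((ψ : T → ℂ) ∘ I.subtype) η = c ∧
      Cfsg.indFun I (η : I → ℂ) = (c : ℂ) • (ψ : T → ℂ) := by
  classical
  have hchar := Cfsg.Agent.Lib.Induced.Character.isCharacter_indFun I (isCharacter_irr η)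
  obtain ⟨c, hc⟩ := exists_classInner_nat (isCharacter_comp I.subtype (isCharacter_irr ψ))
    (isCharacter_irr η)
  have hc' : Cfsg.classInner (Cfsg.indFun I (η : I → ℂ)) ψ = c := by
    rw [frobenius_reciprocity I _ (isClassFunction_irr ψ), ← classInner_conj_symm]
    change conj (Cfsg.classInner ((ψ : T → ℂ) ∘ I.subtype) η) = c
    rw [hc, map_natCast]
  have heq : Cfsg.indFun I (η : I → ℂ) = (c : ℂ) • (ψ : T → ℂ) := by
    conv_lhs => rw [character_eq_finsum hchar]
    rw [finsum_eq_single _ ψ, hc']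
    intro φ hφ
    by_cases h0 : Cfsg.classInner (Cfsg.indFun I (η : I → ℂ)) φ = 0
    · rw [h0, zero_smul]
    · refine absurd (huniq φ ?_) hφ
      rw [frobenius_reciprocity I _ (isClassFunction_irr φ)] at h0
      exact inner_ne_zero_comp (Subgroup.inclusion hZI)
        (isCharacter_comp I.subtype (isCharacter_irr φ)) η (isCharacter_irr θ) (inner_symm h0) hη
  refine ⟨c, fun h => ?_, hc, heq⟩
  have h1 := congrFun heq 1
  rw [indFun_one, h, Nat.cast_zero, zero_smul, Pi.zero_apply, mul_eq_zero, Nat.cast_eq_zero] at h1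
  exact h1.elim Subgroup.index_ne_zero_of_finite (apply_one_ne_zero η)

include hZP

omit hZn in
/-- The characters of `P` over `θ` are conjugate. -/
theorem exists_conj (η η' : Cfsg.IrrCharacter P)
    (hη : Cfsg.classInner ((η : P → ℂ) ∘ Subgroup.inclusion hZP) θ ≠ 0)
    (hη' : Cfsg.classInner ((η' : P → ℂ) ∘ Subgroup.inclusion hZP) θ ≠ 0) :
    ∃ t : T, conjIrr P η t = η' := by
  obtain ⟨c, hc0, hc, -⟩ := eq_smul Z huniq P hZP η hη
  obtain ⟨c', hc0', hc', -⟩ := eq_smul Z huniq P hZP η' hη'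
  exact exists_conj_eq P ψ η η' (fun h => hc0 (Nat.cast_eq_zero.1 (hc.symm.trans h)))
    (fun h => hc0' (Nat.cast_eq_zero.1 (hc'.symm.trans h)))

omit hZn in
/-- The square of the multiplicity is the order of the inertia quotient. -/
theorem sq_mult (η : Cfsg.IrrCharacter P)
    (hη : Cfsg.classInner ((η : P → ℂ) ∘ Subgroup.inclusion hZP) θ ≠ 0) :
    ∃ c : ℕ, c ≠ 0 ∧ Cfsg.classInner ((ψ : T → ℂ) ∘ P.subtype) η = c ∧
      c * deg ψ = P.index * deg η ∧
      c ^ 2 * Nat.card P = Nat.card (Lib.Clifford.Basic.inertia P (η : P → ℂ)) := by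
  obtain ⟨c, hc0, hc, heq⟩ := eq_smul Z huniq P hZP η hη
  refine ⟨c, hc0, hc, ?_, ?_⟩
  · have h := congrFun heq 1
    rw [indFun_one, Pi.smul_apply, smul_eq_mul, apply_one_eq_deg, apply_one_eq_deg] at h
    exact_mod_cast h.symm
  · have h1 : Cfsg.classInner (Cfsg.indFun P (η : P → ℂ)) (Cfsg.indFun P (η : P → ℂ)) =
        (c : ℂ) * c := by
      rw [heq, classInner_smul_left, classInner_smul_right, classInner_self_irr, map_natCast,
        mul_one]
    rw [frobenius_reciprocity' P _ (isClassFunction_indFun P _),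
      Lib.Clifford.Basic.indFun_restrict_normal P (η : P → ℂ), classInner_smul_left,
      Lib.Clifford.Basic.classInner_sum_conjC_self,
      inv_mul_eq_iff_eq_mul₀ (subgroup_card_ne_zero P)] at h1
    have h2 : Nat.card (Lib.Clifford.Basic.inertia P (η : P → ℂ)) = Nat.card P * (c * c) := by
      exact_mod_cast h1
    rw [h2]; ring

/-- With cyclic quotient the inertia group of a character over `θ` is `P`. -/
theorem inertia_eq_of_cyclic [IsCyclic (T ⧸ P)] (η : Cfsg.IrrCharacter P)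
    (hη : Cfsg.classInner ((η : P → ℂ) ∘ Subgroup.inclusion hZP) θ ≠ 0) (t : T)
    (ht : conjIrr P η t = η) : t ∈ P := by
  classical
  obtain ⟨c, hc0, hc, -, hsq⟩ := sq_mult Z P hZP huniq η hη
  let I := Lib.Clifford.Basic.inertia P (η : P → ℂ)
  haveI := Fintype.ofFinite I
  have hPI : P ≤ I := Lib.Clifford.Basic.le_inertia P (isClassFunction_irr η)
  let P' : Subgroup I := P.subgroupOf I
  haveI : P'.Normal := hPn.subgroupOf I
  haveI := Fintype.ofFinite P'
  let e : P' ≃* P := Subgroup.subgroupOfEquivOfLe hPI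
  let η' := pull e.toMonoidHom e.surjective η
  have hinv : ∀ i : I, conjIrr P' η' i = η' := by
    intro i
    apply Subtype.ext
    funext n
    refine Eq.trans ?_ (congrFun i.2 (e n))
    exact congrArg (η : P → ℂ) (Subtype.ext rfl)
  let f : I ⧸ P' →* T ⧸ P := QuotientGroup.map P' P I.subtype (fun _ h => h)
  have hf : Function.Injective f := by
    rw [injective_iff_map_eq_one]
    intro q hq
    obtain ⟨d, rfl⟩ := QuotientGroup.mk'_surjective P' q
    exact (QuotientGroup.eq_one_iff d).2 ((QuotientGroup.eq_one_iff (d : T)).1 hq)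
  haveI : IsCyclic (I ⧸ P') := isCyclic_of_injective f hf
  letI : CommGroup (I ⧸ P') := IsCyclic.commGroup
  obtain ⟨ξ, hξ⟩ := CyclicExt.exists_extension P' η' hinv
  let tw : ((I ⧸ P') →* ℂˣ) → Cfsg.IrrCharacter I := fun μ =>
    ⟨(fun d : I => ((μ (QuotientGroup.mk' P' d) : ℂˣ) : ℂ)) * (ξ : I → ℂ),
      Cfsg.Agent.Lib.Characters.Linear.isIrrCharacter_linear_mul
        (Cfsg.Agent.Lib.Induced.Character.isCharacter_hom (μ.comp (QuotientGroup.mk' P')))
        (by simp) ξ.2⟩
  have hinj : Function.Injective tw := by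
    intro μ ν hμν
    refine MonoidHom.ext fun q => Units.ext ?_
    obtain ⟨d, rfl⟩ := QuotientGroup.mk'_surjective P' q
    obtain ⟨k, σ, hσ, hσξ⟩ := exists_rep ξ
    haveI : (Cfsg.Agent.Lib.Clifford.Gallagher.res P' σ).IsIrreducible := by
      rw [isIrreducible_iff_classInner_self]
      have h : (Cfsg.Agent.Lib.Clifford.Gallagher.res P' σ).character = (η' : P' → ℂ) := by
        funext n; rw [← hξ n, ← hσξ]; rfl
      rw [h]
      exact classInner_self_irr η'
    have h := Cfsg.Agent.Lib.Clifford.Gallagher.average_self P' σ d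
    obtain ⟨n, -, hn⟩ := Finset.exists_ne_zero_of_sum_ne_zero (s := Finset.univ)
      (f := fun n : P' => σ.character ((n : I) * d) * conj (σ.character ((n : I) * d)))
      (fun h0 => by rw [h0, mul_zero] at h; exact zero_ne_one h)
    have h1 := congrFun (congrArg Subtype.val hμν) ((n : I) * d)
    simp only [tw, Pi.mul_apply, map_mul,
      show QuotientGroup.mk' P' (n : I) = 1 from (QuotientGroup.eq_one_iff _).2 n.2,
      one_mul, map_one] at h1
    refine mul_right_cancel₀ ?_ h1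
    rw [← hσξ]
    exact fun h0 => hn (by rw [h0, zero_mul])
  let j : P →* I := Subgroup.inclusion hPI
  have htwP : ∀ μ, ((tw μ : I → ℂ) ∘ j) = (η : P → ℂ) := by
    intro μ
    funext x
    change ((μ (QuotientGroup.mk' P' (j x)) : ℂˣ) : ℂ) * (ξ : I → ℂ) (j x) = _
    rw [show QuotientGroup.mk' P' (j x) = 1 from (QuotientGroup.eq_one_iff _).2 x.2,
      map_one, Units.val_one, one_mul]
    exact hξ ⟨j x, x.2⟩
  have hmult : ∀ μ, Cfsg.classInner ((ψ : T → ℂ) ∘ I.subtype) (tw μ) ≠ 0 := by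
    intro μ
    have : Cfsg.classInner ((tw μ : I → ℂ) ∘ Subgroup.inclusion (hZP.trans hPI)) θ ≠ 0 := by
      have e1 : ((tw μ : I → ℂ) ∘ Subgroup.inclusion (hZP.trans hPI)) =
          (η : P → ℂ) ∘ Subgroup.inclusion hZP := by
        rw [← htwP μ]; rfl
      rw [e1]; exact hη
    obtain ⟨d, hd0, hd, -⟩ := eq_smul Z huniq I (hZP.trans hPI) (tw μ) this
    rw [hd]; exact_mod_cast hd0
  -- count
  haveI := Fintype.ofFinite ((I ⧸ P') →* ℂˣ)
  haveI := Fintype.ofFinite (Cfsg.IrrCharacter I)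
  have hle : Nat.card ((I ⧸ P') →* ℂˣ) ≤ c := by
    have hψI := isCharacter_comp I.subtype (isCharacter_irr ψ)
    choose a ha using fun φ => exists_classInner_nat hψI (isCharacter_irr (G := I) φ)
    choose b hb using fun φ : Cfsg.IrrCharacter I =>
      exists_classInner_nat (isCharacter_comp j (isCharacter_irr φ)) (isCharacter_irr η)
    have hd := character_eq_finsum hψI
    rw [finsum_eq_sum_of_fintype] at hd
    have hsum : c = ∑ φ, a φ * b φ := by
      have e1 : (ψ : T → ℂ) ∘ P.subtype = ∑ φ : Cfsg.IrrCharacter I,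
          Cfsg.classInner ((ψ : T → ℂ) ∘ I.subtype) φ • ((φ : I → ℂ) ∘ j) := by
        funext x
        have := congrFun hd (j x)
        simpa [Finset.sum_apply, j] using this
      rw [e1, classInner_sum_left] at hc
      simp only [classInner_smul_left, ha, hb] at hc
      exact_mod_cast hc.symm
    have hone : ∀ μ, 1 ≤ a (tw μ) * b (tw μ) := by
      intro μ
      have h1 : a (tw μ) ≠ 0 := fun h => hmult μ (by rw [ha, h, Nat.cast_zero])
      have h2 : b (tw μ) = 1 := by
        have := hb (tw μ)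
        rw [htwP, classInner_self_irr] at this
        exact_mod_cast this.symm
      rw [h2, mul_one]; omega
    calc Nat.card ((I ⧸ P') →* ℂˣ) = ∑ _μ : (I ⧸ P') →* ℂˣ, 1 := by simp [Nat.card_eq_fintype_card]
      _ ≤ ∑ μ, a (tw μ) * b (tw μ) := Finset.sum_le_sum fun μ _ => hone μ
      _ = ∑ φ ∈ Finset.univ.map ⟨tw, hinj⟩, a φ * b φ := (Finset.sum_map _ ⟨tw, hinj⟩ fun φ => a φ * b φ).symm
      _ ≤ c := hsum ▸ Finset.sum_le_sum_of_subset (Finset.subset_univ _)
  rw [CommGroup.card_monoidHom_of_hasEnoughRootsOfUnity, ← Subgroup.index_eq_card] at hle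
  have h3 := Subgroup.card_mul_index P'
  rw [Nat.card_congr e.toEquiv, ← hsq, mul_comm (c ^ 2)] at h3
  have h4 : P'.index = c ^ 2 := Nat.eq_of_mul_eq_mul_left Nat.card_pos h3
  have hc1 : c = 1 := by
    rw [h4] at hle
    rcases Nat.lt_or_ge c 2 with h | h
    · omega
    · nlinarith
  have htI : t ∈ I := congrArg Subtype.val ht
  have : P'.index = 1 := by rw [h4, hc1]; rfl
  have hmem : (⟨t, htI⟩ : I) ∈ P' := (Subgroup.index_eq_one.1 this) ▸ Subgroup.mem_top _
  exact hmem

end TLevel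

/-! ## The complement -/

variable {H : Type u} [Group H] [Fintype H] {Z : Subgroup H} [hZ : Z.Normal] [Fintype Z]
  {χ : Cfsg.IrrCharacter H} {θ : Cfsg.IrrCharacter Z} {e : ℕ}
  (he : e ^ 2 = Z.index) (hres : ∀ z : Z, (χ : H → ℂ) z = (e : ℂ) * (θ : Z → ℂ) z)
include he hres

/-- Over a Sylow preimage `T` only one character lies over `θ`. -/
theorem sylow_level (p : ℕ) [hp : Fact p.Prime] (T : Subgroup H) [Fintype T] (hZT : Z ≤ T)
    (hidx : ¬ p ∣ T.index) {k : ℕ} (hTZ : Z.relIndex T = p ^ k) :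
    ∃ (ψ : Cfsg.IrrCharacter T) (m e' : ℕ), e = p ^ m * e' ∧ ¬ p ∣ e' ∧
      deg ψ = p ^ m * deg θ ∧ ∀ φ : Cfsg.IrrCharacter T,
        Cfsg.classInner ((φ : T → ℂ) ∘ Subgroup.inclusion hZT) θ ≠ 0 → φ = ψ := by
  classical
  have hmul : Z.relIndex T * T.index = Z.index := Subgroup.relIndex_mul_index hZT
  have he0 : e ≠ 0 := Ramified.e_ne_zero he
  obtain ⟨m, e', he', hee⟩ := Nat.exists_eq_pow_mul_and_not_dvd he0 p hp.out.ne_one
  have hkm : k = 2 * m := by
    have h1 : (p ^ m * e') ^ 2 = p ^ k * T.index := by rw [← hee, he, ← hmul, hTZ]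
    have h2 := congrArg (fun x => Nat.factorization x p) h1
    have he'0 : e' ≠ 0 := fun h => he' (h ▸ dvd_zero p)
    simp only [Nat.factorization_mul (pow_ne_zero _ hp.out.ne_zero) he'0,
      Nat.factorization_mul (pow_ne_zero _ hp.out.ne_zero) T.index_ne_zero_of_finite,
      Nat.factorization_pow, hp.out.factorization_self, Nat.factorization_eq_zero_of_not_dvd he',
      Nat.factorization_eq_zero_of_not_dvd hidx, Finsupp.coe_smul, Finsupp.coe_add, Pi.smul_apply,
      Pi.add_apply, smul_eq_mul] at h2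
    omega
  let Z' : Subgroup T := Z.subgroupOf T
  haveI : Z'.Normal := hZ.subgroupOf T
  haveI := Fintype.ofFinite Z'
  let i : Z' ≃* Z := Subgroup.subgroupOfEquivOfLe hZT
  let θ' := pull i.toMonoidHom i.surjective θ
  have hover : ∀ φ : Cfsg.IrrCharacter T, Cfsg.classInner ((φ : T → ℂ) ∘ Subgroup.inclusion hZT) θ =
      Cfsg.classInner (fun z : Z' => (φ : T → ℂ) z) θ' := fun φ => (classInner_comp_equiv i _ _).symm
  have hinvθ : ∀ t : T, conjIrr Z' θ' t = θ' := by
    intro t
    apply Subtype.ext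
    funext n
    refine Eq.trans ?_ (congrFun (congrArg Subtype.val (Ramified.invariant he hres (t : H))) (i n))
    exact congrArg (θ : Z → ℂ) (Subtype.ext rfl)
  -- every character over θ has degree at least p^m
  have hbig : ∀ φ : Cfsg.IrrCharacter T,
      Cfsg.classInner ((φ : T → ℂ) ∘ Subgroup.inclusion hZT) θ ≠ 0 →
      ∃ a : ℕ, Cfsg.classInner (fun z : Z' => (φ : T → ℂ) z) θ' = a ∧ p ^ m ≤ a ∧
        deg φ = a * deg θ := by
    intro φ hφ
    obtain ⟨a, ha0, ha, hares⟩ := restrict_eq_mul Z' φ θ' hinvθ (by rwa [← hover])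
    have hdeg : deg φ = a * deg θ := by
      have h := hares 1
      rw [Subgroup.coe_one, apply_one_eq_deg] at h
      have h' : (θ' : Z' → ℂ) 1 = (deg θ : ℂ) := by
        rw [← apply_one_eq_deg]; exact congrArg (θ : Z → ℂ) i.map_one
      rw [h'] at h
      exact_mod_cast h
    refine ⟨a, ha, ?_, hdeg⟩
    obtain ⟨b, -, -, hb⟩ := eq_smul (T := H) Z (ψ := χ) (θ := θ)
      (fun φ' h => Ramified.over_unique he hres φ' h) T hZT φ hφ
    have h := congrFun hb 1
    have hχ1 : (χ : H → ℂ) 1 = (e : ℂ) * (deg θ : ℂ) := by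
      rw [← apply_one_eq_deg θ, ← hres 1, Subgroup.coe_one]
    rw [indFun_one, Pi.smul_apply, smul_eq_mul, hχ1, apply_one_eq_deg, hdeg] at h
    have h' : T.index * (a * deg θ) = b * (e * deg θ) := by exact_mod_cast h
    have hθpos : 0 < deg θ := by
      rw [Nat.pos_iff_ne_zero]; intro h0
      have := apply_one_ne_zero θ
      rw [apply_one_eq_deg, h0] at this
      exact this (by simp)
    have h'' : T.index * a = b * e := Nat.eq_of_mul_eq_mul_right hθpos (by linarith)
    have hdvd : p ^ m ∣ T.index * a := h'' ▸ Dvd.dvd.mul_left (hee ▸ Dvd.intro e' rfl) b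
    exact Nat.le_of_dvd (Nat.pos_of_ne_zero ha0)
      ((Nat.Coprime.pow_left m (hp.out.coprime_iff_not_dvd.2 hidx)).dvd_of_dvd_mul_left hdvd)
  -- existence and uniqueness
  have hnorm : Cfsg.classInner (Cfsg.indFun Z' (θ' : Z' → ℂ)) (Cfsg.indFun Z' (θ' : Z' → ℂ)) =
      ((p ^ (2 * m) : ℕ) : ℂ) := by
    rw [Lib.Clifford.Gallagher.classInner_indFun_self Z' θ'
      (fun g => congrArg Subtype.val (hinvθ g)), ← hkm, ← hTZ]
    rfl
  haveI := Fintype.ofFinite (Cfsg.IrrCharacter T)
  have hIchar := Cfsg.Agent.Lib.Induced.Character.isCharacter_indFun Z' (isCharacter_irr θ')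
  choose a ha using fun φ => exists_classInner_nat hIchar (isCharacter_irr (G := T) φ)
  have hsum : ∑ φ, a φ * a φ = p ^ (2 * m) := by
    conv_lhs at hnorm => arg 1; rw [character_eq_finsum hIchar, finsum_eq_sum_of_fintype]
    rw [classInner_sum_left] at hnorm
    have e1 : ∀ φ : Cfsg.IrrCharacter T,
        Cfsg.classInner (Cfsg.classInner (Cfsg.indFun Z' (θ' : Z' → ℂ)) φ • (φ : T → ℂ))
          (Cfsg.indFun Z' (θ' : Z' → ℂ)) = ((a φ * a φ : ℕ) : ℂ) := fun φ => by
      rw [classInner_smul_left, ← classInner_conj_symm (Cfsg.indFun Z' (θ' : Z' → ℂ)) φ, ha, map_natCast,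
        Nat.cast_mul]
    rw [Finset.sum_congr rfl fun φ _ => e1 φ] at hnorm
    exact_mod_cast hnorm
  have ha' : ∀ φ : Cfsg.IrrCharacter T,
      Cfsg.classInner (fun z : Z' => (φ : T → ℂ) z) θ' = a φ := fun φ => by
    rw [← frobenius_reciprocity' Z' _ (isClassFunction_irr φ), ← classInner_conj_symm, ha,
      map_natCast]
  have hge : ∀ φ, a φ ≠ 0 → p ^ m ≤ a φ := by
    intro φ h
    obtain ⟨b, hb, hb', -⟩ := hbig φ (by rw [hover, ha']; exact_mod_cast h)
    rw [ha'] at hb
    have : a φ = b := by exact_mod_cast hb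
    omega
  have hpp : p ^ (2 * m) = p ^ m * p ^ m := by rw [two_mul, pow_add]
  obtain ⟨ψ, hψ⟩ : ∃ ψ, a ψ ≠ 0 := by
    by_contra h
    push Not at h
    simp [h] at hsum
    exact absurd hsum.symm (pow_ne_zero _ hp.out.ne_zero)
  have hsplit := Finset.add_sum_erase Finset.univ (fun φ => a φ * a φ) (Finset.mem_univ ψ)
  simp only [hsum, hpp] at hsplit
  have hψa : a ψ = p ^ m := by
    have h1 := hge ψ hψ
    by_contra hne
    have : p ^ m * p ^ m < a ψ * a ψ := Nat.mul_self_lt_mul_self (lt_of_le_of_ne h1 (Ne.symm hne))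
    omega
  refine ⟨ψ, m, e', hee, he', ?_, fun φ hφ => ?_⟩
  · obtain ⟨b, hb, -, hdeg⟩ := hbig ψ (by rw [hover, ha']; exact_mod_cast hψ)
    rw [ha'] at hb
    have : b = p ^ m := by rw [← hψa]; exact_mod_cast hb.symm
    rw [hdeg, this]
  · by_contra hne
    rw [hover, ha', Nat.cast_ne_zero] at hφ
    have h2 := Finset.single_le_sum (f := fun φ => a φ * a φ) (fun φ _ => Nat.zero_le _)
      (Finset.mem_erase.2 ⟨hne, Finset.mem_univ φ⟩ : φ ∈ Finset.univ.erase ψ)
    rw [hψa] at hsplit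
    have := Nat.mul_le_mul (hge φ hφ) (hge φ hφ)
    have : 0 < p ^ m * p ^ m := Nat.mul_pos (pow_pos hp.out.pos m) (pow_pos hp.out.pos m)
    omega

/-- The complement statement, given triviality of inertia groups. -/
theorem exists_index_eq (K : Subgroup H) [hK : K.Normal] (hZK : Z ≤ K) (p : ℕ) [hp : Fact p.Prime]
    (hstab : ∀ (T : Subgroup H) (hZT : Z ≤ T) (m e' : ℕ) [Fintype T] [Fintype (K.subgroupOf T)]
      (ψ : Cfsg.IrrCharacter T)
      (η : Cfsg.IrrCharacter (K.subgroupOf T))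
      (_ : ∀ φ : Cfsg.IrrCharacter T,
        Cfsg.classInner ((φ : T → ℂ) ∘ Subgroup.inclusion hZT) θ ≠ 0 → φ = ψ)
      (_ : ¬ p ∣ T.index) (_ : ∃ k, Z.relIndex T = p ^ k) (_ : e = p ^ m * e') (_ : ¬ p ∣ e')
      (_ : deg ψ = p ^ m * deg θ)
      (_ : Cfsg.classInner ((η : K.subgroupOf T → ℂ) ∘
        ((Subgroup.inclusion hZT).codRestrict (K.subgroupOf T) fun z => hZK z.2)) θ ≠ 0)
      (t : T), conjIrr (K.subgroupOf T) η t = η → (t : H) ∈ K) :
    ∃ M : Subgroup (H ⧸ K), M.index = p ^ (Nat.card (H ⧸ K)).factorization p ∧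
      ¬ p ∣ Nat.card M := by
  classical
  let π := QuotientGroup.mk' Z
  have hπ : Function.Surjective π := QuotientGroup.mk'_surjective Z
  obtain ⟨T₀⟩ : Nonempty (Sylow p (H ⧸ Z)) := inferInstance
  let T : Subgroup H := (T₀ : Subgroup (H ⧸ Z)).comap π
  haveI := Fintype.ofFinite T
  have hZT : Z ≤ T := fun z hz => by
    change π z ∈ (T₀ : Subgroup (H ⧸ Z))
    rw [show π z = 1 from (QuotientGroup.eq_one_iff z).2 hz]; exact one_mem _
  have hTidx : ¬ p ∣ T.index := by
    rw [Subgroup.index_comap_of_surjective _ hπ]; exact T₀.not_dvd_index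
  obtain ⟨k, hk⟩ : ∃ k, Z.relIndex T = p ^ k := by
    obtain ⟨k, hk⟩ := IsPGroup.iff_card.1 T₀.isPGroup'
    refine ⟨k, Nat.eq_of_mul_eq_mul_right (Nat.pos_of_ne_zero T.index_ne_zero_of_finite) ?_⟩
    rw [Subgroup.relIndex_mul_index hZT, ← hk, Subgroup.index_comap_of_surjective _ hπ,
      Subgroup.card_mul_index, Subgroup.index_eq_card]
  obtain ⟨ψ, m, e', hee, he', hψ, huniq⟩ := sylow_level he hres p T hZT hTidx hk
  -- the Sylow preimage in K
  let K₀ : Subgroup (H ⧸ Z) := K.map π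
  haveI : K₀.Normal := hK.map π hπ
  have hKc : K₀.comap π = K :=
    Subgroup.comap_map_eq_self (by rw [QuotientGroup.ker_mk']; exact hZK)
  let P : Subgroup H := T ⊓ K
  haveI := Fintype.ofFinite P
  have hZP : Z ≤ P := le_inf hZT hZK
  let N : Subgroup H := Subgroup.normalizer (P : Set H)
  haveI := Fintype.ofFinite N
  haveI hPN : (P.subgroupOf N).Normal := Subgroup.normal_in_normalizer
  have hTN : T ≤ N := by
    intro t ht
    rw [Subgroup.mem_normalizer_iff]
    intro x
    constructor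
    · intro hx
      exact ⟨T.mul_mem (T.mul_mem ht hx.1) (T.inv_mem ht), hK.conj_mem _ hx.2 t⟩
    · intro hx
      refine ⟨?_, ?_⟩
      · have := T.mul_mem (T.mul_mem (T.inv_mem ht) hx.1) ht
        simpa [mul_assoc] using this
      · have := hK.conj_mem _ hx.2 t⁻¹
        simpa [mul_assoc] using this
  -- Sylow subgroup of K/Z
  obtain ⟨Q, hQ⟩ : ∃ Q : Sylow p K₀, (Q : Subgroup K₀).map K₀.subtype = K₀ ⊓ T₀ := by
    have hPg : IsPGroup p ((T₀ : Subgroup (H ⧸ Z)).subgroupOf K₀) := T₀.isPGroup'.comap_subtype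
    have hnd : ¬ p ∣ ((T₀ : Subgroup (H ⧸ Z)).subgroupOf K₀).index := by
      intro h
      apply T₀.not_dvd_index
      refine h.trans ?_
      have h1 := Subgroup.relIndex_mul_index (H := (T₀ : Subgroup (H ⧸ Z)))
        (le_sup_left (b := K₀))
      rw [← h1]
      refine dvd_mul_of_dvd_left (dvd_of_eq ?_) _
      change (T₀ : Subgroup (H ⧸ Z)).relIndex K₀ = (T₀ : Subgroup (H ⧸ Z)).relIndex (↑T₀ ⊔ K₀)
      have a1 := Subgroup.relIndex_mul_index (H := (T₀ : Subgroup (H ⧸ Z)) ⊓ K₀)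
        (inf_le_right : (T₀ : Subgroup (H ⧸ Z)) ⊓ K₀ ≤ K₀)
      have a2 := Subgroup.relIndex_mul_index (H := (T₀ : Subgroup (H ⧸ Z)) ⊓ K₀)
        (inf_le_left : (T₀ : Subgroup (H ⧸ Z)) ⊓ K₀ ≤ T₀)
      rw [Subgroup.inf_relIndex_right] at a1
      rw [Subgroup.inf_relIndex_left, ← Subgroup.relIndex_sup_right (H := (T₀ : Subgroup (H ⧸ Z)))
        (K := K₀)] at a2
      have a3 := Subgroup.relIndex_mul_index
        (le_sup_right : K₀ ≤ (T₀ : Subgroup (H ⧸ Z)) ⊔ K₀)
      rw [← a3, ← a2, ← h1] at a1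
      have h0 : 0 < K₀.relIndex (↑T₀ ⊔ K₀) * ((T₀ : Subgroup (H ⧸ Z)) ⊔ K₀).index :=
        Nat.mul_pos (Nat.pos_of_ne_zero Subgroup.index_ne_zero_of_finite)
          (Nat.pos_of_ne_zero Subgroup.index_ne_zero_of_finite)
      exact Nat.eq_of_mul_eq_mul_right h0 (by rw [a1]; ring)
    exact ⟨hPg.toSylow hnd, by rw [IsPGroup.toSylow_coe, Subgroup.subgroupOf_map_subtype, inf_comm]⟩
  have hKN : K ⊔ N = ⊤ := by
    have hfr := Sylow.normalizer_sup_eq_top Q
    rw [hQ] at hfr
    have hPeq : (K₀ ⊓ (T₀ : Subgroup (H ⧸ Z))).comap π = P := by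
      rw [Subgroup.comap_inf, hKc, inf_comm]
    have hN : (Subgroup.normalizer ((K₀ ⊓ T₀ : Subgroup (H ⧸ Z)) : Set (H ⧸ Z))).comap π = N := by
      rw [Subgroup.comap_normalizer_eq_of_surjective _ hπ, hPeq]
    have h := congrArg (Subgroup.comap π) hfr
    rw [← Subgroup.comap_sup_eq _ _ _ hπ, hN, hKc, Subgroup.comap_top, sup_comm] at h
    exact h
  have hKP : ¬ p ∣ P.relIndex K := by
    intro h
    apply Q.not_dvd_index
    have h1 : P.relIndex K = (K₀ ⊓ (T₀ : Subgroup (H ⧸ Z))).relIndex K₀ := by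
      conv_lhs => rw [show P = (K₀ ⊓ (T₀ : Subgroup (H ⧸ Z))).comap π by
        rw [Subgroup.comap_inf, hKc, inf_comm]]
      rw [Subgroup.relIndex_comap]
    rw [h1, ← hQ] at h
    rwa [show ((Q : Subgroup K₀).map K₀.subtype).relIndex K₀ = (Q : Subgroup K₀).index by
      rw [Subgroup.relIndex, Subgroup.subgroupOf, Subgroup.comap_map_eq_self_of_injective
        K₀.subtype_injective]] at h
  -- action of N on the characters of P over θ
  let Ω := {φ : Cfsg.IrrCharacter P //
    Cfsg.classInner ((φ : P → ℂ) ∘ Subgroup.inclusion hZP) θ ≠ 0}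
  let cj : N → (P →* P) := fun u =>
    { toFun := fun x => ⟨u * x * (u : H)⁻¹, (Subgroup.mem_normalizer_iff.1 u.2 x).1 x.2⟩
      map_one' := Subtype.ext (by simp)
      map_mul' := fun a b => Subtype.ext (by simp [mul_assoc]) }
  have hcj : ∀ u, Function.Surjective (cj u) := fun u x =>
    ⟨⟨(u : H)⁻¹ * x * u, (Subgroup.mem_normalizer_iff.1 u.2 _).2 (by simp [mul_assoc])⟩,
      Subtype.ext (by simp [cj, mul_assoc])⟩
  let sm : N → Ω → Ω := fun u φ => ⟨pull (cj u⁻¹) (hcj u⁻¹) φ.1, by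
    have h : ((pull (cj u⁻¹) (hcj u⁻¹) φ.1 : P → ℂ) ∘ Subgroup.inclusion hZP) =
        ((φ.1 : P → ℂ) ∘ Subgroup.inclusion hZP) ∘ (MulAut.conjNormal ((u : H)⁻¹) : MulAut Z) := by
      funext z
      refine congrArg (φ.1 : P → ℂ) (Subtype.ext ?_)
      simp [cj]
    have hθ : (θ : Z → ℂ) ∘ (MulAut.conjNormal ((u : H)⁻¹) : MulAut Z) = (θ : Z → ℂ) :=
      congrArg Subtype.val (Ramified.invariant he hres (u : H)⁻¹)
    have h2 := classInner_comp_equiv (MulAut.conjNormal ((u : H)⁻¹) : MulAut Z)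
      ((φ.1 : P → ℂ) ∘ Subgroup.inclusion hZP) (θ : Z → ℂ)
    rw [hθ] at h2
    rw [h, h2]
    exact φ.2⟩
  letI : MulAction N Ω :=
    { smul := sm
      one_smul := fun φ => Subtype.ext (Subtype.ext (funext fun x =>
        congrArg (φ.1 : P → ℂ) (Subtype.ext (by simp [cj]))))
      mul_smul := fun a b φ => Subtype.ext (Subtype.ext (funext fun x =>
        congrArg (φ.1 : P → ℂ) (Subtype.ext (by simp [cj, mul_assoc])))) }
  -- transfer to the T-level
  let P'' : Subgroup T := K.subgroupOf T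
  haveI := Fintype.ofFinite P''
  let ι : P'' ≃* P :=
    { toFun := fun x => ⟨x.1.1, x.1.2, x.2⟩
      invFun := fun x => ⟨⟨x.1, x.2.1⟩, x.2.2⟩
      left_inv := fun _ => rfl
      right_inv := fun _ => rfl
      map_mul' := fun _ _ => rfl }
  let up : Cfsg.IrrCharacter P → Cfsg.IrrCharacter P'' := fun φ => pull ι.toMonoidHom ι.surjective φ
  let Z'' : Subgroup T := Z.subgroupOf T
  haveI := Fintype.ofFinite Z''
  let jz : Z →* P'' := (Subgroup.inclusion hZT).codRestrict P'' fun z => hZK z.2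
  have hup : ∀ φ : Ω, Cfsg.classInner ((up φ.1 : P'' → ℂ) ∘ jz) θ ≠ 0 := fun φ => φ.2
  have hupinj : Function.Injective up := fun a b hab => Subtype.ext
    (ι.surjective.injective_comp_right (congrArg Subtype.val hab))
  let tN : T →* N := Subgroup.inclusion hTN
  have hcompat : ∀ (t : T) (φ : Ω), up (tN t • φ).1 = conjIrr P'' (up φ.1) t⁻¹ := fun t φ =>
    Subtype.ext (funext fun x => congrArg (φ.1 : P → ℂ) (Subtype.ext (by
      simp [cj, ι, tN])))
  obtain ⟨φ₀⟩ : Nonempty Ω := by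
    haveI := Fintype.ofFinite (Cfsg.IrrCharacter P'')
    by_contra hemp
    rw [not_nonempty_iff] at hemp
    obtain ⟨η, hη⟩ := Lib.BC78.Clifford.exists_constituent P'' ψ
    have hψθ : Cfsg.classInner ((ψ : T → ℂ) ∘ Subgroup.inclusion hZT) θ ≠ 0 := by
      obtain ⟨φ', hφ'⟩ : ∃ φ' : Cfsg.IrrCharacter T,
          Cfsg.classInner ((φ' : T → ℂ) ∘ Subgroup.inclusion hZT) θ ≠ 0 := by
        obtain ⟨φ', h1⟩ := Lib.Clifford.Basic.exists_constituent
          (isCharacter_comp T.subtype (isCharacter_irr χ))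
          (fun h => apply_one_ne_zero χ (congrFun h 1))
        obtain ⟨θ₁, hθ₁⟩ := Lib.Clifford.Basic.exists_constituent
          (isCharacter_comp (Subgroup.inclusion hZT) (isCharacter_irr φ'))
          (fun h => apply_one_ne_zero φ' (by simpa using congrFun h 1))
        have h2 := inner_ne_zero_comp (Subgroup.inclusion hZT)
          (isCharacter_comp T.subtype (isCharacter_irr χ)) φ' (isCharacter_irr θ₁) h1 hθ₁
        have : θ₁ = θ := by
          by_contra hne
          apply h2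
          rw [show ((χ : H → ℂ) ∘ T.subtype) ∘ Subgroup.inclusion hZT = (e : ℂ) • (θ : Z → ℂ) from
            funext hres, classInner_smul_left, classInner_irr_of_ne (Ne.symm hne), mul_zero]
        exact ⟨φ', this ▸ hθ₁⟩
      rwa [huniq φ' hφ'] at hφ'
    -- a constituent on P'' over θ
    have hd := character_eq_finsum (isCharacter_comp P''.subtype (isCharacter_irr ψ))
    rw [finsum_eq_sum_of_fintype] at hd
    apply hψθ
    have e1 : (ψ : T → ℂ) ∘ Subgroup.inclusion hZT = ∑ η : Cfsg.IrrCharacter P'',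
        Cfsg.classInner ((ψ : T → ℂ) ∘ P''.subtype) η • ((η : P'' → ℂ) ∘ jz) := by
      funext z
      have := congrFun hd (jz z)
      simp only [Finset.sum_apply, Pi.smul_apply, smul_eq_mul, Function.comp_apply] at this ⊢
      exact this
    rw [e1, classInner_sum_left]
    refine Finset.sum_eq_zero fun η _ => ?_
    rw [classInner_smul_left]
    by_cases h0 : Cfsg.classInner ((η : P'' → ℂ) ∘ jz) θ = 0
    · rw [h0, mul_zero]
    · exact (hemp.false ⟨pull ι.symm.toMonoidHom ι.symm.surjective η, h0⟩).elim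
  -- single orbit of T
  haveI : P''.Normal := hK.subgroupOf T
  haveI : Z''.Normal := hZ.subgroupOf T
  have hZP'' : Z'' ≤ P'' := fun z hz => hZK hz
  let iz : Z'' ≃* Z := Subgroup.subgroupOfEquivOfLe hZT
  have huniq'' : ∀ φ : Cfsg.IrrCharacter T,
      Cfsg.classInner ((φ : T → ℂ) ∘ Z''.subtype) (pull iz.toMonoidHom iz.surjective θ) ≠ 0 →
      φ = ψ := fun φ h => huniq φ (by
        rw [← classInner_comp_equiv iz]
        exact h)
  have htrans : ∀ φ : Ω, ∃ t : T, tN t • φ₀ = φ := by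
    intro φ
    have conv : ∀ a : Ω, Cfsg.classInner ((up a.1 : P'' → ℂ) ∘ Subgroup.inclusion hZP'')
        (pull iz.toMonoidHom iz.surjective θ) ≠ 0 := fun a => by
      have := hup a
      rw [← classInner_comp_equiv iz] at this
      exact this
    obtain ⟨t, ht⟩ := exists_conj Z'' P'' hZP'' huniq'' (up φ₀.1) (up φ.1) (conv φ₀) (conv φ)
    refine ⟨t⁻¹, Subtype.ext (hupinj ?_)⟩
    rw [hcompat, inv_inv, ht]
  let S := MulAction.stabilizer N φ₀
  have hSidx : S.index = P''.index := by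
    haveI : MulAction.IsPretransitive N Ω := ⟨fun a b => by
      obtain ⟨s, hs⟩ := htrans a
      obtain ⟨t, ht⟩ := htrans b
      exact ⟨tN t * (tN s)⁻¹, by rw [mul_smul, ← hs, inv_smul_smul, ht]⟩⟩
    rw [MulAction.index_stabilizer_of_transitive N φ₀]
    have hstab' : ∀ t : T, tN t • φ₀ = φ₀ ↔ t ∈ P'' := by
      intro t
      constructor
      · intro ht
        have h1 : conjIrr P'' (up φ₀.1) t⁻¹ = up φ₀.1 := by rw [← hcompat, ht]
        have h2 := hstab T hZT m e' ψ (up φ₀.1) huniq hTidx ⟨k, hk⟩ hee he' hψ (hup φ₀) t⁻¹ h1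
        simpa [P'', Subgroup.mem_subgroupOf] using K.inv_mem h2
      · intro ht
        exact Subtype.ext (hupinj (by rw [hcompat, conjIrr_mem P'' (up φ₀.1) (inv_mem ht)]))
    let g : T ⧸ P'' → Ω := fun q => tN q.out • φ₀
    have hg : Function.Bijective g := by
      constructor
      · intro a b hab
        have hab' : tN a.out • φ₀ = tN b.out • φ₀ := hab
        have : tN (a.out⁻¹ * b.out) • φ₀ = φ₀ := by
          rw [map_mul, map_inv, mul_smul, ← hab', inv_smul_smul]
        rw [← Quotient.out_eq a, ← Quotient.out_eq b]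
        exact QuotientGroup.eq.2 ((hstab' _).1 this)
      · intro φ
        obtain ⟨t, ht⟩ := htrans φ
        refine ⟨(t : T ⧸ P''), ?_⟩
        obtain ⟨x, hx⟩ := QuotientGroup.mk_out_eq_mul P'' t
        change tN (t : T ⧸ P'').out • φ₀ = φ
        rw [hx, map_mul, mul_smul, (hstab' _).2 x.2, ht]
    rw [Subgroup.index_eq_card P'', Nat.card_congr (Equiv.ofBijective g hg)]
  -- N ∩ K fixes φ₀
  let KN : Subgroup N := K.subgroupOf N
  haveI : KN.Normal := hK.subgroupOf N
  obtain ⟨l, hl⟩ : ∃ l, P''.index = p ^ l := by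
    have : P''.index ∣ p ^ k := by
      rw [← hk]
      exact Subgroup.index_dvd_of_le (hZP'' : Z'' ≤ P'')
    obtain ⟨l, -, hl⟩ := (Nat.dvd_prime_pow hp.out).1 this
    exact ⟨l, hl⟩
  have hKNS : KN ≤ S := by
    have hPS : P.subgroupOf N ≤ S := fun u hu => Subtype.ext (Subtype.ext (funext fun x => by
      refine (congrArg (φ₀.1 : P → ℂ) (Subtype.ext ?_)).trans
        (isClassFunction_irr φ₀.1 x (⟨(u : H)⁻¹, P.inv_mem hu⟩ : P))
      simp [cj]))
    have h1 : S.relIndex KN ∣ (P.subgroupOf N).relIndex KN := Subgroup.relIndex_dvd_of_le_left KN hPS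
    have h2 : (P.subgroupOf N).relIndex KN ∣ P.relIndex K := by
      have hx : (P.subgroupOf N).relIndex KN = P.relIndex (K ⊓ N) := by
        conv_lhs => rw [show KN = (K ⊓ N).subgroupOf N by
          ext u; simp [KN, Subgroup.mem_subgroupOf, u.2]]
        rw [Subgroup.relIndex_subgroupOf inf_le_right]
      rw [hx, ← Subgroup.relIndex_mul_relIndex P (K ⊓ N) K
        (le_inf inf_le_right (le_trans inf_le_left hTN)) inf_le_left]
      exact Dvd.intro _ rfl
    have h3 : S.relIndex KN ∣ S.index := by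
      have a1 := Subgroup.relIndex_mul_index (H := S ⊓ KN) (inf_le_right : S ⊓ KN ≤ KN)
      have a2 := Subgroup.relIndex_mul_index (H := S ⊓ KN) (inf_le_left : S ⊓ KN ≤ S)
      rw [Subgroup.inf_relIndex_right] at a1
      rw [Subgroup.inf_relIndex_left] at a2
      have a3 : KN.relIndex S ∣ KN.index := Subgroup.relIndex_dvd_index_of_normal KN S
      refine Nat.dvd_of_mul_dvd_mul_right (Nat.pos_of_ne_zero KN.index_ne_zero_of_finite) ?_
      rw [a1, ← a2, mul_comm S.index]
      exact mul_dvd_mul_right a3 _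
    rw [hSidx, hl] at h3
    have hnd : ¬ p ∣ S.relIndex KN := fun h => hKP (h.trans (h1.trans h2))
    have h4 : S.relIndex KN = 1 :=
      Nat.eq_one_of_dvd_coprimes
        (Nat.Coprime.pow_left l (hp.out.coprime_iff_not_dvd.2 hnd)) h3 dvd_rfl
    exact Subgroup.relIndex_eq_one.1 h4
  -- the image in H/K
  let q := (QuotientGroup.mk' K).comp N.subtype
  have hq : Function.Surjective q := by
    intro y
    obtain ⟨h, rfl⟩ := QuotientGroup.mk'_surjective K y
    have : h ∈ ((K ⊔ N : Subgroup H) : Set H) := by rw [hKN]; trivial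
    rw [Subgroup.normal_mul] at this
    obtain ⟨x, hx, n, hn, rfl⟩ := Set.mem_mul.1 this
    exact ⟨⟨n, hn⟩, by
      change QuotientGroup.mk' K n = _
      rw [map_mul, show QuotientGroup.mk' K x = 1 from (QuotientGroup.eq_one_iff x).2 hx, one_mul]⟩
  have hqker : q.ker ≤ S := fun u hu => hKNS ((QuotientGroup.eq_one_iff (u : H)).1 hu)
  let M := S.map q
  have hMidx : M.index = p ^ l := by
    rw [Subgroup.index_map_eq S hq hqker, hSidx, hl]
  refine ⟨M, ?_, ?_⟩
  all_goals
    have hcard := Subgroup.card_mul_index M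
    rw [hMidx] at hcard
    have hnd : ¬ p ∣ Nat.card M := by
      have h1 : Nat.card (H ⧸ K) * P.relIndex K * Z.relIndex P = Z.index := by
        rw [← Subgroup.index_eq_card, mul_assoc, mul_comm (P.relIndex K),
          Subgroup.relIndex_mul_relIndex Z P K hZP inf_le_right, mul_comm,
          Subgroup.relIndex_mul_index hZK]
      have h2 : T.index * P''.index * Z.relIndex P = Z.index := by
        rw [mul_assoc, mul_comm T.index, show P''.index = P.relIndex T by
          rw [Subgroup.inf_relIndex_left]; rfl, mul_comm (P.relIndex T),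
          Subgroup.relIndex_mul_relIndex Z P T hZP inf_le_left, Subgroup.relIndex_mul_index hZT]
      have h3 : Nat.card (H ⧸ K) * P.relIndex K = T.index * p ^ l := by
        rw [← hl]
        exact Nat.eq_of_mul_eq_mul_right (Nat.pos_of_ne_zero Subgroup.index_ne_zero_of_finite)
          (h1.trans h2.symm)
      rw [← hcard] at h3
      have h4 : Nat.card M * P.relIndex K = T.index :=
        Nat.eq_of_mul_eq_mul_right (pow_pos hp.out.pos l) (by rw [← h3]; ring)
      exact fun h => hTidx (h4 ▸ h.mul_right _)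
  · have hf : (Nat.card (H ⧸ K)).factorization p = l := by
      rw [← hcard, Nat.factorization_mul Nat.card_pos.ne' (pow_ne_zero _ hp.out.ne_zero)]
      rw [Finsupp.add_apply, Nat.factorization_eq_zero_of_not_dvd hnd, Nat.factorization_pow]
      simp [hp.out.factorization_self]
    rw [hMidx, hf]
  · exact hnd

end Cfsg.Agent.Lib.BC78.RamifiedComplement
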