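import Cfsg.Agent.Lib.BC78.SectionMeans

/-!
# The contributions of a major subsection

At a section of a `p`-element `x` and a block `b` of `C(x)` of the defect of `B`, the contribution
of `χ` against `ψ` is divisible by `p` to the height of `χ`, and the quotient is proportional to
the `p'`-parts of the degrees modulo the local ideal.
-/

set_option autoImplicit false
set_option linter.unusedSectionVars false

namespace Cfsg.Agent.Lib.BC78.SectionMajor

open scoped ComplexConjugate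
open Cfsg.Agent.Lib.Characters.Basic Cfsg.Agent.Lib.Blocks Cfsg.Agent.Lib.Blocks.Contrib
open Cfsg.Agent.Lib.Blocks.SectionMatrix Cfsg.Agent.Lib.Blocks.SectionPart
open Cfsg.Agent.Lib.Induced.Basic Cfsg.Agent.Lib.BrauerMap.PrincipalSection

universe u

variable {G : Type u} [Group G] [Fintype G] {p : ℕ} [Fact p.Prime] {M : Ideal Cfsg.AlgInt}
  [M.IsMaximal] {H : Subgroup G} [Fintype H] {b : Set (Cfsg.IrrCharacter H)}

/-- The conjugate of the part in `b` of `ψ` on the section of `x`, as a function on `H`. -/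
noncomputable def g0 (p : ℕ) (b : Set (Cfsg.IrrCharacter H)) (x : H) (ψ : Cfsg.IrrCharacter G)
    (c : H) : ℂ :=
  if p ∣ orderOf (x⁻¹ * c) then 0 else
    ∑ θ ∈ bset b, conj (acoef x ψ θ) * (θ : H → ℂ) (x⁻¹ * c)⁻¹

theorem isClassFunction_g0 {x : H} (hx : ∀ c, Commute x c) (ψ : Cfsg.IrrCharacter G) (c v : H) :
    g0 p b x ψ (v * c * v⁻¹) = g0 p b x ψ c := by
  have e : x⁻¹ * (v * c * v⁻¹) = v * (x⁻¹ * c) * v⁻¹ := by
    rw [← mul_assoc, ← mul_assoc, ((hx v).inv_left).eq, ← mul_assoc]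
  simp only [g0, e]
  rw [show orderOf (v * (x⁻¹ * c) * v⁻¹) = orderOf (x⁻¹ * c) from (MulAut.conj v).orderOf_eq _]
  split_ifs
  · rfl
  refine Finset.sum_congr rfl fun θ _ => congrArg _ ?_
  rw [show (v * (x⁻¹ * c) * v⁻¹)⁻¹ = v * (x⁻¹ * c)⁻¹ * v⁻¹ by simp [mul_assoc]]
  exact isClassFunction_irr θ _ v

theorem isIntegral_g0 {x : H} (hx : ∀ c, Commute x c) (ψ : Cfsg.IrrCharacter G) (c : H) :
    IsIntegral ℤ (g0 p b x ψ c) := by
  simp only [g0]
  split_ifs
  · exact isIntegral_zero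
  refine IsIntegral.sum _ fun θ _ => IsIntegral.mul ?_ (isIntegral_apply (isCharacter_irr θ) _)
  rw [acoef, map_mul, map_natCast, conj_lam hx]
  refine (isIntegral_algebraMap (x := (mult H ψ θ : ℤ))).mul (IsIntegral.of_pow (orderOf_pos x) ?_)
  rw [inv_pow, lam_pow hx (pow_orderOf_eq_one x), inv_one]
  exact isIntegral_one

/-- The class function of `G` carried by the section. -/
theorem indFun_g0_mem {x : H} (hx : Pelt p x) (ψ : Cfsg.IrrCharacter G) (g : G) :
    Cfsg.indFun H (g0 p b x ψ) g ∈ localRing M := by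
  classical
  by_cases hne : ∀ v : G, Cfsg.extendByZero H (g0 p b x ψ) (v⁻¹ * g * v) = 0
  · rw [Cfsg.indFun, Finset.sum_eq_zero fun v _ => hne v, mul_zero]
    exact zero_mem _
  push Not at hne
  obtain ⟨v₀, hv₀⟩ := hne
  have hcrit : ∀ v : G, Cfsg.extendByZero H (g0 p b x ψ) (v⁻¹ * g * v) ≠ 0 →
      Cfsg.IsPPart p (v⁻¹ * g * v) (x : G) := by
    intro v hv
    have hm : v⁻¹ * g * v ∈ H := by
      by_contra hm
      exact hv (extendByZero_of_not_mem _ _ hm)
    rw [extendByZero_of_mem _ _ hm] at hv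
    have hreg : ¬ p ∣ orderOf (x⁻¹ * (⟨_, hm⟩ : H)) := fun h => hv (by simp only [g0, if_pos h])
    have h := isPPart_mul hx.pow (s := ((x⁻¹ * (⟨_, hm⟩ : H) : H) : G))
      (by rwa [Subgroup.orderOf_coe]) (commute_of_mem hx.eq (x⁻¹ * (⟨_, hm⟩ : H)).2)
    simpa using h
  have hm₀ : v₀⁻¹ * g * v₀ ∈ H := by
    by_contra hm
    exact hv₀ (extendByZero_of_not_mem _ _ hm)
  rw [Cfsg.indFun, Finset.sum_congr rfl fun v _ => show
      Cfsg.extendByZero H (g0 p b x ψ) (v⁻¹ * g * v) =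
        if v₀⁻¹ * v ∈ H then g0 p b x ψ ⟨_, hm₀⟩ else 0 from ?_,
    ← Finset.sum_filter, Finset.sum_const, nsmul_eq_mul, ← mul_assoc]
  · have hcard : (Finset.univ.filter fun v : G => v₀⁻¹ * v ∈ H).card = Nat.card H := by
      rw [← Fintype.card_subtype, ← Nat.card_eq_fintype_card]
      exact Nat.card_congr ((Equiv.mulLeft v₀⁻¹).subtypeEquiv fun v => Iff.rfl)
    rw [hcard, inv_mul_cancel₀ natCard_ne_zero, one_mul]
    exact mem_localRing_of_isIntegral (isIntegral_g0 hx.commute ψ _)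
  · split_ifs with hv
    · have e : v⁻¹ * g * v = (v₀⁻¹ * v)⁻¹ * (v₀⁻¹ * g * v₀) * (v₀⁻¹ * v) := by group
      rw [e, ← inv_inv (v₀⁻¹ * v), inv_inv (v₀⁻¹ * v)⁻¹]
      rw [extendByZero_of_mem _ _
        (H.mul_mem (H.mul_mem (H.inv_mem hv) hm₀) (by rw [inv_inv]; exact hv))]
      rw [← isClassFunction_g0 hx.commute ψ ⟨_, hm₀⟩ (⟨_, hv⟩ : H)⁻¹]
      exact congrArg _ (Subtype.ext (by simp))
    · by_contra h
      apply hv
      have h1 := hcrit v h
      have h2 := isPPart_conj (hcrit v₀ hv₀) (v₀⁻¹ * v)⁻¹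
      have e : (v₀⁻¹ * v)⁻¹ * (v₀⁻¹ * g * v₀) * ((v₀⁻¹ * v)⁻¹)⁻¹ = v⁻¹ * g * v := by group
      rw [e] at h2
      have h3 := isPPart_unique Fact.out h1 h2
      rw [hx.eq, Cfsg.Agent.Lib.BrauerMap.SecondMain.mem_centralizer_zpowers_iff]
      show v₀⁻¹ * v * x = x * (v₀⁻¹ * v)
      conv_lhs => rw [h3]
      group

variable (hM : Cfsg.IsPModular p M)

include hM in
/-- The pairing of the class function of the section with `χ`. -/
theorem sum_indFun_g0 {x : H} (hx : Pelt p x) (hb : Cfsg.IsPBlock M b)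
    (χ ψ : Cfsg.IrrCharacter G) :
    ∑ g : G, Cfsg.indFun H (g0 p b x ψ) g * (χ : G → ℂ) g =
      (H.index : ℂ) * ((primeToCard p H : ℂ) * (p : ℂ) ^ minVdeg p b) * cX p b x χ ψ := by
  classical
  haveI := Fintype.ofFinite (Cfsg.IrrCharacter H)
  rw [sum_indFun_mul H _ (isClassFunction_irr χ), mul_assoc]
  congr 1
  calc ∑ c : H, g0 p b x ψ c * (χ : G → ℂ) c
      = ∑ s : H, ∑ θ ∈ bset b, conj (acoef x ψ θ) *
          (if p ∣ orderOf s then 0 else (χ : G → ℂ) ((x : G) * (s : G)) * (θ : H → ℂ) s⁻¹) := by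
        refine Fintype.sum_equiv (Equiv.mulLeft x⁻¹) _ _ fun c => ?_
        rw [show (Equiv.mulLeft x⁻¹) c = x⁻¹ * c from rfl,
          show (x : G) * ((x⁻¹ * c : H) : G) = (c : G) by simp]
        by_cases hs : p ∣ orderOf (x⁻¹ * c)
        · simp [g0, hs]
        · simp only [g0, if_neg hs]
          rw [Finset.sum_mul]
          exact Finset.sum_congr rfl fun θ _ => by ring
    _ = ∑ θ ∈ bset b, conj (acoef x ψ θ) * ((primeToCard p H : ℂ) * row p b x χ θ) := by
        rw [Finset.sum_comm]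
        refine Finset.sum_congr rfl fun θ hθ => ?_
        rw [← Finset.mul_sum, mul_row hM hb hx χ (mem_bset.mp hθ)]
    _ = (primeToCard p H : ℂ) * (p : ℂ) ^ minVdeg p b * cX p b x χ ψ := by
        rw [cX, Finset.mul_sum]
        refine Finset.sum_congr rfl fun θ _ => ?_
        rw [← pow_mul_rowq hM hb x χ θ]
        ring

include hM in
/-- At a major subsection the contribution of `χ` is divisible by `p` to its height, and the
quotients are proportional to the `p'`-parts of the degrees. -/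
theorem contrib_congr {x : H} (hx : Pelt p x) {B : Set (Cfsg.IrrCharacter G)}
    (hind : Cfsg.IsInducedBlock M H b B)
    (hd : Cfsg.blockDefect p b = Cfsg.blockDefect p B) {χ φ : Cfsg.IrrCharacter G} (hχ : χ ∈ B)
    (hφ : φ ∈ B) (h0 : vdeg p φ = minVdeg p B) (ψ : Cfsg.IrrCharacter G) :
    cX p b x χ ψ / (p : ℂ) ^ Cfsg.blockHeight p B (χ : G → ℂ) ∈ localRing M ∧
      Cfsg.MemLocalIdeal M (cX p b x χ ψ / (p : ℂ) ^ Cfsg.blockHeight p B (χ : G → ℂ) *
        (udeg p φ : ℂ) - cX p b x φ ψ * (udeg p χ : ℂ)) := by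
  have hp : p.Prime := Fact.out
  have hb := hind.1
  have hB := hind.2.1
  have hcl : Cfsg.IsClassFunction G (Cfsg.indFun H (g0 p b x ψ)) := isClassFunction_indFun H _
  have h := sum_div_mem (M := M) hcl (indFun_g0_mem hx ψ) χ
  set K : ℕ := H.index / p ^ H.index.factorization p * primeToCard p H with hK
  have hKp : ¬ p ∣ K := by
    intro hd'
    rcases hp.dvd_mul.mp hd' with h1 | h1
    · exact Nat.not_dvd_ordCompl hp Subgroup.index_ne_zero_of_finite h1
    · exact not_dvd_primeToCard hp h1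
  have hexp : H.index.factorization p + minVdeg p b = minVdeg p B := by
    have h1 := minVdeg_add_blockDefect (p := p) hb
    have h2 := minVdeg_add_blockDefect (p := p) hB
    have h3 : (Nat.card G).factorization p =
        H.index.factorization p + (Nat.card H).factorization p := by
      rw [← Subgroup.index_mul_card H, Nat.factorization_mul Subgroup.index_ne_zero_of_finite
        Nat.card_pos.ne', Finsupp.add_apply]
    omega
  have hpre : (H.index : ℂ) * ((primeToCard p H : ℂ) * (p : ℂ) ^ minVdeg p b) =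
      (p : ℂ) ^ minVdeg p B * (K : ℂ) := by
    have e := Nat.ordProj_mul_ordCompl_eq_self H.index p
    rw [← hexp, pow_add, hK]
    conv_lhs => rw [← e]
    push_cast
    ring
  have hp0 : (p : ℂ) ≠ 0 := Nat.cast_ne_zero.mpr hp.ne_zero
  have hKu : (K : ℂ) ≠ 0 := Nat.cast_ne_zero.mpr fun h => hKp (h ▸ dvd_zero p)
  have huχ : (udeg p χ : ℂ) ≠ 0 := Nat.cast_ne_zero.mpr (udeg_ne_zero hp χ)
  have huφ : (udeg p φ : ℂ) ≠ 0 := Nat.cast_ne_zero.mpr (udeg_ne_zero hp φ)
  have hval : ∀ φ' : Cfsg.IrrCharacter G, φ' ∈ B →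
      (∑ g : G, Cfsg.indFun H (g0 p b x ψ) g * (φ' : G → ℂ) g) / (φ' : G → ℂ) 1 =
        (K : ℂ) * (cX p b x φ' ψ / (p : ℂ) ^ Cfsg.blockHeight p B (φ' : G → ℂ)) /
          (udeg p φ' : ℂ) := by
    intro φ' hφ'
    have hv : vdeg p φ' = minVdeg p B + Cfsg.blockHeight p B (φ' : G → ℂ) := by
      rw [Contrib.blockHeight_eq]; have := minVdeg_le (p := p) hφ'; omega
    have : (udeg p φ' : ℂ) ≠ 0 := Nat.cast_ne_zero.mpr (udeg_ne_zero hp φ')
    rw [sum_indFun_g0 hM hx hb φ' ψ, hpre, apply_one_eq p φ', hv, pow_add]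
    field_simp
  have h0h : Cfsg.blockHeight p B (φ : G → ℂ) = 0 := (blockHeight_eq_zero_iff hφ).mpr h0
  constructor
  · have h2 := mul_mem h.1 (ratio_mem_localRing hM (udeg p χ) K hKp)
    rw [hval χ hχ] at h2
    convert h2 using 1
    field_simp
  · have h2 := h.2 hB hχ φ hφ
    rw [hval χ hχ, hval φ hφ, h0h, pow_zero, div_one] at h2
    have h3 := memLocalIdeal_mul_right h2
      (ratio_mem_localRing hM (udeg p χ * udeg p φ) K hKp)
    convert h3 using 1
    push_cast
    field_simp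

end Cfsg.Agent.Lib.BC78.SectionMajor
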