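import Cfsg.Agent.Lib.BC78.RankTwoInt
import Cfsg.Agent.Lib.BC78.SectionMajor
import Cfsg.Agent.Lib.Blocks.SectionHeight
import Cfsg.Agent.Lib.Blocks.MajorSection

/-!
# Major subsections of rank two: `k(B) ≤ p ^ d`

The integral matrix `nq` of a block `b` with two irreducible Brauer characters is `Rᵀ Q R` with
`R` of rank two; the rows of `R` give two Galois-stable families of algebraic integers whose norms
are the entries of the reduced form `R Rᵀ`.
-/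

set_option autoImplicit false
set_option linter.unusedSectionVars false

namespace Cfsg.Agent.Lib.BC78.RankTwo

open scoped ComplexConjugate
open Cfsg.Agent.Lib.Blocks Cfsg.Agent.Lib.Blocks.Contrib
open Cfsg.Agent.Lib.Blocks.SectionMatrix Cfsg.Agent.Lib.Blocks.SectionPart
open Cfsg.Agent.Lib.BC78.Galois

universe u

variable {G : Type u} [Group G] [Fintype G] {p : ℕ} [Fact p.Prime] {M : Ideal Cfsg.AlgInt}
  [M.IsMaximal] {H : Subgroup G} [Fintype H] {b : Set (Cfsg.IrrCharacter H)}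

/-- `r` is fixed up to `p ^ d` by the integral matrix of `b`. -/
def Eig (p : ℕ) (b : Set (Cfsg.IrrCharacter H)) (r : Cfsg.IrrCharacter H → ℤ) : Prop :=
  ∀ θ ∈ bset b, ∑ ζ ∈ bset b, nq p b θ ζ * r ζ = (p : ℤ) ^ Cfsg.blockDefect p b * r θ

theorem Eig.add_mul {r r' : Cfsg.IrrCharacter H → ℤ} (h : Eig p b r) (h' : Eig p b r') (t : ℤ) :
    Eig p b fun θ => r θ + t * r' θ := by
  intro θ hθ
  simp only [mul_add, Finset.sum_add_distrib, mul_left_comm _ t, ← Finset.mul_sum, h θ hθ, h' θ hθ]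

/-- The coordinate of a character along `r`. -/
noncomputable def coord (b : Set (Cfsg.IrrCharacter H)) (x : H)
    (r : Cfsg.IrrCharacter H → ℤ) (χ : Cfsg.IrrCharacter G) : ℂ :=
  ∑ θ ∈ bset b, (r θ : ℂ) * acoef x χ θ

theorem coord_add_mul (x : H) (r r' : Cfsg.IrrCharacter H → ℤ) (t : ℤ) (χ : Cfsg.IrrCharacter G) :
    coord b x (fun θ => r θ + t * r' θ) χ = coord b x r χ + (t : ℂ) * coord b x r' χ := by
  simp only [coord, Finset.mul_sum, ← Finset.sum_add_distrib]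
  exact Finset.sum_congr rfl fun θ _ => by push_cast; ring

theorem pow_mul_coord {r : Cfsg.IrrCharacter H → ℤ} (hr : Eig p b r) (x : H)
    (χ : Cfsg.IrrCharacter G) :
    (p : ℂ) ^ Cfsg.blockDefect p b * coord b x r χ =
      ∑ ζ ∈ bset b, (r ζ : ℂ) * rowq p b x χ ζ := by
  simp only [coord, rowq, Finset.mul_sum]
  rw [Finset.sum_comm]
  refine Finset.sum_congr rfl fun θ hθ => ?_
  have h := congrArg (fun z : ℤ => (z : ℂ)) (hr θ hθ)
  push_cast at h
  rw [← mul_assoc, ← h, Finset.sum_mul]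
  exact Finset.sum_congr rfl fun ζ _ => by ring

theorem isIntegral_coord {x : H} (hx : ∀ c, Commute x c) (r : Cfsg.IrrCharacter H → ℤ)
    (χ : Cfsg.IrrCharacter G) : IsIntegral ℤ (coord b x r χ) :=
  IsIntegral.sum _ fun θ _ => (isIntegral_algebraMap (x := r θ)).mul
    ((isIntegral_algebraMap (x := (mult H χ θ : ℤ))).mul (isIntegral_lam hx θ))

theorem isIntegral_conj_coord {x : H} (hx : ∀ c, Commute x c) (r : Cfsg.IrrCharacter H → ℤ)
    (χ : Cfsg.IrrCharacter G) : IsIntegral ℤ (conj (coord b x r χ)) :=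
  (isIntegral_coord hx r χ).map (starRingEnd ℂ).toIntAlgHom

variable (hM : Cfsg.IsPModular p M)

include hM in
/-- The squared norm of a coordinate. -/
theorem sum_normSq_coord {x : H} (hx : Pelt p x) {B : Set (Cfsg.IrrCharacter G)}
    (hind : Cfsg.IsInducedBlock M H b B) {r : Cfsg.IrrCharacter H → ℤ} (hr : Eig p b r) :
    ∑ χ ∈ bset B, Complex.normSq (coord b x r χ) =
      ((∑ θ ∈ bset b, r θ * r θ : ℤ) : ℝ) := by
  set q := (p : ℂ) ^ Cfsg.blockDefect p b with hq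
  have hq0 : q ≠ 0 := pow_ne_zero _ (Nat.cast_ne_zero.mpr (Fact.out : p.Prime).ne_zero)
  apply Complex.ofReal_injective
  push_cast
  simp only [← Complex.mul_conj]
  refine mul_left_cancel₀ (mul_ne_zero hq0 hq0) ?_
  calc q * q * ∑ χ ∈ bset B, coord b x r χ * conj (coord b x r χ)
      = ∑ χ ∈ bset B, (q * coord b x r χ) * conj (q * coord b x r χ) := by
        rw [Finset.mul_sum]
        refine Finset.sum_congr rfl fun χ _ => ?_
        rw [map_mul, hq, map_pow, map_natCast]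
        ring
    _ = ∑ ζ ∈ bset b, ∑ ζ' ∈ bset b, (r ζ : ℂ) * (r ζ' : ℂ) *
          ∑ χ ∈ bset B, rowq p b x χ ζ * conj (rowq p b x χ ζ') := by
        simp only [hq, pow_mul_coord hr, map_sum, map_mul, map_intCast, Finset.sum_mul_sum]
        rw [Finset.sum_comm]
        refine Finset.sum_congr rfl fun ζ _ => ?_
        rw [Finset.sum_comm]
        refine Finset.sum_congr rfl fun ζ' _ => ?_
        rw [Finset.mul_sum]
        exact Finset.sum_congr rfl fun χ _ => by ring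
    _ = q * q * ∑ θ ∈ bset b, (r θ : ℂ) * (r θ : ℂ) := by
        rw [Finset.mul_sum]
        refine Finset.sum_congr rfl fun ζ hζ => ?_
        have h := congrArg (fun z : ℤ => (z : ℂ)) (hr ζ hζ)
        push_cast at h
        rw [show q * q * ((r ζ : ℂ) * (r ζ : ℂ)) = q * (r ζ : ℂ) * (q * (r ζ : ℂ)) by ring]
        conv_rhs => arg 2; rw [hq, ← h]
        rw [Finset.mul_sum]
        refine Finset.sum_congr rfl fun ζ' hζ' => ?_
        rw [sum_rowq_mul hM hx hind (mem_bset.mp hζ) (mem_bset.mp hζ'), hq]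
        ring

include hM in
/-- A Galois automorphism permutes the squared norms of all coordinates. -/
theorem exists_twist_coord {x : H} (hx : Pelt p x) (hb : Cfsg.IsPBlock M b)
    (σ : Alg ≃ₐ[ℚ] Alg) :
    ∃ (k : ℕ) (hk : k.Coprime (Nat.card G)), (∀ g : G, ¬ p ∣ orderOf g → g ^ k = g) ∧
      ∀ (r : Cfsg.IrrCharacter H → ℤ), Eig p b r → ∀ (χ : Cfsg.IrrCharacter G)
        (hm : (Complex.normSq (coord b x r χ) : ℂ) ∈ Alg),
        ((σ ⟨(Complex.normSq (coord b x r χ) : ℂ), hm⟩ : Alg) : ℂ) =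
          (Complex.normSq (coord b x r (twistChar hk χ)) : ℂ) := by
  classical
  haveI := Fintype.ofFinite (Cfsg.IrrCharacter H)
  have hp : p.Prime := Fact.out
  obtain ⟨k, hk, hσ⟩ := exists_exponent σ (n := Nat.card G) Nat.card_pos.ne'
  set P := p ^ (Nat.card G).factorization p with hP
  have hcop : P.Coprime (primeToCard p G) :=
    (hp.coprime_iff_not_dvd.mpr (not_dvd_primeToCard hp)).pow_left _
  obtain ⟨k', hk'1, hk'2⟩ := Nat.chineseRemainder hcop k 1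
  have hk'c : k'.Coprime (Nat.card G) := by
    rw [← primeToCard_mul p G, ← hP, Nat.coprime_mul_iff_right]
    refine ⟨?_, ?_⟩
    · rw [Nat.coprime_iff_gcd_eq_one, hk'1.gcd_eq, ← Nat.coprime_iff_gcd_eq_one]
      exact hk.coprime_dvd_right ⟨_, (primeToCard_mul p G).symm⟩
    · rw [Nat.coprime_iff_gcd_eq_one, hk'2.gcd_eq, Nat.gcd_one_left]
  have hreg : ∀ g : G, ¬ p ∣ orderOf g → g ^ k' = g := by
    intro g hg
    conv_rhs => rw [← pow_one g]
    refine pow_eq_pow_iff_modEq.mpr (hk'2.of_dvd ?_)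
    have h1 : orderOf g ∣ P * primeToCard p G := by
      rw [hP, primeToCard_mul]
      exact orderOf_dvd_natCard g
    exact ((hp.coprime_iff_not_dvd.mpr hg).symm.pow_right _).dvd_of_dvd_mul_left h1
  have hxP : orderOf x ∣ P := by
    obtain ⟨j, hj⟩ := hx.pow
    rw [← Subgroup.orderOf_coe, hj, hP]
    refine pow_dvd_pow _ ((hp.pow_dvd_iff_le_factorization Nat.card_pos.ne').mp ?_)
    rw [← hj]
    exact orderOf_dvd_natCard _
  have hxk : (x : G) ^ k' = (x : G) ^ k := by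
    rw [pow_eq_pow_iff_modEq, Subgroup.orderOf_coe]
    exact hk'1.of_dvd hxP
  refine ⟨k', hk'c, hreg, fun r hr χ hm => ?_⟩
  have hlN : ∀ θ : Cfsg.IrrCharacter H, lam x θ ^ Nat.card G = 1 := fun θ => by
    obtain ⟨t, ht⟩ := coe_orderOf_dvd (x := x)
    exact lam_pow hx.commute (by rw [ht, pow_mul, pow_orderOf_eq_one, one_pow]) θ
  have hlam : ∀ θ : Cfsg.IrrCharacter H, lam x θ ∈ Alg := fun θ =>
    mem_alg_of_isIntegral (isIntegral_lam hx.commute θ)
  have hlam' : ∀ θ : Cfsg.IrrCharacter H, conj (lam x θ) ∈ Alg := fun θ =>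
    mem_alg_of_isIntegral ((isIntegral_lam hx.commute θ).map (starRingEnd ℂ).toIntAlgHom)
  have hσl : ∀ θ : Cfsg.IrrCharacter H,
      ((σ ⟨lam x θ, hlam θ⟩ : Alg) : ℂ) = lam x θ ^ k := fun θ => hσ _ (hlN θ) (hlam θ)
  have hσl' : ∀ θ : Cfsg.IrrCharacter H,
      ((σ ⟨conj (lam x θ), hlam' θ⟩ : Alg) : ℂ) = conj (lam x θ ^ k) := fun θ => by
    rw [hσ _ (by rw [← map_pow, hlN, map_one]) (hlam' θ), map_pow]
  -- the coordinates of the twisted character
  have hrow : ∀ ζ ∈ bset b, ∑ θ ∈ bset b, (mult H χ θ : ℂ) * lam x θ ^ k * (nq p b θ ζ : ℂ) =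
      rowq p b x (twistChar hk'c χ) ζ := by
    intro ζ hζ
    have h := sum_mul_contribN_eq_zero (p := p) (fun θ => (mult H χ θ : ℂ) * lam x θ ^ k -
      acoef x (twistChar hk'c χ) θ) (fun s hs => by
      simp only [sub_mul, Finset.sum_sub_distrib]
      rw [← restrict_pow_mul hx.commute, ← restrict_mul hx.commute, sub_eq_zero]
      show _ = (χ : G → ℂ) (((x : G) * (s : G)) ^ k')
      rw [(commute_of_mem hx.eq s.2).mul_pow, hxk,
        hreg _ (by rwa [Subgroup.orderOf_coe])]) ζ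
    rw [sum_mul_contribN_bset hM hb _ (mem_bset.mp hζ)] at h
    have hp0 : (p : ℂ) ^ minVdeg p b ≠ 0 := pow_ne_zero _ (Nat.cast_ne_zero.mpr hp.ne_zero)
    rw [← sub_eq_zero, rowq, ← Finset.sum_sub_distrib]
    refine (mul_eq_zero.mp ?_).resolve_left hp0
    rw [← h, Finset.mul_sum]
    refine Finset.sum_congr rfl fun θ hθ => ?_
    rw [← pow_mul_nq hM hb (mem_bset.mp hθ) ζ]
    push_cast
    ring
  set v : ℂ := ∑ θ ∈ bset b, (r θ : ℂ) * ((mult H χ θ : ℂ) * lam x θ ^ k) with hv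
  have hveq : v = coord b x r (twistChar hk'c χ) := by
    refine mul_left_cancel₀ (pow_ne_zero (Cfsg.blockDefect p b)
      (Nat.cast_ne_zero.mpr hp.ne_zero : (p : ℂ) ≠ 0)) ?_
    rw [pow_mul_coord hr, hv, Finset.mul_sum]
    conv_rhs => rw [Finset.sum_congr rfl fun ζ hζ => show (r ζ : ℂ) *
      rowq p b x (twistChar hk'c χ) ζ = ∑ θ ∈ bset b, (r ζ : ℂ) *
        ((mult H χ θ : ℂ) * lam x θ ^ k * (nq p b θ ζ : ℂ)) by
      rw [← hrow ζ hζ, Finset.mul_sum]]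
    rw [Finset.sum_comm]
    refine Finset.sum_congr rfl fun θ hθ => ?_
    have h := congrArg (fun z : ℤ => (z : ℂ)) (hr θ hθ)
    push_cast at h
    rw [← mul_assoc, ← h, Finset.sum_mul]
    exact Finset.sum_congr rfl fun ζ _ => by ring
  let U : Alg := ∑ θ ∈ bset b, (r θ : Alg) * ((mult H χ θ : Alg) * ⟨lam x θ, hlam θ⟩)
  let U' : Alg := ∑ θ ∈ bset b, (r θ : Alg) * ((mult H χ θ : Alg) * ⟨conj (lam x θ), hlam' θ⟩)
  have e : (⟨(Complex.normSq (coord b x r χ) : ℂ), hm⟩ : Alg) = U * U' := by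
    apply Subtype.ext
    simp only [U, U', ← Complex.mul_conj, coord, acoef, map_sum, map_mul, map_intCast,
      map_natCast]
    push_cast
    rfl
  rw [e, map_mul, ← hveq, ← Complex.mul_conj, hv]
  simp only [U, U', map_sum, map_mul, map_intCast, map_natCast]
  push_cast
  simp only [hσl, hσl', map_pow]

include hM in
/-- The non-zero coordinates divisible by `p ^ e` at given degrees have mean norm at least
`p ^ e`. -/
theorem count {x : H} (hx : Pelt p x) {B : Set (Cfsg.IrrCharacter G)}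
    (hind : Cfsg.IsInducedBlock M H b B) {r : Cfsg.IrrCharacter H → ℤ} (hr : Eig p b r)
    (P : ℕ → Prop) [DecidablePred P] (e : ℕ)
    (hdiv : ∀ χ ∈ B, P (vdeg p χ) →
      (Complex.normSq (coord b x r χ) : ℂ) / (p : ℂ) ^ e ∈ localRing M) :
    (p : ℤ) ^ e *
      (((bset B).filter fun χ => P (vdeg p χ) ∧ coord b x r χ ≠ 0).card : ℤ) ≤
      ∑ θ ∈ bset b, r θ * r θ := by
  classical
  set S := (bset B).filter fun χ => P (vdeg p χ) ∧ coord b x r χ ≠ 0 with hS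
  have hmem : ∀ {χ}, χ ∈ S ↔ χ ∈ B ∧ P (vdeg p χ) ∧ coord b x r χ ≠ 0 := fun {χ} => by
    rw [hS, Finset.mem_filter, mem_bset]
  have hint : ∀ χ : S, IsIntegral ℤ (Complex.normSq (coord b x r χ.1) : ℂ) := fun χ => by
    rw [← Complex.mul_conj]
    exact (isIntegral_coord hx.commute r χ.1).mul (isIntegral_conj_coord hx.commute r χ.1)
  have h := SectionHeight.mul_card_le_sum hM e
    (fun χ : S => Complex.normSq (coord b x r χ.1)) hint
    (fun χ => Complex.normSq_pos.mpr (hmem.mp χ.2).2.2)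
    (fun χ => hdiv χ.1 (hmem.mp χ.2).1 (hmem.mp χ.2).2.1)
    (fun σ => by
      obtain ⟨k, hk, hreg, hσ⟩ := exists_twist_coord hM hx hind.1 σ
      have htw : ∀ χ : S, twistChar hk χ.1 ∈ S := fun χ => by
        obtain ⟨h1, h2, h3⟩ := hmem.mp χ.2
        refine hmem.mpr ⟨twistChar_mem hM hk hreg hind.2.1 h1, ?_, fun h0 => ?_⟩
        · have hd1 : Cfsg.charDegree ((twistChar hk χ.1 : Cfsg.IrrCharacter G) : G → ℂ) =
              Cfsg.charDegree (χ.1 : G → ℂ) := by simp [Cfsg.charDegree, twistChar]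
          rwa [vdeg, hd1]
        · have h4 := hσ r hr χ.1 (mem_alg_of_isIntegral (hint χ))
          rw [h0, map_zero, Complex.ofReal_zero, ZeroMemClass.coe_eq_zero,
            map_eq_zero_iff _ σ.injective] at h4
          have h5 := congrArg Subtype.val h4
          simp only [ZeroMemClass.coe_zero, Complex.ofReal_eq_zero] at h5
          exact h3 (Complex.normSq_eq_zero.mp h5)
      let e' : S → S := fun χ => ⟨twistChar hk χ.1, htw χ⟩
      have he : Function.Injective e' := fun φ φ' h =>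
        Subtype.ext (twistChar_injective hk (congrArg Subtype.val h))
      exact ⟨Equiv.ofBijective e' (Finite.injective_iff_bijective.mp he),
        fun χ => hσ r hr χ.1 _⟩)
  rw [Fintype.card_coe, Finset.sum_coe_sort S fun χ => Complex.normSq (coord b x r χ)] at h
  have h' := h.trans ((Finset.sum_le_sum_of_subset_of_nonneg (Finset.filter_subset _ _)
    fun χ _ _ => Complex.normSq_nonneg _).trans_eq (sum_normSq_coord hM hx hind hr))
  exact_mod_cast h'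

/-- Coordinates of the integral matrix of a block of rank two. -/
def Coord (p : ℕ) (b : Set (Cfsg.IrrCharacter H))
    (r₀ r₁ s₀ s₁ : Cfsg.IrrCharacter H → ℤ) (q₀ q₁ q₂ : ℤ) : Prop :=
  (∀ θ ∈ bset b, ∀ ζ ∈ bset b, nq p b θ ζ =
      q₀ * r₀ θ * r₀ ζ + q₁ * (r₀ θ * r₁ ζ + r₁ θ * r₀ ζ) + q₂ * r₁ θ * r₁ ζ) ∧
    (∑ θ ∈ bset b, r₀ θ * s₀ θ = 1 ∧ ∑ θ ∈ bset b, r₀ θ * s₁ θ = 0 ∧
      ∑ θ ∈ bset b, r₁ θ * s₀ θ = 0 ∧ ∑ θ ∈ bset b, r₁ θ * s₁ θ = 1) ∧
    (q₀ * ∑ θ ∈ bset b, r₀ θ * r₀ θ) + q₁ * ∑ θ ∈ bset b, r₀ θ * r₁ θ =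
      (p : ℤ) ^ Cfsg.blockDefect p b ∧
    (q₁ * ∑ θ ∈ bset b, r₀ θ * r₀ θ) + q₂ * ∑ θ ∈ bset b, r₀ θ * r₁ θ = 0 ∧
    (q₀ * ∑ θ ∈ bset b, r₀ θ * r₁ θ) + q₁ * ∑ θ ∈ bset b, r₁ θ * r₁ θ = 0 ∧
    (q₁ * ∑ θ ∈ bset b, r₀ θ * r₁ θ) + q₂ * ∑ θ ∈ bset b, r₁ θ * r₁ θ =
      (p : ℤ) ^ Cfsg.blockDefect p b

include hM in
theorem exists_coord (hb : Cfsg.IsPBlock M b) (hl : Cfsg.blockRank p b = 2) :
    ∃ r₀ r₁ s₀ s₁ q₀ q₁ q₂, Coord p b r₀ r₁ s₀ s₁ q₀ q₁ q₂ := by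
  classical
  have hp : p.Prime := Fact.out
  set P : ℤ := (p : ℤ) ^ Cfsg.blockDefect p b with hP
  have hP0 : P ≠ 0 := pow_ne_zero _ (mod_cast hp.ne_zero)
  let N : Matrix (bset b) (bset b) ℤ := Matrix.of fun θ ζ => nq p b θ.1 ζ.1
  let f := N.mulVecLin
  let W := LinearMap.range f
  have hNN : N * N = P • N := by
    ext θ ζ
    rw [Matrix.mul_apply, Matrix.smul_apply, smul_eq_mul]
    exact (Finset.sum_coe_sort (bset b) fun η => nq p b θ.1 η * nq p b η ζ.1).trans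
      (nq_sq hM hb (mem_bset.mp θ.2) (mem_bset.mp ζ.2))
  obtain ⟨m, bs⟩ := Submodule.basisOfPid (Pi.basisFun ℤ (bset b)) W
  let w : Fin m → bset b → ℤ := fun i => (bs i : bset b → ℤ)
  let R : Fin m → bset b → ℤ := fun i θ =>
    bs.repr ⟨f (Pi.single θ 1), LinearMap.mem_range_self f _⟩ i
  have hex : ∀ θ ζ, N θ ζ = ∑ i, R i ζ * w i θ := by
    intro θ ζ
    have h := congrArg (fun v : W => (v : bset b → ℤ) θ)
      (bs.sum_repr ⟨f (Pi.single ζ 1), LinearMap.mem_range_self f _⟩)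
    have e : f (Pi.single ζ 1) θ = N θ ζ := by simp [f, Matrix.mulVecLin_apply]
    rw [← e]
    simp only [Submodule.coe_sum, Finset.sum_apply, SetLike.val_smul, Pi.smul_apply,
      smul_eq_mul] at h
    exact h.symm
  choose s hs using fun i => (bs i).2
  have hinj : ∀ c : Fin m → ℤ, (∀ θ, ∑ i, c i * w i θ = 0) → ∀ i, c i = 0 := by
    intro c hc i
    refine Fintype.linearIndependent_iff.mp bs.linearIndependent c (Subtype.ext (funext fun θ => ?_)) i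
    simpa [w, smul_eq_mul] using hc θ
  have hsw : ∀ i θ, ∑ ζ, N θ ζ * s i ζ = w i θ := fun i θ => by
    have := congrFun (hs i) θ
    simpa [f, w, Matrix.mulVecLin_apply, Matrix.mulVec, dotProduct] using this
  have hRs : ∀ i j, ∑ ζ, R j ζ * s i ζ = if i = j then 1 else 0 := by
    intro i j
    refine sub_eq_zero.mp (hinj (fun j => (∑ ζ, R j ζ * s i ζ) - if i = j then 1 else 0)
      (fun θ => ?_) j)
    simp only [sub_mul, Finset.sum_sub_distrib, ite_mul, one_mul, zero_mul, Finset.sum_ite_eq,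
      Finset.mem_univ, if_true]
    rw [sub_eq_zero, ← hsw i θ]
    simp only [hex, Finset.sum_mul]
    rw [Finset.sum_comm]
    exact Finset.sum_congr rfl fun ζ _ => Finset.sum_congr rfl fun j _ => by ring
  have hNw : ∀ i θ, ∑ ζ, N θ ζ * w i ζ = P * w i θ := by
    intro i θ
    have h : (N * N).mulVec (s i) θ = P * w i θ := by
      rw [hNN, Matrix.smul_mulVec, Pi.smul_apply, smul_eq_mul]
      exact congrArg (P * ·) (hsw i θ)
    rw [← h, ← Matrix.mulVec_mulVec]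
    simp only [Matrix.mulVec, dotProduct, hsw]
  have hRw : ∀ i j, ∑ ζ, R j ζ * w i ζ = if i = j then P else 0 := by
    intro i j
    refine sub_eq_zero.mp (hinj (fun j => (∑ ζ, R j ζ * w i ζ) - if i = j then P else 0)
      (fun θ => ?_) j)
    simp only [sub_mul, Finset.sum_sub_distrib, ite_mul, zero_mul, Finset.sum_ite_eq,
      Finset.mem_univ, if_true]
    rw [sub_eq_zero, ← hNw i θ]
    simp only [hex, Finset.sum_mul]
    rw [Finset.sum_comm]
    exact Finset.sum_congr rfl fun ζ _ => Finset.sum_congr rfl fun j _ => by ring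
  have hm : m = 2 := by
    have h1 : ∑ θ, N θ θ = P * (Cfsg.blockRank p b : ℤ) :=
      (Finset.sum_coe_sort (bset b) fun θ => nq p b θ θ).trans (sum_nq_self hM hb)
    have h2 : ∑ θ, N θ θ = P * (m : ℤ) := by
      simp only [hex]
      rw [Finset.sum_comm, Finset.sum_congr rfl fun i _ => hRw i i]
      simp [mul_comm]
    rw [h2, hl] at h1
    exact_mod_cast mul_left_cancel₀ hP0 h1
  subst hm
  let Q : Fin 2 → Fin 2 → ℤ := fun i j => ∑ θ, w j θ * s i θ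
  have hwR : ∀ i θ, w i θ = ∑ j, Q i j * R j θ := by
    intro i θ
    rw [← hsw i θ]
    simp only [Q, Finset.sum_mul]
    rw [Finset.sum_comm]
    refine Finset.sum_congr rfl fun ζ _ => ?_
    rw [show N θ ζ = N ζ θ from nq_comm θ.1 ζ.1, hex ζ θ, Finset.sum_mul]
    exact Finset.sum_congr rfl fun j _ => by ring
  have hQ : Q 1 0 = Q 0 1 := by
    simp only [Q]
    simp only [← hsw, Finset.sum_mul]
    rw [Finset.sum_comm]
    refine Finset.sum_congr rfl fun θ _ => Finset.sum_congr rfl fun ζ _ => ?_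
    rw [show N ζ θ = N θ ζ from nq_comm ζ.1 θ.1]
    ring
  let ext : (bset b → ℤ) → Cfsg.IrrCharacter H → ℤ := fun v θ =>
    if h : θ ∈ bset b then v ⟨θ, h⟩ else 0
  have hext : ∀ (v : bset b → ℤ) (θ : bset b), ext v θ.1 = v θ := fun v θ => dif_pos θ.2
  have hdot : ∀ v v' : bset b → ℤ, ∑ θ ∈ bset b, ext v θ * ext v' θ = ∑ θ, v θ * v' θ := fun v v' =>
    (Finset.sum_coe_sort (bset b) fun θ => ext v θ * ext v' θ).symm.trans
      (Finset.sum_congr rfl fun θ _ => by rw [hext, hext])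
  have hC : ∀ i j, ∑ k, Q i k * ∑ θ, R j θ * R k θ = if i = j then P else 0 := by
    intro i j
    rw [← hRw i j]
    simp only [hwR i, Finset.mul_sum]
    rw [Finset.sum_comm]
    exact Finset.sum_congr rfl fun θ _ => Finset.sum_congr rfl fun k _ => by ring
  refine ⟨ext (R 0), ext (R 1), ext (s 0), ext (s 1), Q 0 0, Q 0 1, Q 1 1, ?_,
    ⟨?_, ?_, ?_, ?_⟩, ?_, ?_, ?_, ?_⟩
  · intro θ hθ ζ hζ
    have h := hex ⟨θ, hθ⟩ ⟨ζ, hζ⟩
    simp only [hwR, Fin.sum_univ_two, hQ] at h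
    simp only [ext, dif_pos hθ, dif_pos hζ]
    rw [show nq p b θ ζ = N ⟨θ, hθ⟩ ⟨ζ, hζ⟩ from rfl]
    linear_combination h
  · rw [hdot, hRs]; simp
  · rw [hdot, hRs]; simp
  · rw [hdot, hRs]; simp
  · rw [hdot, hRs]; simp
  · have h := hC 0 0
    simp only [Fin.sum_univ_two, if_pos] at h
    simp only [hdot]
    linear_combination h
  · have h := hC 1 0
    simp only [Fin.sum_univ_two, hQ] at h
    rw [if_neg (by decide)] at h
    simp only [hdot]
    linear_combination h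
  · have h := hC 0 1
    simp only [Fin.sum_univ_two] at h
    rw [if_neg (by decide)] at h
    simp only [hdot] at h ⊢
    simp only [mul_comm (R 1 _) (R 0 _)] at h
    linear_combination h
  · have h := hC 1 1
    simp only [Fin.sum_univ_two, if_pos, hQ] at h
    simp only [mul_comm (R 1 _) (R 0 _)] at h
    simp only [hdot]
    linear_combination h

theorem Coord.swap {r₀ r₁ s₀ s₁ : Cfsg.IrrCharacter H → ℤ} {q₀ q₁ q₂ : ℤ}
    (h : Coord p b r₀ r₁ s₀ s₁ q₀ q₁ q₂) : Coord p b r₁ r₀ s₁ s₀ q₂ q₁ q₀ := by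
  obtain ⟨hN, ⟨h1, h2, h3, h4⟩, e1, e2, e3, e4⟩ := h
  have e : ∑ θ ∈ bset b, r₁ θ * r₀ θ = ∑ θ ∈ bset b, r₀ θ * r₁ θ :=
    Finset.sum_congr rfl fun θ _ => mul_comm _ _
  refine ⟨fun θ hθ ζ hζ => (hN θ hθ ζ hζ).trans (by ring), ⟨h4, h3, h2, h1⟩, ?_, ?_, ?_, ?_⟩ <;>
    rw [e]
  · linear_combination e4
  · linear_combination e3
  · linear_combination e2
  · linear_combination e1

theorem Coord.shear {r₀ r₁ s₀ s₁ : Cfsg.IrrCharacter H → ℤ} {q₀ q₁ q₂ : ℤ}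
    (h : Coord p b r₀ r₁ s₀ s₁ q₀ q₁ q₂) (t : ℤ) :
    Coord p b r₀ (fun θ => r₁ θ + t * r₀ θ) (fun θ => s₀ θ - t * s₁ θ) s₁
      (q₀ - 2 * t * q₁ + t * t * q₂) (q₁ - t * q₂) q₂ := by
  obtain ⟨hN, ⟨h1, h2, h3, h4⟩, e1, e2, e3, e4⟩ := h
  have eb : ∑ θ ∈ bset b, r₀ θ * (r₁ θ + t * r₀ θ) =
      ∑ θ ∈ bset b, r₀ θ * r₁ θ + t * ∑ θ ∈ bset b, r₀ θ * r₀ θ := by
    simp only [mul_add, Finset.sum_add_distrib, Finset.mul_sum]
    exact congrArg _ (Finset.sum_congr rfl fun θ _ => by ring)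
  have ec : ∑ θ ∈ bset b, (r₁ θ + t * r₀ θ) * (r₁ θ + t * r₀ θ) =
      ∑ θ ∈ bset b, r₁ θ * r₁ θ + 2 * t * ∑ θ ∈ bset b, r₀ θ * r₁ θ +
        t * t * ∑ θ ∈ bset b, r₀ θ * r₀ θ := by
    simp only [Finset.mul_sum, ← Finset.sum_add_distrib]
    exact Finset.sum_congr rfl fun θ _ => by ring
  refine ⟨fun θ hθ ζ hζ => (hN θ hθ ζ hζ).trans (by ring), ⟨?_, h2, ?_, ?_⟩, ?_, ?_, ?_, ?_⟩
  · calc _ = ∑ θ ∈ bset b, r₀ θ * s₀ θ - t * ∑ θ ∈ bset b, r₀ θ * s₁ θ := by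
          simp only [Finset.mul_sum, ← Finset.sum_sub_distrib]
          exact Finset.sum_congr rfl fun θ _ => by ring
      _ = 1 := by rw [h1, h2]; ring
  · calc _ = ∑ θ ∈ bset b, r₁ θ * s₀ θ - t * ∑ θ ∈ bset b, r₁ θ * s₁ θ +
          t * ∑ θ ∈ bset b, r₀ θ * s₀ θ - t * t * ∑ θ ∈ bset b, r₀ θ * s₁ θ := by
          simp only [Finset.mul_sum, ← Finset.sum_sub_distrib, ← Finset.sum_add_distrib]
          exact Finset.sum_congr rfl fun θ _ => by ring
      _ = 0 := by rw [h1, h2, h3, h4]; ring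
  · calc _ = ∑ θ ∈ bset b, r₁ θ * s₁ θ + t * ∑ θ ∈ bset b, r₀ θ * s₁ θ := by
          simp only [Finset.mul_sum, ← Finset.sum_add_distrib]
          exact Finset.sum_congr rfl fun θ _ => by ring
      _ = 1 := by rw [h4, h2]; ring
  all_goals simp only [eb, ec]
  · linear_combination e1 - t * e2
  · linear_combination e2
  · linear_combination t * e1 + e3 - t * e4 - t * t * e2
  · linear_combination t * e2 + e4

theorem Coord.pos {r₀ r₁ s₀ s₁ : Cfsg.IrrCharacter H → ℤ} {q₀ q₁ q₂ : ℤ}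
    (h : Coord p b r₀ r₁ s₀ s₁ q₀ q₁ q₂) : 0 < ∑ θ ∈ bset b, r₀ θ * r₀ θ := by
  refine (Finset.sum_nonneg fun θ _ => mul_self_nonneg _).lt_of_ne fun h0 => ?_
  have hz := (Finset.sum_eq_zero_iff_of_nonneg fun θ _ => mul_self_nonneg (r₀ θ)).mp h0.symm
  have := h.2.1.1
  rw [Finset.sum_eq_zero fun θ hθ => by rw [mul_self_eq_zero.mp (hz θ hθ), zero_mul]] at this
  exact zero_ne_one this

/-- Gauss reduction. -/
theorem exists_reduced (n : ℕ) : ∀ {r₀ r₁ s₀ s₁ : Cfsg.IrrCharacter H → ℤ} {q₀ q₁ q₂ : ℤ},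
    Coord p b r₀ r₁ s₀ s₁ q₀ q₁ q₂ →
    ∑ θ ∈ bset b, r₀ θ * r₀ θ + ∑ θ ∈ bset b, r₁ θ * r₁ θ ≤ n →
    ∃ r₀ r₁ s₀ s₁ q₀ q₁ q₂, Coord p b r₀ r₁ s₀ s₁ q₀ q₁ q₂ ∧
      ∑ θ ∈ bset b, r₀ θ * r₀ θ ≤ ∑ θ ∈ bset b, r₁ θ * r₁ θ ∧
      2 * |∑ θ ∈ bset b, r₀ θ * r₁ θ| ≤ ∑ θ ∈ bset b, r₀ θ * r₀ θ := by
  induction n using Nat.strong_induction_on with
  | _ n ih =>
    intro r₀ r₁ s₀ s₁ q₀ q₁ q₂ h hn
    wlog hle : ∑ θ ∈ bset b, r₀ θ * r₀ θ ≤ ∑ θ ∈ bset b, r₁ θ * r₁ θ generalizing r₀ r₁ s₀ s₁ q₀ q₁ q₂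
    · exact this h.swap (by linarith) (le_of_not_ge hle)
    by_cases hred : 2 * |∑ θ ∈ bset b, r₀ θ * r₁ θ| ≤ ∑ θ ∈ bset b, r₀ θ * r₀ θ
    · exact ⟨_, _, _, _, _, _, _, h, hle, hred⟩
    have ha := h.pos
    have hc : ∀ t : ℤ, ∑ θ ∈ bset b, (r₁ θ + t * r₀ θ) * (r₁ θ + t * r₀ θ) =
        ∑ θ ∈ bset b, r₁ θ * r₁ θ + 2 * t * ∑ θ ∈ bset b, r₀ θ * r₁ θ +
          t * t * ∑ θ ∈ bset b, r₀ θ * r₀ θ := fun t => by
      simp only [Finset.mul_sum, ← Finset.sum_add_distrib]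
      exact Finset.sum_congr rfl fun θ _ => by ring
    obtain ⟨t, ht⟩ : ∃ t : ℤ, t * t = 1 ∧
        t * ∑ θ ∈ bset b, r₀ θ * r₁ θ = -|∑ θ ∈ bset b, r₀ θ * r₁ θ| := by
      rcases le_total 0 (∑ θ ∈ bset b, r₀ θ * r₁ θ) with hb | hb
      · exact ⟨-1, by ring, by rw [abs_of_nonneg hb]; ring⟩
      · exact ⟨1, by ring, by rw [abs_of_nonpos hb]; ring⟩
    have hlt : ∑ θ ∈ bset b, (r₁ θ + t * r₀ θ) * (r₁ θ + t * r₀ θ) <
        ∑ θ ∈ bset b, r₁ θ * r₁ θ := by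
      rw [hc, ht.1, mul_assoc, ht.2]
      omega
    have h0 : 0 ≤ ∑ θ ∈ bset b, (r₁ θ + t * r₀ θ) * (r₁ θ + t * r₀ θ) :=
      Finset.sum_nonneg fun θ _ => mul_self_nonneg _
    exact ih (n - 1) (by omega) (h.shear t) (by omega)

theorem Coord.eig {r₀ r₁ s₀ s₁ : Cfsg.IrrCharacter H → ℤ} {q₀ q₁ q₂ : ℤ}
    (h : Coord p b r₀ r₁ s₀ s₁ q₀ q₁ q₂) : Eig p b r₀ ∧ Eig p b r₁ := by
  obtain ⟨hN, -, e1, e2, e3, e4⟩ := h
  constructor
  · intro θ hθ
    calc ∑ ζ ∈ bset b, nq p b θ ζ * r₀ ζ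
        = r₀ θ * ((q₀ * ∑ ζ ∈ bset b, r₀ ζ * r₀ ζ) + q₁ * ∑ ζ ∈ bset b, r₀ ζ * r₁ ζ) +
          r₁ θ * ((q₁ * ∑ ζ ∈ bset b, r₀ ζ * r₀ ζ) + q₂ * ∑ ζ ∈ bset b, r₀ ζ * r₁ ζ) := by
          simp only [Finset.mul_sum, ← Finset.sum_add_distrib]
          exact Finset.sum_congr rfl fun ζ hζ => by rw [hN θ hθ ζ hζ]; ring
      _ = _ := by rw [e1, e2]; ring
  · intro θ hθ
    calc ∑ ζ ∈ bset b, nq p b θ ζ * r₁ ζ
        = r₀ θ * ((q₀ * ∑ ζ ∈ bset b, r₀ ζ * r₁ ζ) + q₁ * ∑ ζ ∈ bset b, r₁ ζ * r₁ ζ) +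
          r₁ θ * ((q₁ * ∑ ζ ∈ bset b, r₀ ζ * r₁ ζ) + q₂ * ∑ ζ ∈ bset b, r₁ ζ * r₁ ζ) := by
          simp only [Finset.mul_sum, ← Finset.sum_add_distrib]
          exact Finset.sum_congr rfl fun ζ hζ => by rw [hN θ hθ ζ hζ]; ring
      _ = _ := by rw [e3, e4]; ring

theorem Coord.cX_eq {r₀ r₁ s₀ s₁ : Cfsg.IrrCharacter H → ℤ} {q₀ q₁ q₂ : ℤ}
    (h : Coord p b r₀ r₁ s₀ s₁ q₀ q₁ q₂) (x : H) (χ ψ : Cfsg.IrrCharacter G) :
    cX p b x χ ψ = (q₀ : ℂ) * (coord b x r₀ χ * conj (coord b x r₀ ψ)) +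
      (q₁ : ℂ) * (coord b x r₀ χ * conj (coord b x r₁ ψ) +
        coord b x r₁ χ * conj (coord b x r₀ ψ)) +
      (q₂ : ℂ) * (coord b x r₁ χ * conj (coord b x r₁ ψ)) := by
  simp only [cX, rowq, coord, map_sum, map_mul, map_intCast, Finset.sum_mul, Finset.mul_sum,
    ← Finset.sum_add_distrib]
  refine Finset.sum_congr rfl fun ζ hζ => Finset.sum_congr rfl fun θ hθ => ?_
  rw [h.1 θ hθ ζ hζ]
  push_cast
  ring

include hM in
theorem Coord.dvd_det (hb : Cfsg.IsPBlock M b) {r₀ r₁ s₀ s₁ : Cfsg.IrrCharacter H → ℤ}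
    {q₀ q₁ q₂ : ℤ} (h : Coord p b r₀ r₁ s₀ s₁ q₀ q₁ q₂) :
    (p : ℤ) ∣ q₀ * q₂ - q₁ * q₁ := by
  obtain ⟨hN, ⟨h1, h2, h3, h4⟩, -⟩ := h
  obtain ⟨η₀, hη₀, h0⟩ := exists_height_zero (p := p) hb
  set r : ZMod p := (nq p b η₀ η₀ : ZMod p) with hr
  set u : ZMod p := (udeg p η₀ : ZMod p) with hu
  have hu0 : u ≠ 0 := by
    intro h
    rw [hu, CharP.cast_eq_zero_iff (ZMod p) p] at h
    exact not_dvd_udeg Fact.out η₀ h
  have hterm : ∀ θ ∈ bset b, ∀ ζ ∈ bset b, (nq p b θ ζ : ZMod p) * (u * u) =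
      r * ((qdeg p b θ : ZMod p) * (qdeg p b ζ : ZMod p)) := by
    intro θ hθ ζ hζ
    rw [← mul_assoc, hu, nq_congr hM hb hη₀ h0 (mem_bset.mp hθ) ζ, nq_comm η₀ ζ,
      mul_right_comm, nq_congr hM hb hη₀ h0 (mem_bset.mp hζ) η₀, hr]
    ring
  have hsand : ∀ v v' : Cfsg.IrrCharacter H → ℤ,
      ((∑ θ ∈ bset b, ∑ ζ ∈ bset b, v θ * nq p b θ ζ * v' ζ : ℤ) : ZMod p) * (u * u) =
        r * ((∑ θ ∈ bset b, (v θ : ZMod p) * (qdeg p b θ : ZMod p)) *
          ∑ ζ ∈ bset b, (v' ζ : ZMod p) * (qdeg p b ζ : ZMod p)) := by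
    intro v v'
    push_cast
    simp only [Finset.sum_mul, Finset.mul_sum]
    conv_rhs => rw [Finset.sum_comm]
    refine Finset.sum_congr rfl fun θ hθ => Finset.sum_congr rfl fun ζ hζ => ?_
    linear_combination (v θ : ZMod p) * (v' ζ : ZMod p) * hterm θ hθ ζ hζ
  have hQ : ∀ v v' : Cfsg.IrrCharacter H → ℤ,
      ∑ θ ∈ bset b, ∑ ζ ∈ bset b, v θ * nq p b θ ζ * v' ζ =
        q₀ * (∑ θ ∈ bset b, r₀ θ * v θ) * (∑ θ ∈ bset b, r₀ θ * v' θ) +
        q₁ * ((∑ θ ∈ bset b, r₀ θ * v θ) * (∑ θ ∈ bset b, r₁ θ * v' θ) +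
          (∑ θ ∈ bset b, r₁ θ * v θ) * (∑ θ ∈ bset b, r₀ θ * v' θ)) +
        q₂ * (∑ θ ∈ bset b, r₁ θ * v θ) * (∑ θ ∈ bset b, r₁ θ * v' θ) := by
    intro v v'
    simp only [Finset.sum_mul, Finset.mul_sum, ← Finset.sum_add_distrib]
    rw [Finset.sum_comm]
    refine Finset.sum_congr rfl fun ζ hζ => ?_
    refine Finset.sum_congr rfl fun θ hθ => ?_
    rw [hN θ hθ ζ hζ]
    ring
  have k0 := hsand s₀ s₀
  have k1 := hsand s₀ s₁
  have k2 := hsand s₁ s₁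
  simp only [hQ, h1, h2, h3, h4, mul_one, mul_zero, zero_mul, add_zero, zero_add] at k0 k1 k2
  rw [← ZMod.intCast_zmod_eq_zero_iff_dvd]
  refine (mul_eq_zero.mp ?_).resolve_right (mul_ne_zero (mul_ne_zero hu0 hu0) (mul_ne_zero hu0 hu0))
  push_cast
  linear_combination (q₂ : ZMod p) * (u * u) * k0 +
    r * (∑ θ ∈ bset b, (s₀ θ : ZMod p) * (qdeg p b θ : ZMod p)) *
      (∑ θ ∈ bset b, (s₀ θ : ZMod p) * (qdeg p b θ : ZMod p)) * k2 -
    ((q₁ : ZMod p) * (u * u) + r * (∑ θ ∈ bset b, (s₀ θ : ZMod p) * (qdeg p b θ : ZMod p)) *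
      (∑ θ ∈ bset b, (s₁ θ : ZMod p) * (qdeg p b θ : ZMod p))) * k1

include hM in
/-- **Major subsections of rank at most two**: `k(B) ≤ p ^ d`. -/
theorem card_le {x : H} (hx : Pelt p x) {B : Set (Cfsg.IrrCharacter G)}
    (hind : Cfsg.IsInducedBlock M H b B) (hd : Cfsg.blockDefect p b = Cfsg.blockDefect p B)
    (hl : Cfsg.blockRank p b = 2) : Nat.card B ≤ p ^ Cfsg.blockDefect p b := by
  classical
  have hp : p.Prime := Fact.out
  have hb := hind.1
  obtain ⟨r₀', r₁', s₀', s₁', q₀', q₁', q₂', h'⟩ := exists_coord hM hb hl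
  obtain ⟨r₀, r₁, s₀, s₁, q₀, q₁, q₂, h, hle, hred⟩ := exists_reduced _ h' (Int.self_le_toNat _)
  obtain ⟨φ, hφ, hφ0⟩ := exists_height_zero (p := p) hind.2.1
  have hint : ∀ r χ, coord b x r χ ∈ localRing M := fun r χ =>
    mem_localRing_of_isIntegral (isIntegral_coord hx.commute r χ)
  have hint' : ∀ r χ, conj (coord b x r χ) ∈ localRing M := fun r χ =>
    mem_localRing_of_isIntegral (isIntegral_conj_coord hx.commute r χ)
  have hunit := cX_not_mem hM hx hind hφ hφ hφ0 hφ0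
  have hne : ¬ ((p : ℤ) ∣ q₀ ∧ (p : ℤ) ∣ q₁ ∧ (p : ℤ) ∣ q₂) := by
    rintro ⟨d0, d1, d2⟩
    apply hunit
    rw [h.cX_eq]
    exact memLocalIdeal_add (memLocalIdeal_add
      (memLocalIdeal_mul_right ((memLocalIdeal_intCast_iff hM _).mpr d0)
        (mul_mem (hint _ _) (hint' _ _)))
      (memLocalIdeal_mul_right ((memLocalIdeal_intCast_iff hM _).mpr d1)
        (add_mem (mul_mem (hint _ _) (hint' _ _)) (mul_mem (hint _ _) (hint' _ _)))))
      (memLocalIdeal_mul_right ((memLocalIdeal_intCast_iff hM _).mpr d2)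
        (mul_mem (hint _ _) (hint' _ _)))
  obtain ⟨hr0, hr1⟩ := h.eig
  have hcnt : ∀ r, Eig p b r → (((bset B).filter fun χ => coord b x r χ ≠ 0).card : ℤ) ≤
      ∑ θ ∈ bset b, r θ * r θ := by
    intro r hr
    have := count hM hx hind hr (fun _ => True) 0 (fun χ _ _ => by
      rw [pow_zero, div_one, ← Complex.mul_conj]; exact mul_mem (hint _ _) (hint' _ _))
    simpa using this
  have hboth : ∀ χ ∈ bset B, coord b x r₀ χ ≠ 0 ∨ coord b x r₁ χ ≠ 0 := by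
    intro χ hχ
    by_contra hc
    push Not at hc
    apply MajorSection.cX_self_ne_zero hM hx hind hd (mem_bset.mp hχ)
    rw [h.cX_eq, hc.1, hc.2]
    simp
  obtain hA | ⟨hq1, hq2, hq0, -, hap, hc⟩ := RankTwoInt.cases p (Cfsg.blockDefect p b) hp
    h.pos hle hred h.2.2.1 h.2.2.2.1 h.2.2.2.2.1 h.2.2.2.2.2 (h.dvd_det hM hb) hne
  · -- the generic case: `|X|² + |Y|² + |X ± Y|²`
    obtain ⟨t, ht⟩ : ∃ t : ℤ, t * t = 1 ∧
        t * ∑ θ ∈ bset b, r₀ θ * r₁ θ = -|∑ θ ∈ bset b, r₀ θ * r₁ θ| := by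
      rcases le_total 0 (∑ θ ∈ bset b, r₀ θ * r₁ θ) with hb' | hb'
      · exact ⟨-1, by ring, by rw [abs_of_nonneg hb']; ring⟩
      · exact ⟨1, by ring, by rw [abs_of_nonpos hb']; ring⟩
    have h0 := hcnt _ hr0
    have h1 := hcnt _ hr1
    have h2 := hcnt _ (hr1.add_mul hr0 t)
    have hsum : ∑ θ ∈ bset b, (r₁ θ + t * r₀ θ) * (r₁ θ + t * r₀ θ) =
        ∑ θ ∈ bset b, r₁ θ * r₁ θ + 2 * (t * ∑ θ ∈ bset b, r₀ θ * r₁ θ) +
          t * t * ∑ θ ∈ bset b, r₀ θ * r₀ θ := by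
      simp only [Finset.mul_sum, ← Finset.sum_add_distrib]
      exact Finset.sum_congr rfl fun θ _ => by ring
    rw [hsum, ht.1, ht.2] at h2
    have h3 : 2 * (bset B).card ≤ ((bset B).filter fun χ => coord b x r₀ χ ≠ 0).card +
        ((bset B).filter fun χ => coord b x r₁ χ ≠ 0).card +
        ((bset B).filter fun χ => coord b x (fun θ => r₁ θ + t * r₀ θ) χ ≠ 0).card := by
      simp only [Finset.card_filter, ← Finset.sum_add_distrib]
      rw [mul_comm, ← smul_eq_mul]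
      refine Finset.card_nsmul_le_sum _ _ _ fun χ hχ => ?_
      have ht0 : (t : ℂ) ≠ 0 := Int.cast_ne_zero.mpr fun e => by rw [e] at ht; omega
      simp only [coord_add_mul]
      rcases hboth χ hχ with hX | hY
      · by_cases hY : coord b x r₁ χ = 0
        · simp [hX, hY, ht0]
        · simp [hX, hY]
      · by_cases hX : coord b x r₀ χ = 0
        · simp [hX, hY]
        · simp [hX, hY]
    rw [card_bset] at h3
    have : (Nat.card B : ℤ) ≤ (p : ℤ) ^ Cfsg.blockDefect p b := by omega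
    exact_mod_cast this
  · -- the diagonal case
    subst hq1 hq2
    set S₀ := (bset B).filter fun χ => coord b x r₁ χ = 0 with hS₀
    have hk : Nat.card B =
        S₀.card + ((bset B).filter fun χ => coord b x r₁ χ ≠ 0).card := by
      rw [← card_bset, hS₀, ← Finset.card_filter_add_card_filter_not
        (p := fun χ => coord b x r₁ χ = 0)]
    by_cases hS : S₀ = ∅
    · have h1 := hcnt _ hr1
      rw [hS, Finset.card_empty, zero_add] at hk
      rw [hc, ← hk] at h1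
      exact_mod_cast h1
    obtain ⟨χ₁, hχ₁⟩ := Finset.nonempty_iff_ne_empty.mpr hS
    rw [hS₀, Finset.mem_filter, mem_bset] at hχ₁
    -- the first coordinate is non-zero at height zero
    have hX : ∀ ψ ∈ B, vdeg p ψ = minVdeg p B → coord b x r₀ ψ ≠ 0 := by
      intro ψ hψ hψ0 e
      apply SectionHeight.cX_ne_zero_height hM hx hind hd hχ₁.1 hψ hψ0
      rw [h.cX_eq, hχ₁.2, e]
      simp
    have hdiv : ∀ χ ∈ B, vdeg p χ ≠ minVdeg p B →
        (Complex.normSq (coord b x r₁ χ) : ℂ) / (p : ℂ) ^ 1 ∈ localRing M := by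
      intro χ hχ hh
      obtain ⟨e, he⟩ : ∃ e, Cfsg.blockHeight p B (χ : G → ℂ) = e + 1 := by
        refine ⟨Cfsg.blockHeight p B (χ : G → ℂ) - 1, ?_⟩
        have := (blockHeight_eq_zero_iff (p := p) hχ).not.mpr hh
        omega
      obtain ⟨hm, -⟩ := SectionMajor.contrib_congr hM hx hind hd hχ hφ hφ0 φ
      rw [he] at hm
      obtain ⟨w, hw⟩ := hq0
      have hY : (conj (coord b x r₁ φ))⁻¹ ∈ localRing M := by
        refine inv_mem_localRing (hint' _ _) fun hmem => hunit ?_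
        rw [h.cX_eq]
        push_cast
        simp only [zero_mul, add_zero, one_mul]
        exact memLocalIdeal_add (memLocalIdeal_mul_right
          ((memLocalIdeal_intCast_iff hM _).mpr ⟨w, hw⟩) (mul_mem (hint _ _) (hint' _ _)))
          (memLocalIdeal_mul_left (hint _ _) hmem)
      have hY0 : conj (coord b x r₁ φ) ≠ 0 := by
        intro e0
        apply hunit
        rw [h.cX_eq, e0, map_eq_zero (starRingEnd ℂ) |>.mp e0]
        push_cast
        simp only [zero_mul, mul_zero, add_zero]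
        exact memLocalIdeal_mul_right ((memLocalIdeal_intCast_iff hM _).mpr ⟨w, hw⟩)
          (mul_mem (hint _ _) (hint' _ _))
      have hp0 : (p : ℂ) ≠ 0 := Nat.cast_ne_zero.mpr hp.ne_zero
      have key : (Complex.normSq (coord b x r₁ χ) : ℂ) / (p : ℂ) ^ 1 =
          (cX p b x χ φ / (p : ℂ) ^ (e + 1) * (p : ℂ) ^ e -
            (w : ℂ) * (coord b x r₀ χ * conj (coord b x r₀ φ))) *
            conj (coord b x r₁ χ) * (conj (coord b x r₁ φ))⁻¹ := by
        rw [h.cX_eq, hw, ← Complex.mul_conj, pow_succ]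
        push_cast
        field_simp
        ring
      rw [key]
      exact mul_mem (mul_mem (sub_mem (mul_mem hm (pow_mem (natCast_mem _ p) e))
        (mul_mem (intCast_mem _ w) (mul_mem (hint _ _) (hint' _ _)))) (hint' _ _)) hY
    have hT := count hM hx hind hr1 (fun n => n ≠ minVdeg p B) 1 hdiv
    rw [pow_one, hc] at hT
    set T := (bset B).filter fun χ => vdeg p χ ≠ minVdeg p B ∧ coord b x r₁ χ ≠ 0 with hTdef
    set U := (bset B).filter fun χ => coord b x r₀ χ ≠ 0 with hU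
    have hU' : (U.card : ℤ) ≤ ∑ θ ∈ bset b, r₀ θ * r₀ θ := hcnt _ hr0
    have hsub : bset B ⊆ U ∪ T := by
      intro χ hχ
      rw [Finset.mem_union, hU, hTdef, Finset.mem_filter, Finset.mem_filter]
      by_cases h0 : vdeg p χ = minVdeg p B
      · exact Or.inl ⟨hχ, hX χ (mem_bset.mp hχ) h0⟩
      · rcases hboth χ hχ with h | h
        · exact Or.inl ⟨hχ, h⟩
        · exact Or.inr ⟨hχ, h0, h⟩
    have hkle : (Nat.card B : ℤ) ≤ U.card + T.card := by
      rw [← card_bset]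
      exact_mod_cast (Finset.card_le_card hsub).trans (Finset.card_union_le _ _)
    have h2 : (p : ℤ) * (Nat.card B : ℤ) ≤ 2 * (p : ℤ) ^ Cfsg.blockDefect p b := by
      have h4 := mul_le_mul_of_nonneg_left (hkle.trans (add_le_add hU' le_rfl))
        (Int.natCast_nonneg p)
      rw [mul_add] at h4
      linarith
    have h5 : (p : ℤ) * (Nat.card B : ℤ) ≤ (p : ℤ) * (p : ℤ) ^ Cfsg.blockDefect p b :=
      h2.trans (mul_le_mul_of_nonneg_right (by exact_mod_cast hp.two_le) (by positivity))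
    exact_mod_cast le_of_mul_le_mul_left h5 (by exact_mod_cast hp.pos)

end Cfsg.Agent.Lib.BC78.RankTwo
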