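import Mathlib

/-!
# Integral binary forms coming from Cartan matrices of rank two

If `Q C = P` for integral symmetric `2 × 2` matrices with `P = p ^ d`, `C` reduced and positive,
`det Q` divisible by `p` but not all entries of `Q` so, then either `a + c - |b| ≤ P` or
`C = diag (a, P)` with `p a ≤ P` and `Q = diag (q₀, 1)` with `p ∣ q₀`.
-/

set_option autoImplicit false

namespace Cfsg.Agent.Lib.BC78.RankTwoInt

theorem key {q0 q1 q2 : ℤ} (h2 : 2 ≤ q2) (hle : q2 ≤ q0) (hb : 2 * |q1| ≤ q2) :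
    q2 + q0 - |q1| ≤ q0 * q2 - q1 * q1 := by
  rw [← abs_mul_abs_self q1]
  have ht : 0 ≤ |q1| := abs_nonneg q1
  generalize |q1| = t at hb ht ⊢
  rcases ht.eq_or_lt with rfl | ht
  · nlinarith [mul_nonneg (sub_nonneg.mpr h2) (sub_nonneg.mpr (h2.trans hle))]
  · nlinarith [mul_nonneg (show 0 ≤ q2 - 1 by omega) (show 0 ≤ q0 - q2 by omega),
      mul_le_mul (show 2 * t - 1 ≤ q2 - 1 by omega) (show 2 * t - 1 ≤ q2 - 1 by omega)
        (show 0 ≤ 2 * t - 1 by omega) (show 0 ≤ q2 - 1 by omega),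
      mul_nonneg (show 0 ≤ t by omega) (show 0 ≤ t - 1 by omega)]

theorem cases (p d : ℕ) (hp : p.Prime) {a b c q0 q1 q2 : ℤ} (ha : 0 < a) (hac : a ≤ c)
    (hb : 2 * |b| ≤ a) (e1 : q0 * a + q1 * b = (p : ℤ) ^ d) (e2 : q1 * a + q2 * b = 0)
    (e3 : q0 * b + q1 * c = 0) (e4 : q1 * b + q2 * c = (p : ℤ) ^ d)
    (hD : (p : ℤ) ∣ q0 * q2 - q1 * q1)
    (hne : ¬ ((p : ℤ) ∣ q0 ∧ (p : ℤ) ∣ q1 ∧ (p : ℤ) ∣ q2)) :
    a + c - |b| ≤ (p : ℤ) ^ d ∨
      (q1 = 0 ∧ q2 = 1 ∧ (p : ℤ) ∣ q0 ∧ b = 0 ∧ (p : ℤ) * a ≤ (p : ℤ) ^ d ∧ c = (p : ℤ) ^ d) := by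
  set P : ℤ := (p : ℤ) ^ d with hP
  set D := q0 * q2 - q1 * q1 with hDdef
  have ha' : a * D = P * q2 := by rw [hDdef]; linear_combination q2 * e1 - q1 * e2
  have hb' : b * D = -(P * q1) := by rw [hDdef]; linear_combination q0 * e2 - q1 * e1
  have hc' : c * D = P * q0 := by rw [hDdef]; linear_combination q0 * e4 - q1 * e3
  have hP0 : 0 < P := pow_pos (by exact_mod_cast hp.pos) d
  have hdet : 0 < a * c - b * b := by
    rw [← abs_mul_abs_self b]
    have h1 := abs_nonneg b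
    nlinarith [mul_le_mul hb hb (by positivity) ha.le, mul_le_mul_of_nonneg_left hac ha.le]
  have hD0' : D ≠ 0 := by
    intro h
    rw [h, mul_zero] at ha' hb' hc'
    have hq2 : q2 = 0 := (mul_eq_zero.mp ha'.symm).resolve_left hP0.ne'
    have hq1 : q1 = 0 := (mul_eq_zero.mp (neg_eq_zero.mp hb'.symm)).resolve_left hP0.ne'
    rw [hq2, hq1] at e4
    linarith
  have hDD : (a * c - b * b) * D = P * P := by
    refine mul_right_cancel₀ hD0' ?_
    calc (a * c - b * b) * D * D = (a * D) * (c * D) - (b * D) * (b * D) := by ring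
      _ = P * P * D := by rw [ha', hb', hc', hDdef]; ring
  have hDpos : 0 < D := (mul_pos_iff_of_pos_left hdet).mp (hDD.symm ▸ mul_pos hP0 hP0)
  obtain ⟨e, -, he⟩ := (Nat.dvd_prime_pow hp).mp (show D.natAbs ∣ p ^ (d + d) from
    Int.natCast_dvd_natCast.mp (by
      rw [Int.natAbs_of_nonneg hDpos.le]
      exact ⟨a * c - b * b, by rw [mul_comm, hDD, hP]; push_cast; rw [pow_add]⟩))
  have heD : D = (p : ℤ) ^ e := by
    rw [← Int.natAbs_of_nonneg hDpos.le, he, Nat.cast_pow]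
  have he1 : 1 ≤ e := by
    by_contra h
    rw [show e = 0 by omega, pow_zero] at heD
    rw [heD] at hD
    exact hp.one_lt.ne' (by exact_mod_cast Int.eq_one_of_dvd_one (by positivity) hD)
  have hed : e ≤ d := by
    by_contra h
    obtain ⟨t, rfl⟩ : ∃ t, e = d + (t + 1) := ⟨e - d - 1, by omega⟩
    rw [heD, pow_add, ← hP] at ha' hb' hc'
    refine hne ⟨⟨c * (p : ℤ) ^ t, mul_left_cancel₀ hP0.ne' ?_⟩,
      ⟨-(b * (p : ℤ) ^ t), mul_left_cancel₀ hP0.ne' ?_⟩,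
      ⟨a * (p : ℤ) ^ t, mul_left_cancel₀ hP0.ne' ?_⟩⟩
    · linear_combination -hc'
    · linear_combination hb'
    · linear_combination -ha'
  obtain ⟨s, rfl⟩ := Nat.exists_eq_add_of_le hed
  set u : ℤ := (p : ℤ) ^ s with hu
  have hu0 : 0 < u := pow_pos (by exact_mod_cast hp.pos) s
  have hPu : P = u * D := by rw [hP, pow_add, hu, heD, mul_comm]
  rw [hPu] at ha' hb' hc'
  have haq : a = u * q2 := mul_right_cancel₀ hD0' (by linear_combination ha')
  have hbq : b = -(u * q1) := mul_right_cancel₀ hD0' (by linear_combination hb')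
  have hcq : c = u * q0 := mul_right_cancel₀ hD0' (by linear_combination hc')
  have habs : |b| = u * |q1| := by rw [hbq, abs_neg, abs_mul, abs_of_pos hu0]
  have hq2 : 0 < q2 := (mul_pos_iff_of_pos_left hu0).mp (haq ▸ ha)
  have hle : q2 ≤ q0 := le_of_mul_le_mul_left (haq ▸ hcq ▸ hac) hu0
  have hb2 : 2 * |q1| ≤ q2 := by
    refine le_of_mul_le_mul_left ?_ hu0
    rw [← haq]
    linarith
  by_cases h : 2 ≤ q2
  · left
    rw [haq, hcq, habs, hPu, ← mul_add, ← mul_sub]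
    exact mul_le_mul_of_nonneg_left (key h hle hb2) hu0.le
  · right
    have h2 : q2 = 1 := by omega
    have h1 : q1 = 0 := abs_eq_zero.mp (by have := abs_nonneg q1; omega)
    have hq0 : q0 = D := by rw [hDdef, h1, h2]; ring
    refine ⟨h1, h2, hq0 ▸ hD, by rw [hbq, h1, mul_zero, neg_zero], ?_, ?_⟩
    · rw [haq, h2, mul_one, hPu, mul_comm]
      refine mul_le_mul_of_nonneg_left ?_ hu0.le
      exact Int.le_of_dvd hDpos hD
    · rw [hcq, hq0, ← hPu]

end Cfsg.Agent.Lib.BC78.RankTwoInt
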