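import Cfsg.Agent.Lib.BC78.SectionMajor

/-!
# Divisibility of the Galois means at a major 2-subsection

* `even_of_div_mem` : an integral polynomial of small degree whose value at a root of unity of
  `2`-power order is divisible by a power of `ω - 1` has even coefficients;
* `dvd_mean` : the mean of a sum of roots of unity inherits the divisibility of the sum;
* `exists_major_means` : the means of the diagonal contributions at a major subsection;
* `count_bound` : the bound `3 k₀ + 2 Σ 2^h ≤ 3 · 2^d`.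
-/

set_option autoImplicit false
set_option linter.unusedSectionVars false

namespace Cfsg.Agent.Lib.BC78.SectionDiv

open scoped ComplexConjugate Polynomial
open Cfsg.Agent.Lib.Characters.Basic Cfsg.Agent.Lib.Blocks Cfsg.Agent.Lib.Blocks.Contrib
open Cfsg.Agent.Lib.Blocks.SectionMatrix

universe u

section poly

variable {M : Ideal Cfsg.AlgInt} [M.IsMaximal] (hM : Cfsg.IsPModular 2 M)

include hM

theorem sub_one_mem_ideal {n : ℕ} {ω : ℂ} (hω : IsPrimitiveRoot ω (2 ^ (n + 1))) :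
    Cfsg.MemLocalIdeal M (ω - 1) := by
  have hmem : ω ∈ localRing M :=
    mem_localRing_of_isIntegral (hω.isIntegral (Nat.pow_pos two_pos))
  have h := residue_eq_one_of_pow_eq_one hM (z := (⟨ω, hmem⟩ : localRing M))
    (k := n + 1) (Subtype.ext (by push_cast; exact hω.pow_eq_one))
  have h2 := (memLocalIdeal_sub_iff (M := M) (x := (⟨ω, hmem⟩ : localRing M)) (y := 1)).mpr
    (by rw [h, map_one])
  simpa using h2

/-- `2` is divisible by `(ω - 1)` to the degree. -/
theorem two_div_mem : ∀ (n : ℕ) {ω : ℂ}, IsPrimitiveRoot ω (2 ^ (n + 1)) →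
    (2 : ℂ) / (ω - 1) ^ 2 ^ n ∈ localRing M := by
  intro n
  induction n with
  | zero =>
    intro ω hω
    rw [show ω = -1 from hω.eq_neg_one_of_two_right]
    norm_num
  | succ n ih =>
    intro ω hω
    have hN : (2 : ℕ) ^ (n + 1 + 1) = 2 * 2 ^ (n + 1) := by rw [pow_succ]; ring
    have hω2 : IsPrimitiveRoot (ω ^ 2) (2 ^ (n + 1)) := hω.pow (Nat.pow_pos two_pos) hN
    have hπ : ω - 1 ≠ 0 := sub_ne_zero.mpr (hω.ne_one (Nat.one_lt_two_pow (by omega)))
    have hπ2 : ω ^ 2 - 1 ≠ 0 := sub_ne_zero.mpr (hω2.ne_one (Nat.one_lt_two_pow (by omega)))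
    have hr := ih hω2
    have hωmem : ω ∈ localRing M :=
      mem_localRing_of_isIntegral (hω.isIntegral (Nat.pow_pos two_pos))
    have e : ω ^ 2 - 1 = (ω - 1) * (ω + 1) := by ring
    have hs : (2 : ℂ) / (ω - 1) ∈ localRing M := by
      obtain ⟨t, ht⟩ : ∃ t, 2 ^ n = t + 1 := ⟨2 ^ n - 1, by have := Nat.one_le_two_pow (n := n); omega⟩
      have : (2 : ℂ) / (ω - 1) =
          2 / (ω ^ 2 - 1) ^ 2 ^ n * ((ω - 1) ^ t * (ω + 1) ^ 2 ^ n) := by
        have h1 : (ω + 1) ≠ 0 := fun h => hπ2 (by rw [e, h, mul_zero])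
        rw [e, mul_pow, ht, pow_succ (ω - 1) t]
        field_simp
      rw [this]
      exact mul_mem hr (mul_mem (pow_mem (sub_mem hωmem (one_mem _)) _)
        (pow_mem (add_mem hωmem (one_mem _)) _))
    have hprod : (2 : ℂ) / (ω - 1) ^ 2 ^ (n + 1) =
        2 / (ω ^ 2 - 1) ^ 2 ^ n * (1 + 2 / (ω - 1)) ^ 2 ^ n := by
      have h1 : (ω + 1) ≠ 0 := fun h => hπ2 (by rw [e, h, mul_zero])
      rw [show 1 + 2 / (ω - 1) = (ω + 1) / (ω - 1) by field_simp; ring, e, mul_pow, div_pow,
        pow_succ, mul_comm (2 ^ n) 2, pow_mul']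
      field_simp
    rw [hprod]
    exact mul_mem hr (pow_mem (add_mem (one_mem _) hs) _)

theorem aeval_mem {n : ℕ} {ω : ℂ} (hω : IsPrimitiveRoot ω (2 ^ (n + 1))) (P : ℤ[X]) :
    Polynomial.aeval ω P ∈ localRing M :=
  by
    rw [Polynomial.aeval_eq_sum_range]
    exact sum_mem fun i _ => zsmul_mem (pow_mem
      (mem_localRing_of_isIntegral (hω.isIntegral (Nat.pow_pos two_pos))) _) _

theorem eval_one_even {n : ℕ} {ω : ℂ} (hω : IsPrimitiveRoot ω (2 ^ (n + 1))) {P : ℤ[X]}
    (h : Cfsg.MemLocalIdeal M (Polynomial.aeval ω P)) : (2 : ℤ) ∣ P.eval 1 := by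
  have hdec : P = (Polynomial.X - Polynomial.C 1) * (P /ₘ (Polynomial.X - Polynomial.C 1)) +
      Polynomial.C (P.eval 1) := by
    conv_lhs => rw [← Polynomial.modByMonic_add_div P (Polynomial.X - Polynomial.C 1),
      Polynomial.modByMonic_X_sub_C_eq_C_eval]
    ring
  have e : ((P.eval 1 : ℤ) : ℂ) = Polynomial.aeval ω P -
      (ω - 1) * Polynomial.aeval ω (P /ₘ (Polynomial.X - Polynomial.C 1)) := by
    conv_rhs => arg 1; rw [hdec]
    simp only [map_add, map_mul, map_sub, Polynomial.aeval_X, Polynomial.aeval_C, map_one]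
    simp [Algebra.algebraMap_eq_smul_one]
  refine (memLocalIdeal_intCast_iff hM _).mp ?_
  rw [e]
  exact memLocalIdeal_sub h (memLocalIdeal_mul_right (sub_one_mem_ideal hM hω)
    (aeval_mem hM hω _))

/-- Small degree and a value divisible by a power of `ω - 1` force even coefficients. -/
theorem even_of_div_mem {n : ℕ} {ω : ℂ} (hω : IsPrimitiveRoot ω (2 ^ (n + 1))) :
    ∀ (d : ℕ), d ≤ 2 ^ n → ∀ P : ℤ[X], P.natDegree < d →
      Polynomial.aeval ω P / (ω - 1) ^ d ∈ localRing M → ∀ m, (2 : ℤ) ∣ P.coeff m := by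
  intro d
  induction d with
  | zero => intro _ P hP; exact absurd hP (by omega)
  | succ d ih =>
    intro hd P hP hval m
    have hπ : ω - 1 ≠ 0 := sub_ne_zero.mpr (hω.ne_one (Nat.one_lt_two_pow (by omega)))
    have hπmem : ω - 1 ∈ localRing M :=
      sub_mem (mem_localRing_of_isIntegral (hω.isIntegral (Nat.pow_pos two_pos))) (one_mem _)
    set q := P /ₘ (Polynomial.X - Polynomial.C 1) with hq
    have hev : (2 : ℤ) ∣ P.eval 1 := by
      refine eval_one_even hM hω ?_
      have h := memLocalIdeal_mul_left hval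
        (memLocalIdeal_mul_left (pow_mem hπmem d) (sub_one_mem_ideal hM hω))
      rwa [← pow_succ, div_mul_cancel₀ _ (pow_ne_zero _ hπ)] at h
    have hdec : P = (Polynomial.X - Polynomial.C 1) * q + Polynomial.C (P.eval 1) := by
      conv_lhs => rw [← Polynomial.modByMonic_add_div P (Polynomial.X - Polynomial.C 1),
        Polynomial.modByMonic_X_sub_C_eq_C_eval]
      rw [hq]
      ring
    have hqall : ∀ i, (2 : ℤ) ∣ q.coeff i := by
      rcases Nat.eq_zero_or_pos d with hd0 | hdpos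
      · intro i
        have : q = 0 := (Polynomial.divByMonic_eq_zero_iff (Polynomial.monic_X_sub_C 1)).mpr (by
          rw [Polynomial.degree_X_sub_C]
          exact lt_of_le_of_lt Polynomial.degree_le_natDegree (by exact_mod_cast (by omega : P.natDegree < 1)))
        simp [this]
      · obtain ⟨t, ht⟩ := hev
        refine ih (by omega) q ?_ ?_
        · rw [hq, Polynomial.natDegree_divByMonic P (Polynomial.monic_X_sub_C 1),
            Polynomial.natDegree_X_sub_C]
          omega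
        · obtain ⟨r, hr⟩ : ∃ r, 2 ^ n = (d + 1) + r := ⟨2 ^ n - (d + 1), by omega⟩
          have e : Polynomial.aeval ω q / (ω - 1) ^ d =
              Polynomial.aeval ω P / (ω - 1) ^ (d + 1) -
                (t : ℂ) * (2 / (ω - 1) ^ 2 ^ n * (ω - 1) ^ r) := by
            have e1 : Polynomial.aeval ω P = (ω - 1) * Polynomial.aeval ω q + 2 * (t : ℂ) := by
              conv_lhs => rw [hdec, ht]
              simp only [map_add, map_mul, map_sub, Polynomial.aeval_X, Polynomial.aeval_C, map_one,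
                map_ofNat]
              simp [map_ofNat]
            rw [e1, hr, pow_add, pow_succ]
            field_simp
            ring
          rw [e]
          exact sub_mem hval (mul_mem (intCast_mem _ t)
            (mul_mem (two_div_mem hM n hω) (pow_mem hπmem r)))
    rw [hdec, Polynomial.coeff_add, Polynomial.coeff_C]
    refine dvd_add ?_ (by split_ifs <;> [exact hev; exact dvd_zero _])
    rw [sub_mul, Polynomial.coeff_sub, Polynomial.coeff_C_mul, one_mul]
    refine dvd_sub ?_ (hqall m)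
    cases m with
    | zero => simp
    | succ m => rw [Polynomial.coeff_X_mul]; exact hqall m

theorem pow_dvd_coeff {n : ℕ} {ω : ℂ} (hω : IsPrimitiveRoot ω (2 ^ (n + 1))) :
    ∀ (h : ℕ) (P : ℤ[X]), P.natDegree < 2 ^ n →
      Polynomial.aeval ω P / (2 : ℂ) ^ h ∈ localRing M →
      ∃ Q : ℤ[X], P = Polynomial.C ((2 : ℤ) ^ h) * Q ∧
        Polynomial.aeval ω P / (2 : ℂ) ^ h = Polynomial.aeval ω Q := by
  intro h
  induction h with
  | zero => intro P _ _; exact ⟨P, by simp, by simp⟩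
  | succ h ih =>
    intro P hP hval
    have hπ : ω - 1 ≠ 0 := sub_ne_zero.mpr (hω.ne_one (Nat.one_lt_two_pow (by omega)))
    have hdiv : Polynomial.aeval ω P / (ω - 1) ^ 2 ^ n ∈ localRing M := by
      have e : Polynomial.aeval ω P / (ω - 1) ^ 2 ^ n =
          Polynomial.aeval ω P / (2 : ℂ) ^ (h + 1) * ((2 : ℂ) ^ h * (2 / (ω - 1) ^ 2 ^ n)) := by
        rw [pow_succ]
        field_simp
      rw [e]
      exact mul_mem hval (mul_mem (pow_mem (natCast_mem _ 2) _) (two_div_mem hM n hω))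
    obtain ⟨P', hP'⟩ := (Polynomial.C_dvd_iff_dvd_coeff (2 : ℤ) P).mpr
      (even_of_div_mem hM hω _ le_rfl P hP hdiv)
    have hdeg : P'.natDegree < 2 ^ n := by
      rw [hP', Polynomial.natDegree_C_mul two_ne_zero] at hP
      exact hP
    have e : Polynomial.aeval ω P / (2 : ℂ) ^ (h + 1) = Polynomial.aeval ω P' / (2 : ℂ) ^ h := by
      rw [hP', map_mul, Polynomial.aeval_C, pow_succ]
      simp only [map_ofNat]
      field_simp
    obtain ⟨Q, hQ, hQ'⟩ := ih P' hdeg (e ▸ hval)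
    refine ⟨Q, ?_, e.trans hQ'⟩
    rw [hP', hQ, pow_succ, map_mul]
    ring

/-- The mean over the odd exponents inherits the divisibility of a sum of roots of unity. -/
theorem dvd_mean {I : Type*} [Fintype I] (f : I → I) (hf : Function.Involutive f) (c : I → ℤ)
    (hc : ∀ i, c (f i) = c i) (w : I → ℂ) (hw : ∀ i, w (f i) = (w i)⁻¹) {j : ℕ}
    (hwj : ∀ i, w i ^ 2 ^ j = 1) {a : ℤ}
    (ha : ∑ k ∈ Finset.range (2 ^ j), ∑ i, (c i : ℂ) * w i ^ (2 * k + 1) = (2 : ℂ) ^ j * (a : ℂ))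
    {h : ℕ} (hdiv : (∑ i, (c i : ℂ) * w i) / (2 : ℂ) ^ h ∈ localRing M) :
    (2 : ℤ) ^ h ∣ a ∧
      (Cfsg.MemLocalIdeal M ((∑ i, (c i : ℂ) * w i) / (2 : ℂ) ^ h) → (2 : ℤ) ^ (h + 1) ∣ a) := by
  classical
  obtain ⟨ω, hω⟩ : ∃ ω : ℂ, IsPrimitiveRoot ω (2 ^ (j + 1)) :=
    ⟨_, Complex.isPrimitiveRoot_exp (2 ^ (j + 1)) (pow_ne_zero _ two_ne_zero)⟩
  set D := 2 ^ j with hD
  have hDpos : 0 < D := Nat.pow_pos two_pos
  have h2D : 2 ^ (j + 1) = D + D := by rw [hD, pow_succ]; ring
  have hωD : ω ^ D = -1 :=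
    (hω.pow (Nat.pow_pos two_pos) (by rw [h2D]; ring)).eq_neg_one_of_two_right
  have hinj : ∀ a b : ℕ, a < D + D → b < D + D → ω ^ a = ω ^ b → a = b := fun a b ha hb e =>
    hω.pow_inj (h2D ▸ ha) (h2D ▸ hb) e
  have hrep : ∀ i, ∃ sm : ℤ × ℕ, (sm.1 = 1 ∨ sm.1 = -1) ∧ sm.2 < D ∧
      w i = (sm.1 : ℂ) * ω ^ sm.2 := by
    intro i
    obtain ⟨e, he, hwe⟩ := hω.eq_pow_of_pow_eq_one
      (show w i ^ 2 ^ (j + 1) = 1 by rw [pow_succ, pow_mul, hwj, one_pow])
    by_cases hlt : e < D
    · exact ⟨(1, e), Or.inl rfl, hlt, by simp [hwe]⟩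
    · refine ⟨(-1, e - D), Or.inr rfl, by omega, ?_⟩
      rw [← hwe, show e = (e - D) + D by omega, pow_add, hωD]
      simp
  choose sm hs hm hwi using hrep
  have huniq : ∀ (s s' : ℤ) (m m' : ℕ), (s = 1 ∨ s = -1) → (s' = 1 ∨ s' = -1) → m < D → m' < D →
      (s : ℂ) * ω ^ m = (s' : ℂ) * ω ^ m' → s = s' ∧ m = m' := by
    intro s s' m m' h1 h2 h3 h4 e
    rcases h1 with rfl | rfl <;> rcases h2 with rfl | rfl <;> simp only [Int.cast_one,
      Int.cast_neg, one_mul, neg_mul] at e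
    · exact ⟨rfl, hinj m m' (by omega) (by omega) e⟩
    · have := hinj m (m' + D) (by omega) (by omega) (by rw [e, pow_add, hωD]; ring)
      omega
    · have := hinj (m + D) m' (by omega) (by omega) (by rw [← e, pow_add, hωD]; ring)
      omega
    · exact ⟨rfl, hinj m m' (by omega) (by omega) (neg_injective e)⟩
  -- the polynomial of the sum
  set P : ℤ[X] := ∑ i, Polynomial.C (c i * (sm i).1) * Polynomial.X ^ (sm i).2 with hP
  have hPdeg : P.natDegree < D := by
    have : P.natDegree ≤ D - 1 := Polynomial.natDegree_sum_le_of_forall_le _ _ fun i _ =>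
      (Polynomial.natDegree_C_mul_X_pow_le _ _).trans (by have := hm i; omega)
    omega
  have hPval : Polynomial.aeval ω P = ∑ i, (c i : ℂ) * w i := by
    rw [hP, map_sum]
    refine Finset.sum_congr rfl fun i _ => ?_
    rw [map_mul, Polynomial.aeval_C, map_pow, Polynomial.aeval_X, hwi i]
    simp [mul_assoc]
  have hcoeff : ∀ m, P.coeff m = ∑ i, if (sm i).2 = m then c i * (sm i).1 else 0 := by
    intro m
    rw [hP, Polynomial.finsetSum_coeff]
    refine Finset.sum_congr rfl fun i _ => ?_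
    rw [Polynomial.coeff_C_mul_X_pow]
    exact if_congr eq_comm rfl rfl
  have hP0 : P.coeff 0 = a := by
    have e : ∀ i, ∑ k ∈ Finset.range D, (c i : ℂ) * w i ^ (2 * k + 1) =
        (D : ℂ) * ((if (sm i).2 = 0 then c i * (sm i).1 else 0 : ℤ) : ℂ) := by
      intro i
      rw [← Finset.mul_sum]
      simp only [fun k => show w i ^ (2 * k + 1) = (w i ^ 2) ^ k * w i by rw [pow_succ, pow_mul],
        ← Finset.sum_mul]
      by_cases h0 : (sm i).2 = 0
      · rw [if_pos h0, hwi i, h0, pow_zero, mul_one,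
          show ((sm i).1 : ℂ) ^ 2 = 1 by rcases hs i with h | h <;> simp [h]]
        simp only [one_pow, Finset.sum_const, Finset.card_range, nsmul_eq_mul, mul_one]
        push_cast
        ring
      · rw [if_neg h0]
        have hne : w i ^ 2 ≠ 1 := by
          intro h1
          rcases sq_eq_one_iff.mp h1 with h2 | h2
          · exact h0 ((huniq _ 1 _ 0 (hs i) (Or.inl rfl) (hm i) hDpos
              (by rw [← hwi i, h2]; simp)).2)
          · exact h0 ((huniq _ (-1) _ 0 (hs i) (Or.inr rfl) (hm i) hDpos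
              (by rw [← hwi i, h2]; simp)).2)
        rw [geom_sum_eq hne, ← pow_mul, mul_comm 2, pow_mul, hwj, one_pow, sub_self, zero_div,
          zero_mul, mul_zero, Int.cast_zero, mul_zero]
    rw [Finset.sum_comm, Finset.sum_congr rfl fun i _ => e i, ← Finset.mul_sum, ← Int.cast_sum,
      ← hcoeff, hD, Nat.cast_pow, Nat.cast_ofNat] at ha
    exact_mod_cast mul_left_cancel₀ (pow_ne_zero _ two_ne_zero) ha
  rw [← hPval] at hdiv ⊢
  obtain ⟨Q, hQ, hQval⟩ := pow_dvd_coeff hM hω h P hPdeg hdiv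
  refine ⟨⟨Q.coeff 0, by rw [← hP0, hQ, Polynomial.coeff_C_mul]⟩, fun hmem => ?_⟩
  rw [hQval] at hmem
  have hQ1 := eval_one_even hM hω hmem
  have hQdeg : Q.natDegree < D := by
    rw [hQ, Polynomial.natDegree_C_mul (pow_ne_zero _ two_ne_zero)] at hPdeg
    exact hPdeg
  -- the coefficients are skew symmetric
  have hskew : ∀ m, 0 < m → m < D → Q.coeff (D - m) = - Q.coeff m := by
    intro m hm0 hmD
    have hfi : ∀ i, (sm i).2 = m → (sm (f i)).2 = D - m ∧ (sm (f i)).1 = -(sm i).1 := by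
      intro i hi
      have e : w (f i) = ((-(sm i).1 : ℤ) : ℂ) * ω ^ (D - m) := by
        rw [hw i]
        refine inv_eq_of_mul_eq_one_right ?_
        rw [hwi i, hi, mul_mul_mul_comm, ← pow_add, show m + (D - m) = D by omega, hωD]
        rcases hs i with h | h <;> simp [h]
      rw [hwi] at e
      have := huniq _ _ _ _ (hs (f i)) (by rcases hs i with h | h <;> simp [h]) (hm (f i))
        (by omega) e
      exact ⟨this.2, this.1⟩
    have hP' : P.coeff (D - m) = - P.coeff m := by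
      rw [hcoeff, hcoeff, ← Finset.sum_neg_distrib]
      refine Fintype.sum_equiv hf.toPerm _ _ fun i => ?_
      show _ = -(if (sm (f i)).2 = m then c (f i) * (sm (f i)).1 else 0)
      by_cases hi : (sm (f i)).2 = m
      · have h := hfi (f i) hi
        rw [hf i] at h
        rw [if_pos h.1, if_pos hi, hc, h.2]
        ring
      · rw [if_neg hi, neg_zero, if_neg]
        intro hi'
        apply hi
        have hm' : 0 < (sm i).2 := by omega
        have e : w (f i) = ((-(sm i).1 : ℤ) : ℂ) * ω ^ m := by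
          rw [hw i]
          refine inv_eq_of_mul_eq_one_right ?_
          rw [hwi i, hi', mul_mul_mul_comm, ← pow_add, show D - m + m = D by omega, hωD]
          rcases hs i with h | h <;> simp [h]
        rw [hwi] at e
        exact (huniq _ _ _ _ (hs (f i)) (by rcases hs i with h | h <;> simp [h]) (hm (f i))
          (by omega) e).2
    rw [hQ, Polynomial.coeff_C_mul, Polynomial.coeff_C_mul, ← mul_neg] at hP'
    exact mul_left_cancel₀ (pow_ne_zero _ two_ne_zero) hP'
  have hsplit : (2 : ℤ) ∣ Q.eval 1 - Q.coeff 0 := by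
    rw [Polynomial.eval_eq_sum_range' hQdeg, ← Finset.add_sum_erase _ _
      (Finset.mem_range.mpr hDpos)]
    simp only [one_pow, mul_one, add_sub_cancel_left]
    refine (ZMod.intCast_zmod_eq_zero_iff_dvd _ 2).mp ?_
    push_cast
    refine Finset.sum_involution (fun m _ => D - m) (fun m hm => ?_) (fun m hm hne hfix => hne ?_)
      (fun m hm => ?_) (fun m hm => ?_) <;>
      (rw [Finset.mem_erase, Finset.mem_range] at hm)
    · rw [hskew m (by omega) hm.2, Int.cast_neg, add_neg_cancel]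
    · have h := hskew m (by omega) hm.2
      rw [hfix] at h
      rw [show Q.coeff m = 0 by omega, Int.cast_zero]
    · rw [Finset.mem_erase, Finset.mem_range]
      omega
    · omega
  have h0 : (2 : ℤ) ∣ Q.coeff 0 := by
    have := dvd_sub hQ1 hsplit
    simpa using this
  rw [← hP0, hQ, Polynomial.coeff_C_mul, pow_succ]
  exact mul_dvd_mul_left _ h0

end poly

section means

variable {G : Type u} [Group G] [Fintype G] {H : Subgroup G} [Fintype H]
  {b : Set (Cfsg.IrrCharacter H)} {M : Ideal Cfsg.AlgInt} [M.IsMaximal]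
  (hM : Cfsg.IsPModular 2 M) [Fact (Nat.Prime 2)]
  {x : H} (hx : Pelt 2 x) {j : ℕ} (hj : orderOf x = 2 ^ j) {B : Set (Cfsg.IrrCharacter G)}
  (hind : Cfsg.IsInducedBlock M H b B) (hd : Cfsg.blockDefect 2 b = Cfsg.blockDefect 2 B)

/-- The coefficients of a contribution. -/
noncomputable def coef (b : Set (Cfsg.IrrCharacter H)) (χ ψ : Cfsg.IrrCharacter G)
    (i : bset b × bset b) : ℤ :=
  (mult H χ i.1 : ℤ) * nq 2 b i.1 i.2 * (mult H ψ i.2 : ℤ)

/-- The roots of unity of a contribution. -/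
noncomputable def root (b : Set (Cfsg.IrrCharacter H)) (x : H) (i : bset b × bset b) : ℂ :=
  lam x i.1 * (lam x i.2)⁻¹

theorem coef_swap (χ ψ : Cfsg.IrrCharacter G) (i : bset b × bset b) :
    coef b χ ψ (i.2, i.1) = coef b ψ χ i := by
  simp only [coef]; rw [nq_comm]; ring

theorem root_swap (x : H) (i : bset b × bset b) : root b x (i.2, i.1) = (root b x i)⁻¹ := by
  simp only [root]; rw [mul_inv, inv_inv, mul_comm]

theorem formX_eq (x : H) (k : ℕ) (χ ψ : Cfsg.IrrCharacter G) :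
    formX 2 b (fun θ => lam x θ ^ k) χ ψ = ∑ i, (coef b χ ψ i : ℂ) * root b x i ^ k := by
  simp only [formX, Fintype.sum_prod_type, coef, root, Finset.sum_mul]
  rw [Finset.sum_comm, ← Finset.sum_coe_sort (bset b)]
  refine Finset.sum_congr rfl fun θ _ => ?_
  rw [← Finset.sum_coe_sort (bset b)]
  refine Finset.sum_congr rfl fun ζ _ => ?_
  rw [mul_pow, inv_pow]
  push_cast
  ring

include hx in
theorem cX_eq (χ ψ : Cfsg.IrrCharacter G) :
    cX 2 b x χ ψ = ∑ i, (coef b χ ψ i : ℂ) * root b x i := by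
  rw [cX_eq_formX hx.commute, ← funext fun θ => pow_one (lam x θ), formX_eq]
  simp only [pow_one]

include hx hj in
theorem root_pow (i : bset b × bset b) : root b x i ^ 2 ^ j = 1 := by
  simp only [root]
  rw [mul_pow, inv_pow, lam_pow hx.commute (hj ▸ pow_orderOf_eq_one x),
    lam_pow hx.commute (hj ▸ pow_orderOf_eq_one x), inv_one, one_mul]

include hM hx hind hd in
/-- The contribution against a character of height zero has exact valuation. -/
theorem contrib_exact {χ ψ : Cfsg.IrrCharacter G} (hχ : χ ∈ B) (hψ : ψ ∈ B)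
    (h0 : vdeg 2 ψ = minVdeg 2 B) :
    cX 2 b x χ ψ / (2 : ℂ) ^ Cfsg.blockHeight 2 B (χ : G → ℂ) ∈ localRing M ∧
      ¬ Cfsg.MemLocalIdeal M (cX 2 b x χ ψ / (2 : ℂ) ^ Cfsg.blockHeight 2 B (χ : G → ℂ)) := by
  obtain ⟨h1, h2⟩ := SectionMajor.contrib_congr hM hx hind hd hχ hψ h0 ψ
  simp only [Nat.cast_ofNat] at h1 h2
  refine ⟨h1, fun hmem => ?_⟩
  have h3 := memLocalIdeal_sub (memLocalIdeal_mul_right hmem (natCast_mem _ (udeg 2 ψ))) h2
  rw [sub_sub_cancel] at h3
  have hsum := SectionMeans.coef_sum_ne_zero hM hind hψ hψ h0 h0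
  apply hsum
  rw [ZMod.intCast_zmod_eq_zero_iff_dvd, ← memLocalIdeal_intCast_iff hM]
  have hu : ¬ 2 ∣ udeg 2 χ := not_dvd_udeg Nat.prime_two χ
  have h4 := memLocalIdeal_mul_right h3 (natCast_inv_mem_localRing hM hu)
  rw [mul_assoc, mul_inv_cancel₀ (Nat.cast_ne_zero.mpr (udeg_ne_zero Nat.prime_two χ)),
    mul_one, cX_eq hx] at h4
  obtain ⟨k, hk⟩ := hx.pow
  rw [Subgroup.orderOf_coe] at hk
  have hroot : ∀ i : bset b × bset b, Cfsg.MemLocalIdeal M (root b x i - 1) := fun i => by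
    have hw := root_pow hx hk i
    have hmem' : root b x i ∈ localRing M := mem_localRing_of_isIntegral
      (IsIntegral.of_pow (Nat.pow_pos two_pos : 0 < 2 ^ k) (by rw [hw]; exact isIntegral_one))
    have h := residue_eq_one_of_pow_eq_one hM (z := (⟨_, hmem'⟩ : localRing M)) (k := k)
      (Subtype.ext (by push_cast; exact hw))
    have h' := (memLocalIdeal_sub_iff (M := M) (x := (⟨_, hmem'⟩ : localRing M)) (y := 1)).mpr
      (by rw [h, map_one])
    simpa using h'
  have e : ((∑ ζ ∈ bset b, (∑ θ ∈ bset b, (mult H ψ θ : ℤ) * nq 2 b θ ζ) * (mult H ψ ζ : ℤ) : ℤ)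
      : ℂ) = (∑ i, (coef b ψ ψ i : ℂ) * root b x i) -
        ∑ i, (coef b ψ ψ i : ℂ) * (root b x i - 1) := by
    rw [← Finset.sum_sub_distrib]
    simp only [mul_sub, mul_one, sub_sub_cancel, Fintype.sum_prod_type, coef, Finset.sum_mul]
    push_cast
    rw [Finset.sum_comm, ← Finset.sum_coe_sort (bset b)]
    refine Finset.sum_congr rfl fun θ _ => ?_
    rw [← Finset.sum_coe_sort (bset b)]
  rw [e]
  exact memLocalIdeal_sub h4
    (memLocalIdeal_sum _ fun i _ => memLocalIdeal_mul_left (intCast_mem _ _) (hroot i))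

include hM hx hind hd in
/-- A diagonal contribution at positive height is divisible by one more power. -/
theorem contrib_self_mem {χ : Cfsg.IrrCharacter G} (hχ : χ ∈ B)
    (hpos : 0 < Cfsg.blockHeight 2 B (χ : G → ℂ)) :
    cX 2 b x χ χ / (2 : ℂ) ^ Cfsg.blockHeight 2 B (χ : G → ℂ) ∈ localRing M ∧
      Cfsg.MemLocalIdeal M (cX 2 b x χ χ / (2 : ℂ) ^ Cfsg.blockHeight 2 B (χ : G → ℂ)) := by
  obtain ⟨φ, hφ, h0⟩ := exists_height_zero (p := 2) hind.2.1
  obtain ⟨h1, h2⟩ := SectionMajor.contrib_congr hM hx hind hd hχ hφ h0 χ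
  obtain ⟨h3, -⟩ := contrib_exact hM hx hind hd hχ hφ h0
  simp only [Nat.cast_ofNat] at h1 h2
  refine ⟨h1, ?_⟩
  set h := Cfsg.blockHeight 2 B (χ : G → ℂ) with hh
  obtain ⟨t, ht⟩ : ∃ t, h = t + 1 := ⟨h - 1, by omega⟩
  -- `cX φ χ` is the conjugate of `cX χ φ`
  have hconj : Cfsg.MemLocalIdeal M (cX 2 b x φ χ) := by
    have hmem : cX 2 b x φ χ / (2 : ℂ) ^ h ∈ localRing M := by
      obtain ⟨k, hk⟩ := hx.pow
      rw [Subgroup.orderOf_coe] at hk
      obtain ⟨k', hk', hreg, hF⟩ := SectionMeans.form_pow_eq hM hind.1 hx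
        (k := 2 * (2 ^ k - 1) + 1) (Nat.coprime_two_right.mpr ⟨_, rfl⟩)
      have hB := hind.2.1
      have hinv : ∀ θ : Cfsg.IrrCharacter H, lam x θ ^ (2 * (2 ^ k - 1) + 1) = (lam x θ)⁻¹ := by
        intro θ
        have hl := lam_pow hx.commute (hk ▸ pow_orderOf_eq_one x) θ
        refine (inv_eq_of_mul_eq_one_right ?_).symm
        rw [← pow_succ', show 2 * (2 ^ k - 1) + 1 + 1 = 2 ^ k * 2 by
          have := Nat.one_le_two_pow (n := k); omega, pow_mul, hl, one_pow]
      have e : cX 2 b x φ χ = cX 2 b x (twistChar hk' χ) (twistChar hk' φ) := by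
        rw [← hF]
        simp only [hinv, cX_eq_formX hx.commute]
        simp only [formX, Finset.sum_mul, inv_inv]
        rw [Finset.sum_comm]
        refine Finset.sum_congr rfl fun θ _ => Finset.sum_congr rfl fun ζ _ => ?_
        rw [nq_comm θ ζ]
        ring
      have hv : ∀ ψ : Cfsg.IrrCharacter G, Cfsg.charDegree (twistChar hk' ψ : G → ℂ) =
          Cfsg.charDegree (ψ : G → ℂ) := fun ψ => by
        simp [Cfsg.charDegree, twistChar]
      have hvd : ∀ ψ : Cfsg.IrrCharacter G, vdeg 2 (twistChar hk' ψ) = vdeg 2 ψ := fun ψ => by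
        rw [vdeg, vdeg, hv]
      have h' := (contrib_exact hM hx hind hd (twistChar_mem hM hk' hreg hB hχ)
        (twistChar_mem hM hk' hreg hB hφ) ((hvd φ).trans h0)).1
      have hh' : Cfsg.blockHeight 2 B (twistChar hk' χ : G → ℂ) = h := by
        rw [hh, Contrib.blockHeight_eq, Contrib.blockHeight_eq, hvd]
      rwa [hh', ← e] at h'
    have e : cX 2 b x φ χ = cX 2 b x φ χ / (2 : ℂ) ^ h * ((2 : ℂ) ^ t * 2) := by
      rw [ht, pow_succ]; field_simp
    rw [e]
    exact memLocalIdeal_mul_left hmem (memLocalIdeal_mul_left (pow_mem (natCast_mem _ 2) _)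
      (by exact_mod_cast natCast_prime_mem_localIdeal hM))
  have h4 := memLocalIdeal_mul_right hconj (natCast_mem _ (udeg 2 χ))
  have h5 : Cfsg.MemLocalIdeal M (cX 2 b x χ χ / (2 : ℂ) ^ h * (udeg 2 φ : ℂ)) := by
    have := memLocalIdeal_add h2 h4
    rwa [sub_add_cancel] at this
  have hu : ¬ 2 ∣ udeg 2 φ := not_dvd_udeg Nat.prime_two φ
  have h6 := memLocalIdeal_mul_right h5 (natCast_inv_mem_localRing hM hu)
  rwa [mul_assoc, mul_inv_cancel₀ (Nat.cast_ne_zero.mpr (udeg_ne_zero Nat.prime_two φ)),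
    mul_one] at h6

include hM hx hj hind hd in
/-- The means of the diagonal contributions at a major subsection. -/
theorem exists_major_means [DecidableEq (Cfsg.IrrCharacter G)] :
    ∃ a : Cfsg.IrrCharacter G → ℤ,
      ∑ χ ∈ bset B, a χ = 2 ^ Cfsg.blockDefect 2 B * (Cfsg.blockRank 2 b : ℤ) ∧
      ∀ χ ∈ B,
        (Cfsg.blockHeight 2 B (χ : G → ℂ) = 0 → Odd (a χ) ∧
          ∑ ψ ∈ (bset B).erase χ, (4 : ℤ) ^ Cfsg.blockHeight 2 B (ψ : G → ℂ) + a χ * a χ ≤
            2 ^ Cfsg.blockDefect 2 B * a χ) ∧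
        (0 < Cfsg.blockHeight 2 B (χ : G → ℂ) →
          (2 : ℤ) ^ (Cfsg.blockHeight 2 B (χ : G → ℂ) + 1) ∣ a χ ∧
          (4 : ℤ) ^ Cfsg.blockHeight 2 B (χ : G → ℂ) + a χ * a χ ≤
            2 ^ Cfsg.blockDefect 2 B * a χ) := by
  have hB := hind.2.1
  let K := Finset.range (2 ^ j)
  let F : ℕ → Cfsg.IrrCharacter G → Cfsg.IrrCharacter G → ℂ := fun k =>
    formX 2 b fun θ => lam x θ ^ (2 * k + 1)
  have htw : ∀ k : ℕ, ∃ e : Cfsg.IrrCharacter G → Cfsg.IrrCharacter G, Function.Injective e ∧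
      (∀ χ ∈ bset B, e χ ∈ bset B) ∧ ∀ χ ψ, F k χ ψ = cX 2 b x (e χ) (e ψ) := by
    intro k
    obtain ⟨k', hk', hreg, hF⟩ := SectionMeans.form_pow_eq hM hind.1 hx
      (k := 2 * k + 1) (Nat.coprime_two_right.mpr ⟨k, rfl⟩)
    exact ⟨twistChar hk', twistChar_injective hk',
      fun χ hχ => mem_bset.mpr (twistChar_mem hM hk' hreg hB (mem_bset.mp hχ)), hF⟩
  choose e he hemem hF using htw
  have himage : ∀ k, (bset B).image (e k) = bset B := fun k =>
    Finset.eq_of_subset_of_card_le (Finset.image_subset_iff.mpr (hemem k))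
      (Finset.card_image_of_injective _ (he k)).ge
  have hdiag : ∀ χ, ∃ a : ℤ,
      ∑ k ∈ K, ∑ i, (coef b χ χ i : ℂ) * root b x i ^ (2 * k + 1) = (2 : ℂ) ^ j * (a : ℂ) := by
    intro χ
    obtain ⟨a, -, ha⟩ := SectionMeans.mean_root_parity (fun i : bset b × bset b => (i.2, i.1))
      (fun i => rfl) (coef b χ χ) (fun i => coef_swap χ χ i) (root b x) (root_swap x) j
      (root_pow hx hj)
    exact ⟨a, ha⟩
  choose a ha using hdiag
  set Q : ℝ := (2 : ℝ) ^ Cfsg.blockDefect 2 B with hQ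
  set N : ℝ := (2 : ℝ) ^ j with hN
  have hN0 : 0 < N := by positivity
  have hNcard : (K.card : ℝ) = N := by simp only [K, Finset.card_range, hN]; norm_num
  have hrow : ∀ k χ, (F k χ χ).im = 0 ∧ 0 ≤ (F k χ χ).re ∧
      ∑ ψ ∈ bset B, Complex.normSq (F k χ ψ) = Q * (F k χ χ).re := by
    intro k χ
    obtain ⟨h1, h2, h3⟩ := SectionMeans.cX_self_nonneg hM hx hind (e k χ)
    simp only [hF]
    refine ⟨h1, h2, ?_⟩
    conv_lhs at h3 => rw [← himage k, Finset.sum_image ((he k).injOn)]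
    rw [h3, hQ, hd]
    norm_num
  have hsumre : ∀ χ, ∑ k ∈ K, (F k χ χ).re = N * a χ := by
    intro χ
    have h := congrArg Complex.re (ha χ)
    rw [Complex.re_sum] at h
    rw [show ((2 : ℂ) ^ j * (a χ : ℂ)) = (((2 : ℝ) ^ j * (a χ : ℝ) : ℝ) : ℂ) by push_cast; ring,
      Complex.ofReal_re] at h
    rw [hN, ← h]
    exact Finset.sum_congr rfl fun k _ => by simp only [F, formX_eq]
  have hsq : ∀ χ, N * ((a χ : ℝ) * a χ) ≤ ∑ k ∈ K, Complex.normSq (F k χ χ) := by
    intro χ
    have h := sq_sum_le_card_mul_sum_sq (s := K) (f := fun k => (F k χ χ).re)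
    rw [hsumre χ, hNcard] at h
    rw [show ∑ k ∈ K, Complex.normSq (F k χ χ) = ∑ k ∈ K, (F k χ χ).re ^ 2 from
      Finset.sum_congr rfl fun k _ => by rw [Complex.normSq_apply, (hrow k χ).1]; ring]
    nlinarith
  have hswap : ∀ χ ψ k, Complex.normSq (F k χ ψ) = Complex.normSq (F k ψ χ) := fun χ ψ k => by
    rw [hF k χ ψ, hF k ψ χ, ← conj_cX x (e k χ) (e k ψ), Complex.normSq_conj]
  -- the off diagonal terms
  have hoff : ∀ χ ∈ B, ∀ ψ ∈ B, vdeg 2 ψ = minVdeg 2 B →
      N * (4 : ℝ) ^ Cfsg.blockHeight 2 B (χ : G → ℂ) ≤ ∑ k ∈ K, Complex.normSq (F k χ ψ) := by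
    intro χ hχ ψ hψ hψ0
    obtain ⟨hR, hne⟩ := contrib_exact hM hx hind hd hχ hψ hψ0
    set h := Cfsg.blockHeight 2 B (χ : G → ℂ) with hh
    let f : (bset b × bset b) × (bset b × bset b) → (bset b × bset b) × (bset b × bset b) :=
      fun i => ((i.2.2, i.2.1), (i.1.2, i.1.1))
    let c : (bset b × bset b) × (bset b × bset b) → ℤ := fun i =>
      coef b χ ψ i.1 * coef b ψ χ i.2
    let w : (bset b × bset b) × (bset b × bset b) → ℂ := fun i => root b x i.1 * root b x i.2
    have hc : ∀ i, c (f i) = c i := fun i => by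
      simp only [c, f]; rw [coef_swap, coef_swap]; ring
    have hw : ∀ i, w (f i) = (w i)⁻¹ := fun i => by
      simp only [w, f]; rw [root_swap x i.2, root_swap x i.1, ← mul_inv, mul_comm]
    have hwj : ∀ i, w i ^ 2 ^ j = 1 := fun i => by
      simp only [w]; rw [mul_pow, root_pow hx hj, root_pow hx hj, one_mul]
    obtain ⟨s, -, hs⟩ := SectionMeans.mean_root_parity f (fun i => rfl) c hc w hw j hwj
    have hprod : ∀ k : ℕ, ∑ i, (c i : ℂ) * w i ^ k =
        formX 2 b (fun θ => lam x θ ^ k) χ ψ * formX 2 b (fun θ => lam x θ ^ k) ψ χ := by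
      intro k
      rw [formX_eq, formX_eq, Finset.sum_mul_sum, ← Finset.sum_product', Finset.univ_product_univ]
      refine Finset.sum_congr rfl fun i _ => ?_
      simp only [c, w]
      rw [mul_pow]
      push_cast
      ring
    have hone : ∑ i, (c i : ℂ) * w i = (Complex.normSq (cX 2 b x χ ψ) : ℂ) := by
      have h1 := hprod 1
      simp only [pow_one] at h1
      rw [h1, ← cX_eq_formX hx.commute, ← cX_eq_formX hx.commute, ← conj_cX x χ ψ,
        Complex.mul_conj]
    have hmean : ((∑ k ∈ K, Complex.normSq (F k χ ψ) : ℝ) : ℂ) = ((N * (s : ℝ) : ℝ) : ℂ) := by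
      push_cast
      rw [hN]
      push_cast
      rw [← hs]
      refine Finset.sum_congr rfl fun k _ => ?_
      rw [← Complex.mul_conj, hprod]
      congr 1
      rw [hF k χ ψ, conj_cX]
      exact (hF k ψ χ).symm
    have hmean' := Complex.ofReal_injective hmean
    have hdvd : (2 : ℤ) ^ (2 * h) ∣ s := by
      refine (dvd_mean hM f (fun i => rfl) c hc w hw hwj hs ?_).1
      have hconj : cX 2 b x ψ χ / (2 : ℂ) ^ h ∈ localRing M := by
        rcases Nat.eq_zero_or_pos h with h0 | hpos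
        · rw [h0, pow_zero, div_one]
          exact mem_localRing_of_isIntegral (isIntegral_cX hx.commute ψ χ)
        · obtain ⟨k', hk', hreg, hF'⟩ := SectionMeans.form_pow_eq hM hind.1 hx
            (k := 2 * (2 ^ j - 1) + 1) (Nat.coprime_two_right.mpr ⟨_, rfl⟩)
          have hinv : ∀ θ : Cfsg.IrrCharacter H,
              lam x θ ^ (2 * (2 ^ j - 1) + 1) = (lam x θ)⁻¹ := by
            intro θ
            have hl := lam_pow hx.commute (hj ▸ pow_orderOf_eq_one x) θ
            refine (inv_eq_of_mul_eq_one_right ?_).symm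
            rw [← pow_succ', show 2 * (2 ^ j - 1) + 1 + 1 = 2 ^ j * 2 by
              have := Nat.one_le_two_pow (n := j); omega, pow_mul, hl, one_pow]
          have e' : cX 2 b x ψ χ = cX 2 b x (twistChar hk' χ) (twistChar hk' ψ) := by
            rw [← hF']
            simp only [hinv, cX_eq_formX hx.commute]
            simp only [formX, Finset.sum_mul, inv_inv]
            rw [Finset.sum_comm]
            refine Finset.sum_congr rfl fun θ _ => Finset.sum_congr rfl fun ζ _ => ?_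
            rw [nq_comm θ ζ]
            ring
          have hvd : ∀ φ : Cfsg.IrrCharacter G, vdeg 2 (twistChar hk' φ) = vdeg 2 φ := fun φ => by
            simp [vdeg, Cfsg.charDegree, twistChar]
          have h' := (contrib_exact hM hx hind hd (twistChar_mem hM hk' hreg hB hχ)
            (twistChar_mem hM hk' hreg hB hψ) ((hvd ψ).trans hψ0)).1
          have hh' : Cfsg.blockHeight 2 B (twistChar hk' χ : G → ℂ) = h := by
            rw [hh, Contrib.blockHeight_eq, Contrib.blockHeight_eq, hvd]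
          rwa [hh', ← e'] at h'
      have := mul_mem hR hconj
      rw [hone, ← Complex.mul_conj, conj_cX, two_mul, pow_add, ← div_mul_div_comm]
      exact this
    have hpos : 0 < (s : ℝ) := by
      have hnz : cX 2 b x χ ψ ≠ 0 := fun h0 => hne (by rw [h0, zero_div]; exact memLocalIdeal_zero)
      have h0mem : 0 ∈ K := Finset.mem_range.mpr (Nat.pow_pos two_pos)
      have hF0 : F 0 χ ψ = cX 2 b x χ ψ := by
        simp only [F, Nat.mul_zero, zero_add, pow_one, cX_eq_formX hx.commute]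
      have : 0 < ∑ k ∈ K, Complex.normSq (F k χ ψ) :=
        Finset.sum_pos' (fun k _ => Complex.normSq_nonneg _)
          ⟨0, h0mem, by rw [hF0]; exact Complex.normSq_pos.mpr hnz⟩
      rw [hmean'] at this
      exact (pos_iff_pos_of_mul_pos this).mp hN0
    have hs' : (4 : ℤ) ^ h ≤ s := by
      have := Int.le_of_dvd (by exact_mod_cast hpos) hdvd
      rwa [pow_mul] at this
    rw [hmean']
    exact mul_le_mul_of_nonneg_left (by exact_mod_cast hs') hN0.le
  have hrowsum : ∀ χ, N * ((a χ : ℝ) * a χ) +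
      ∑ ψ ∈ (bset B).erase χ, ∑ k ∈ K, Complex.normSq (F k χ ψ) ≤ Q * (N * a χ) ∨ χ ∉ B := by
    intro χ
    by_cases hχ : χ ∈ B
    · left
      rw [← hsumre χ, Finset.mul_sum, Finset.sum_congr rfl fun k _ => (hrow k χ).2.2.symm,
        Finset.sum_comm (s := K), ← Finset.add_sum_erase (bset B) _ (mem_bset.mpr hχ)]
      exact add_le_add (hsq χ) le_rfl
    · exact Or.inr hχ
  refine ⟨a, ?_, fun χ hχ => ⟨fun h0 => ?_, fun hpos => ?_⟩⟩
  · have hk : ∀ k, ∑ χ ∈ bset B, (F k χ χ).re = Q * (Cfsg.blockRank 2 b : ℝ) := by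
      intro k
      have h := congrArg Complex.re (SectionMeans.sum_cX_self hM hx hind)
      conv_lhs at h => rw [← himage k, Finset.sum_image ((he k).injOn), Complex.re_sum]
      simp only [← hF] at h
      rw [h, hQ, hd, show ((2 : ℕ) : ℂ) ^ Cfsg.blockDefect 2 B * (Cfsg.blockRank 2 b : ℂ) =
        (((2 : ℝ) ^ Cfsg.blockDefect 2 B * (Cfsg.blockRank 2 b : ℝ) : ℝ) : ℂ) by push_cast; ring,
        Complex.ofReal_re]
    have h1 : N * ((∑ χ ∈ bset B, a χ : ℤ) : ℝ) = N * (Q * (Cfsg.blockRank 2 b : ℝ)) := by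
      rw [Int.cast_sum, Finset.mul_sum, Finset.sum_congr rfl fun χ _ => (hsumre χ).symm,
        Finset.sum_comm, Finset.sum_congr rfl fun k _ => hk k, Finset.sum_const, nsmul_eq_mul,
        hNcard]
    have h2 := mul_left_cancel₀ hN0.ne' h1
    rw [hQ] at h2
    exact_mod_cast h2
  · have hv := (blockHeight_eq_zero_iff hχ).mp h0
    refine ⟨?_, ?_⟩
    · obtain ⟨a', hodd, ha'⟩ := SectionMeans.exists_mean_self hM hx hj hind hχ hv
      simp only [formX_eq] at ha'
      have hh := (ha χ).symm.trans ha'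
      have : a χ = a' := by exact_mod_cast mul_left_cancel₀ (pow_ne_zero _ two_ne_zero) hh
      exact this ▸ hodd
    · have h1 := (hrowsum χ).resolve_right (not_not.mpr hχ)
      have h2 : ∑ ψ ∈ (bset B).erase χ, N * (4 : ℝ) ^ Cfsg.blockHeight 2 B (ψ : G → ℂ) ≤
          ∑ ψ ∈ (bset B).erase χ, ∑ k ∈ K, Complex.normSq (F k χ ψ) :=
        Finset.sum_le_sum fun ψ hψ => by
          rw [Finset.sum_congr rfl fun k _ => hswap χ ψ k]
          exact hoff ψ (mem_bset.mp (Finset.mem_of_mem_erase hψ)) χ hχ hv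
      rw [← Finset.mul_sum] at h2
      have h3 : (∑ ψ ∈ (bset B).erase χ, (4 : ℝ) ^ Cfsg.blockHeight 2 B (ψ : G → ℂ)) +
          (a χ : ℝ) * a χ ≤ Q * a χ := le_of_mul_le_mul_left (by linarith) hN0
      rw [hQ] at h3
      exact_mod_cast h3
  · refine ⟨?_, ?_⟩
    · obtain ⟨h1, h2⟩ := contrib_self_mem hM hx hind hd hχ hpos
      rw [cX_eq hx] at h1 h2
      exact (dvd_mean hM (fun i : bset b × bset b => (i.2, i.1)) (fun i => rfl) (coef b χ χ)
        (fun i => coef_swap χ χ i) (root b x) (root_swap x) (root_pow hx hj) (ha χ) h1).2 h2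
    · obtain ⟨φ, hφ, hφ0⟩ := exists_height_zero (p := 2) hB
      have hne : φ ≠ χ := fun h => by
        rw [h] at hφ0
        rw [(blockHeight_eq_zero_iff hχ).mpr hφ0] at hpos
        exact lt_irrefl 0 hpos
      have h1 := (hrowsum χ).resolve_right (not_not.mpr hχ)
      have h2 := (hoff χ hχ φ hφ hφ0).trans (Finset.single_le_sum
        (f := fun ψ => ∑ k ∈ K, Complex.normSq (F k χ ψ))
        (fun ψ _ => Finset.sum_nonneg fun k _ => Complex.normSq_nonneg _)
        (Finset.mem_erase.mpr ⟨hne, mem_bset.mpr hφ⟩))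
      have h3 : (4 : ℝ) ^ Cfsg.blockHeight 2 B (χ : G → ℂ) + (a χ : ℝ) * a χ ≤ Q * a χ :=
        le_of_mul_le_mul_left (by linarith) hN0
      rw [hQ] at h3
      exact_mod_cast h3

end means

/-- The counting argument. -/
theorem count_bound {ι : Type*} [DecidableEq ι] (S : Finset ι) (h : ι → ℕ) (a : ι → ℤ) (d : ℕ)
    (hz : ∀ i ∈ S, h i = 0 → Odd (a i) ∧
      ∑ k ∈ S.erase i, (4 : ℤ) ^ h k + a i * a i ≤ 2 ^ d * a i)
    (hp : ∀ i ∈ S, 0 < h i → (2 : ℤ) ^ (h i + 1) ∣ a i ∧ (4 : ℤ) ^ h i + a i * a i ≤ 2 ^ d * a i)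
    (hex : ∃ i ∈ S, h i = 0)
    (hl : ∑ i ∈ S, a i ≤ 3 * 2 ^ d ∨ ∑ i ∈ S, (2 ^ d - a i) ≤ 3 * 2 ^ d) :
    3 * (S.filter fun i => h i = 0).card + 2 * ∑ i ∈ S.filter (fun i => 1 ≤ h i), 2 ^ h i ≤
      3 * 2 ^ d := by
  classical
  by_cases hcard : S.card ≤ 1
  · obtain ⟨i, hi, hi0⟩ := hex
    have hS : S = {i} := Finset.eq_singleton_iff_unique_mem.mpr
      ⟨hi, fun k hk => Finset.card_le_one.mp hcard k hk i hi⟩
    subst hS
    have : 1 ≤ 2 ^ d := Nat.one_le_two_pow
    simp [Finset.filter_singleton, hi0]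
    omega
  push Not at hcard
  have hpos4 : ∀ k, (1 : ℤ) ≤ (4 : ℤ) ^ h k := fun k => one_le_pow₀ (by norm_num)
  have hrange : ∀ i ∈ S, 0 < a i ∧ a i < 2 ^ d := by
    intro i hi
    have key : 1 + a i * a i ≤ 2 ^ d * a i := by
      rcases Nat.eq_zero_or_pos (h i) with h0 | hpos
      · obtain ⟨k, hk, hki⟩ := Finset.exists_mem_ne hcard i
        have h1 := Finset.single_le_sum (f := fun k => (4 : ℤ) ^ h k)
          (fun k _ => le_trans zero_le_one (hpos4 k)) (Finset.mem_erase.mpr ⟨hki, hk⟩)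
        linarith [(hz i hi h0).2, hpos4 k]
      · linarith [(hp i hi hpos).2, hpos4 i]
    have hQ0 : (0 : ℤ) ≤ 2 ^ d := pow_nonneg (by norm_num) _
    constructor
    · by_contra hle
      push Not at hle
      have := mul_nonpos_of_nonneg_of_nonpos hQ0 hle
      linarith [mul_self_nonneg (a i)]
    · by_contra hge
      push Not at hge
      have := mul_le_mul_of_nonneg_right hge (hQ0.trans hge)
      linarith
  -- replace `a` by its complement if needed
  obtain ⟨c, hc0, hcp, hcpos, hcsum⟩ : ∃ c : ι → ℤ,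
      (∀ i ∈ S, h i = 0 → Odd (c i) ∧
        ∑ k ∈ S.erase i, (4 : ℤ) ^ h k + c i * c i ≤ 2 ^ d * c i) ∧
      (∀ i ∈ S, 0 < h i → (2 : ℤ) ^ (h i + 1) ∣ c i) ∧
      (∀ i ∈ S, 0 < c i) ∧ ∑ i ∈ S, c i ≤ 3 * 2 ^ d := by
    rcases hl with hl | hl
    · exact ⟨a, hz, fun i hi h0 => (hp i hi h0).1, fun i hi => (hrange i hi).1, hl⟩
    · refine ⟨fun i => 2 ^ d - a i, fun i hi h0 => ?_, fun i hi h0 => ?_,
        fun i hi => sub_pos.mpr (hrange i hi).2, hl⟩
      · obtain ⟨h1, h2⟩ := hz i hi h0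
        have hd : 0 < d := by
          rcases Nat.eq_zero_or_pos d with hd | hd
          · have := hrange i hi
            rw [hd, pow_zero] at this
            omega
          · exact hd
        refine ⟨?_, by linarith⟩
        exact (Int.even_pow.mpr ⟨even_two, hd.ne'⟩).sub_odd h1
      · refine dvd_sub (pow_dvd_pow _ ?_) (hp i hi h0).1
        by_contra hlt
        push Not at hlt
        have h1 := Int.le_of_dvd (hrange i hi).1 (hp i hi h0).1
        have h2 : (2 : ℤ) ^ d ≤ 2 ^ (h i + 1) := pow_le_pow_right₀ (by norm_num) hlt.le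
        linarith [(hrange i hi).2]
  set Z := S.filter (fun i => h i = 0) with hZ
  set P := S.filter (fun i => 1 ≤ h i) with hP
  have hsplit : ∀ f : ι → ℤ, ∑ i ∈ S, f i = ∑ i ∈ Z, f i + ∑ i ∈ P, f i := by
    intro f
    rw [← Finset.sum_filter_add_sum_filter_not S (fun i => h i = 0), hZ, hP]
    congr 1
    exact Finset.sum_congr (Finset.filter_congr fun i _ => by omega) fun _ _ => rfl
  suffices hgoal : 3 * (Z.card : ℤ) + 2 * ∑ i ∈ P, (2 : ℤ) ^ h i ≤ 3 * 2 ^ d by exact_mod_cast hgoal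
  by_cases hone : ∃ i ∈ Z, c i = 1
  · obtain ⟨i, hi, hi1⟩ := hone
    obtain ⟨hiS, hi0⟩ := Finset.mem_filter.mp hi
    have h1 := (hc0 i hiS hi0).2
    rw [hi1] at h1
    have h2 : ∑ k ∈ S, (4 : ℤ) ^ h k ≤ 2 ^ d := by
      rw [← Finset.add_sum_erase S _ hiS, hi0, pow_zero]
      linarith
    rw [hsplit, show ∑ i ∈ Z, (4 : ℤ) ^ h i = Z.card by
      rw [Finset.sum_congr rfl fun k hk => show (4 : ℤ) ^ h k = 1 by
        rw [(Finset.mem_filter.mp hk).2, pow_zero]]
      simp] at h2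
    have h3 : ∑ i ∈ P, 2 * (2 : ℤ) ^ h i ≤ ∑ i ∈ P, 3 * (4 : ℤ) ^ h i := by
      refine Finset.sum_le_sum fun k _ => ?_
      have : (2 : ℤ) ^ h k ≤ 4 ^ h k := pow_le_pow_left₀ (by norm_num) (by norm_num) _
      linarith [pow_nonneg (show (0 : ℤ) ≤ 2 by norm_num) (h k)]
    rw [← Finset.mul_sum, ← Finset.mul_sum] at h3
    linarith
  · push Not at hone
    have h1 : ∑ i ∈ Z, (3 : ℤ) ≤ ∑ i ∈ Z, c i := by
      refine Finset.sum_le_sum fun k hk => ?_
      obtain ⟨hkS, hk0⟩ := Finset.mem_filter.mp hk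
      obtain ⟨t, ht⟩ := (hc0 k hkS hk0).1
      have := hcpos k hkS
      have := hone k hk
      omega
    have h2 : ∑ i ∈ P, 2 * (2 : ℤ) ^ h i ≤ ∑ i ∈ P, c i := by
      refine Finset.sum_le_sum fun k hk => ?_
      obtain ⟨hkS, hk1⟩ := Finset.mem_filter.mp hk
      have := Int.le_of_dvd (hcpos k hkS) (hcp k hkS (by omega))
      rw [pow_succ] at this
      linarith
    rw [Finset.sum_const, nsmul_eq_mul] at h1
    rw [← Finset.mul_sum] at h2
    rw [hsplit] at hcsum
    linarith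

end Cfsg.Agent.Lib.BC78.SectionDiv
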