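import Cfsg.Agent.Lib.Blocks.SectionMatrix

/-!
# Galois means of the contributions at a 2-section

The contributions `p^d m(χ, ψ)` at a section of a `2`-element are combinations of `2`-power roots
of unity, so their means over the Galois group are rational integers; for characters of height zero
they are odd.
-/

set_option autoImplicit false
set_option linter.unusedSectionVars false

namespace Cfsg.Agent.Lib.BC78.SectionMeans

open scoped ComplexConjugate
open Cfsg.Agent.Lib.Characters.Basic Cfsg.Agent.Lib.Blocks Cfsg.Agent.Lib.Blocks.Contrib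
open Cfsg.Agent.Lib.Blocks.SectionMatrix Cfsg.Agent.Lib.Blocks.SectionPart

universe u

/-- The mean over the odd exponents of a sum of `2`-power roots of unity stable under inversion. -/
theorem mean_root_parity {I : Type*} [Fintype I] (f : I → I) (hf : Function.Involutive f)
    (c : I → ℤ) (hc : ∀ i, c (f i) = c i) (w : I → ℂ) (hw : ∀ i, w (f i) = (w i)⁻¹) (j : ℕ)
    (hwj : ∀ i, w i ^ 2 ^ j = 1) :
    ∃ a : ℤ, (2 : ℤ) ∣ a - ∑ i, c i ∧
      ∑ k ∈ Finset.range (2 ^ j), ∑ i, (c i : ℂ) * w i ^ (2 * k + 1) = (2 : ℂ) ^ j * (a : ℂ) := by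
  classical
  let e : I → ℤ := fun i => if w i = 1 then 1 else if w i = -1 then -1 else 0
  refine ⟨∑ i, c i * e i, ?_, ?_⟩
  · refine (ZMod.intCast_zmod_eq_zero_iff_dvd _ 2).mp ?_
    push_cast
    rw [← Finset.sum_sub_distrib]
    refine Finset.sum_involution (fun i _ => f i) (fun i _ => ?_) (fun i _ hne hfi => hne ?_)
      (fun i _ => Finset.mem_univ _) (fun i _ => hf i)
    · have he : (e (f i) : ZMod 2) = (e i : ZMod 2) := by
        simp only [e, hw i, inv_eq_one, inv_eq_iff_eq_inv, inv_neg, inv_one]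
      rw [hc i, he]
      exact CharTwo.add_self_eq_zero _
    · have h2 := hw i
      rw [hfi] at h2
      have hw0 : w i ≠ 0 := fun h => by
        have := hwj i
        rw [h, zero_pow (pow_ne_zero _ two_ne_zero)] at this
        exact zero_ne_one this
      have h3 : w i * w i = 1 := by nth_rw 2 [h2]; exact mul_inv_cancel₀ hw0
      rcases mul_self_eq_one_iff.mp h3 with h | h
      · simp [e, h]
      · have hne1 : (-1 : ℂ) ≠ 1 := by norm_num
        simp only [e, h, if_neg hne1, if_pos]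
        rw [show ((-1 : ℤ) : ZMod 2) = 1 by decide, mul_one, sub_self]
  · rw [Finset.sum_comm, Int.cast_sum, Finset.mul_sum]
    refine Finset.sum_congr rfl fun i _ => ?_
    rw [← Finset.mul_sum, Int.cast_mul, mul_left_comm]
    congr 1
    simp only [fun k => show w i ^ (2 * k + 1) = (w i ^ 2) ^ k * w i by rw [pow_succ, pow_mul],
      ← Finset.sum_mul]
    by_cases h : w i ^ 2 = 1
    · rw [h]
      rcases sq_eq_one_iff.mp h with h1 | h1
      · simp [e, h1]
      · have hne1 : (-1 : ℂ) ≠ 1 := by norm_num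
        simp [e, h1, hne1]
    · rw [geom_sum_eq h, ← pow_mul, mul_comm 2, pow_mul, hwj, one_pow, sub_self, zero_div, zero_mul]
      have h1 : w i ≠ 1 := fun h1 => h (by rw [h1, one_pow])
      have h2 : w i ≠ -1 := fun h2 => h (by rw [h2, neg_one_sq])
      simp [e, h1, h2]

section general

variable {G : Type u} [Group G] [Fintype G] {p : ℕ} [Fact p.Prime] {M : Ideal Cfsg.AlgInt}
  [M.IsMaximal] {H : Subgroup G} [Fintype H] {b : Set (Cfsg.IrrCharacter H)}
  (hM : Cfsg.IsPModular p M)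

include hM in
/-- Powers of the central scalars give the contributions of twisted characters. -/
theorem form_pow_eq (hb : Cfsg.IsPBlock M b) {x : H} (hx : Pelt p x) {k : ℕ} (hk : k.Coprime p) :
    ∃ (k' : ℕ) (hk'c : k'.Coprime (Nat.card G)), (∀ g : G, ¬ p ∣ orderOf g → g ^ k' = g) ∧
      ∀ χ ψ : Cfsg.IrrCharacter G, formX p b (fun θ => lam x θ ^ k) χ ψ =
        cX p b x (twistChar hk'c χ) (twistChar hk'c ψ) := by
  classical
  haveI := Fintype.ofFinite (Cfsg.IrrCharacter H)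
  have hp : p.Prime := Fact.out
  set P := p ^ (Nat.card G).factorization p with hP
  have hcop : P.Coprime (primeToCard p G) :=
    (hp.coprime_iff_not_dvd.mpr (not_dvd_primeToCard hp)).pow_left _
  obtain ⟨k', hk'1, hk'2⟩ := Nat.chineseRemainder hcop k 1
  have hk'c : k'.Coprime (Nat.card G) := by
    rw [← primeToCard_mul p G, ← hP, Nat.coprime_mul_iff_right]
    refine ⟨?_, ?_⟩
    · rw [Nat.coprime_iff_gcd_eq_one, hk'1.gcd_eq, ← Nat.coprime_iff_gcd_eq_one]
      exact hk.pow_right _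
    · rw [Nat.coprime_iff_gcd_eq_one, hk'2.gcd_eq, Nat.gcd_one_left]
  have hreg : ∀ g : G, ¬ p ∣ orderOf g → g ^ k' = g := by
    intro g hg
    conv_rhs => rw [← pow_one g]
    refine pow_eq_pow_iff_modEq.mpr (hk'2.of_dvd ?_)
    have h1 : orderOf g ∣ P * primeToCard p G := by
      rw [hP, primeToCard_mul]
      exact orderOf_dvd_natCard g
    exact ((hp.coprime_iff_not_dvd.mpr hg).symm.pow_right _).dvd_of_dvd_mul_left h1
  have hxP : orderOf x ∣ P := by
    obtain ⟨j, hj⟩ := hx.pow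
    rw [← Subgroup.orderOf_coe, hj, hP]
    refine pow_dvd_pow _ ((hp.pow_dvd_iff_le_factorization Nat.card_pos.ne').mp ?_)
    rw [← hj]
    exact orderOf_dvd_natCard _
  have hxk : (x : G) ^ k' = (x : G) ^ k := by
    rw [pow_eq_pow_iff_modEq, Subgroup.orderOf_coe]
    exact hk'1.of_dvd hxP
  refine ⟨k', hk'c, hreg, fun χ ψ => ?_⟩
  have hrow : ∀ (φ : Cfsg.IrrCharacter G) (ζ : Cfsg.IrrCharacter H), ζ ∈ bset b →
      ∑ θ ∈ bset b, (mult H φ θ : ℂ) * lam x θ ^ k * (nq p b θ ζ : ℂ) =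
        rowq p b x (twistChar hk'c φ) ζ := by
    intro φ ζ hζ
    have h := sum_mul_contribN_eq_zero (p := p) (fun θ => (mult H φ θ : ℂ) * lam x θ ^ k -
      acoef x (twistChar hk'c φ) θ) (fun s hs => by
      simp only [sub_mul, Finset.sum_sub_distrib]
      rw [← restrict_pow_mul hx.commute, ← restrict_mul hx.commute, sub_eq_zero]
      show _ = (φ : G → ℂ) (((x : G) * (s : G)) ^ k')
      rw [(commute_of_mem hx.eq s.2).mul_pow, hxk,
        hreg _ (by rwa [Subgroup.orderOf_coe])]) ζ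
    rw [sum_mul_contribN_bset hM hb _ (mem_bset.mp hζ)] at h
    have hp0 : (p : ℂ) ^ minVdeg p b ≠ 0 := pow_ne_zero _ (Nat.cast_ne_zero.mpr hp.ne_zero)
    rw [← sub_eq_zero, rowq, ← Finset.sum_sub_distrib]
    refine (mul_eq_zero.mp ?_).resolve_left hp0
    rw [← h, Finset.mul_sum]
    refine Finset.sum_congr rfl fun θ hθ => ?_
    rw [← pow_mul_nq hM hb (mem_bset.mp hθ) ζ]
    push_cast
    ring
  have hcl : ∀ θ : Cfsg.IrrCharacter H, conj (lam x θ ^ k) = (lam x θ ^ k)⁻¹ := fun θ => by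
    rw [map_pow, conj_lam hx.commute, inv_pow]
  calc formX p b (fun θ => lam x θ ^ k) χ ψ
      = ∑ ζ ∈ bset b, rowq p b x (twistChar hk'c χ) ζ *
          conj ((mult H ψ ζ : ℂ) * lam x ζ ^ k) := by
        refine Finset.sum_congr rfl fun ζ hζ => ?_
        rw [hrow χ ζ hζ, map_mul, map_natCast, hcl]
    _ = ∑ θ ∈ bset b, acoef x (twistChar hk'c χ) θ * conj (rowq p b x (twistChar hk'c ψ) θ) := by
        simp only [rowq, Finset.sum_mul]
        rw [Finset.sum_comm]
        refine Finset.sum_congr rfl fun θ hθ => ?_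
        have h2 := hrow ψ θ hθ
        rw [rowq] at h2
        rw [← h2, map_sum, Finset.mul_sum]
        refine Finset.sum_congr rfl fun ζ _ => ?_
        simp only [map_mul, map_natCast, map_intCast]
        rw [nq_comm θ ζ]
        ring
    _ = cX p b x (twistChar hk'c χ) (twistChar hk'c ψ) := by
        rw [← conj_cX, cX, map_sum]
        refine Finset.sum_congr rfl fun θ _ => ?_
        rw [map_mul, Complex.conj_conj, mul_comm]

include hM in
/-- The coefficient sum of a contribution of two height-zero characters is prime to `p`. -/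
theorem coef_sum_ne_zero {B : Set (Cfsg.IrrCharacter G)}
    (hind : Cfsg.IsInducedBlock M H b B) {χ ψ : Cfsg.IrrCharacter G} (hχ : χ ∈ B) (hψ : ψ ∈ B)
    (hχ0 : vdeg p χ = minVdeg p B) (hψ0 : vdeg p ψ = minVdeg p B) :
    ((∑ ζ ∈ bset b, (∑ θ ∈ bset b, (mult H χ θ : ℤ) * nq p b θ ζ) * (mult H ψ ζ : ℤ) : ℤ) :
      ZMod p) ≠ 0 := by
  classical
  have hb := hind.1
  haveI := charP_residue hM
  obtain ⟨η₀, hη₀, h0⟩ := exists_height_zero (p := p) hb
  set r : ZMod p := (nq p b η₀ η₀ : ZMod p) with hr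
  set u : ZMod p := (udeg p η₀ : ZMod p) with hu
  have hr0 : r ≠ 0 := by
    intro h
    rw [hr, ZMod.intCast_zmod_eq_zero_iff_dvd] at h
    refine not_dvd_contribN hM hb hη₀ h0 hη₀ ?_
    rw [h0, ← pow_mul_nq hM hb hη₀ η₀, pow_succ]
    exact mul_dvd_mul_left _ h
  have hu0 : u ≠ 0 := by
    intro h
    rw [hu, CharP.cast_eq_zero_iff (ZMod p) p] at h
    exact not_dvd_udeg Fact.out η₀ h
  have hs : ∀ φ : Cfsg.IrrCharacter G, φ ∈ B → vdeg p φ = minVdeg p B →
      ∑ θ ∈ bset b, (mult H φ θ : ZMod p) * (qdeg p b θ : ZMod p) ≠ 0 := by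
    intro φ hφ hφ0 h
    refine not_dvd_sum_mult hM hind hφ hφ0 ?_
    have h' : (p : ℤ) ∣ ∑ θ ∈ bset b, (mult H φ θ : ℤ) * (qdeg p b θ : ℤ) := by
      rw [← ZMod.intCast_zmod_eq_zero_iff_dvd]
      push_cast
      exact h
    rw [pow_succ]
    refine (mul_dvd_mul_left ((p : ℤ) ^ minVdeg p b) h').trans (dvd_of_eq ?_)
    rw [Finset.mul_sum]
    refine Finset.sum_congr rfl fun θ hθ => ?_
    rw [← pow_mul_qdeg (p := p) (mem_bset.mp hθ)]
    push_cast
    ring
  set S : ℤ := ∑ ζ ∈ bset b, (∑ θ ∈ bset b, (mult H χ θ : ℤ) * nq p b θ ζ) * (mult H ψ ζ : ℤ)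
    with hS
  have hS0 : (S : ZMod p) ≠ 0 := by
    intro h
    have hterm : ∀ θ ∈ bset b, ∀ ζ ∈ bset b, (nq p b θ ζ : ZMod p) * (u * u) =
        r * ((qdeg p b θ : ZMod p) * (qdeg p b ζ : ZMod p)) := by
      intro θ hθ ζ hζ
      rw [← mul_assoc, hu, nq_congr hM hb hη₀ h0 (mem_bset.mp hθ) ζ, nq_comm η₀ ζ,
        mul_right_comm, nq_congr hM hb hη₀ h0 (mem_bset.mp hζ) η₀, hr]
      ring
    have key : (S : ZMod p) * (u * u) = r *
        ((∑ θ ∈ bset b, (mult H χ θ : ZMod p) * (qdeg p b θ : ZMod p)) *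
          ∑ θ ∈ bset b, (mult H ψ θ : ZMod p) * (qdeg p b θ : ZMod p)) := by
      rw [hS, Finset.sum_mul_sum, Finset.mul_sum]
      push_cast
      simp only [Finset.sum_mul, Finset.mul_sum]
      rw [Finset.sum_comm]
      refine Finset.sum_congr rfl fun θ hθ => Finset.sum_congr rfl fun ζ hζ => ?_
      linear_combination (mult H χ θ : ZMod p) * (mult H ψ ζ : ZMod p) * hterm θ hθ ζ hζ
    rw [h, zero_mul] at key
    exact mul_ne_zero hr0 (mul_ne_zero (hs χ hχ hχ0) (hs ψ hψ hψ0)) key.symm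
  exact hS0

include hM in
/-- The rows of the contribution matrix. -/
theorem sum_cX_mul_left {x : H} (hx : Pelt p x) {B : Set (Cfsg.IrrCharacter G)}
    (hind : Cfsg.IsInducedBlock M H b B) (χ : Cfsg.IrrCharacter G) :
    ∑ ψ ∈ bset B, cX p b x χ ψ * cX p b x ψ χ =
      (p : ℂ) ^ Cfsg.blockDefect p b * cX p b x χ χ := by
  classical
  let E : Cfsg.IrrCharacter H → Cfsg.IrrCharacter H → ℂ := fun η ζ =>
    ∑ ψ ∈ bset B, rowq p b x ψ η * conj (acoef x ψ ζ)
  have hEN : ∀ η ∈ bset b, ∀ θ ∈ bset b, ∑ ζ ∈ bset b, E η ζ * (nq p b ζ θ : ℂ) =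
      (p : ℂ) ^ Cfsg.blockDefect p b * (nq p b η θ : ℂ) := by
    intro η hη θ hθ
    rw [← sum_rowq_mul hM hx hind (mem_bset.mp hη) (mem_bset.mp hθ)]
    simp only [E, Finset.sum_mul]
    rw [Finset.sum_comm]
    refine Finset.sum_congr rfl fun ψ _ => ?_
    conv_rhs => rw [rowq.eq_def p b x ψ θ, map_sum, Finset.mul_sum]
    exact Finset.sum_congr rfl fun ζ _ => by rw [map_mul, map_intCast]; ring
  calc ∑ ψ ∈ bset B, cX p b x χ ψ * cX p b x ψ χ
      = ∑ η ∈ bset b, (∑ ζ ∈ bset b, rowq p b x χ ζ * E η ζ) * conj (acoef x χ η) := by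
        simp only [cX, E, Finset.sum_mul, Finset.mul_sum]
        rw [Finset.sum_comm]
        refine Finset.sum_congr rfl fun η _ => ?_
        rw [Finset.sum_comm]
        exact Finset.sum_congr rfl fun ζ _ => Finset.sum_congr rfl fun ψ _ => by ring
    _ = _ := by
        rw [cX, Finset.mul_sum]
        refine Finset.sum_congr rfl fun η hη => ?_
        rw [← mul_assoc]
        congr 1
        simp only [rowq, Finset.sum_mul, Finset.mul_sum]
        rw [Finset.sum_comm]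
        refine Finset.sum_congr rfl fun θ hθ => ?_
        rw [show (p : ℂ) ^ Cfsg.blockDefect p b * (acoef x χ θ * (nq p b θ η : ℂ)) =
            acoef x χ θ * ((p : ℂ) ^ Cfsg.blockDefect p b * (nq p b η θ : ℂ)) by
          rw [nq_comm η θ]; ring, ← hEN η hη θ hθ, Finset.mul_sum]
        exact Finset.sum_congr rfl fun ζ _ => by rw [nq_comm θ ζ]; ring

include hM in
/-- The trace of the contribution matrix. -/
theorem sum_cX_self {x : H} (hx : Pelt p x) {B : Set (Cfsg.IrrCharacter G)}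
    (hind : Cfsg.IsInducedBlock M H b B) :
    ∑ χ ∈ bset B, cX p b x χ χ =
      (p : ℂ) ^ Cfsg.blockDefect p b * (Cfsg.blockRank p b : ℂ) := by
  have h := sum_cX_mul hM hx hind
  simp only [sum_cX_mul_left hM hx hind, ← Finset.mul_sum, two_mul, pow_add, mul_assoc] at h
  exact mul_left_cancel₀ (pow_ne_zero _ (Nat.cast_ne_zero.mpr (Fact.out : p.Prime).ne_zero)) h

include hM in
/-- A diagonal contribution is a non-negative real number. -/
theorem cX_self_nonneg {x : H} (hx : Pelt p x) {B : Set (Cfsg.IrrCharacter G)}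
    (hind : Cfsg.IsInducedBlock M H b B) (χ : Cfsg.IrrCharacter G) :
    (cX p b x χ χ).im = 0 ∧ 0 ≤ (cX p b x χ χ).re ∧
      ∑ ψ ∈ bset B, Complex.normSq (cX p b x χ ψ) =
        (p : ℝ) ^ Cfsg.blockDefect p b * (cX p b x χ χ).re := by
  have h := sum_cX_mul_left hM hx hind χ
  have him : (cX p b x χ χ).im = 0 := Complex.conj_eq_iff_im.mp (conj_cX x χ χ)
  have hre : cX p b x χ χ = ((cX p b x χ χ).re : ℂ) := (Complex.conj_eq_iff_re.mp (conj_cX x χ χ)).symm
  have hsum : ∑ ψ ∈ bset B, cX p b x χ ψ * cX p b x ψ χ =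
      ((∑ ψ ∈ bset B, Complex.normSq (cX p b x χ ψ) : ℝ) : ℂ) := by
    push_cast
    exact Finset.sum_congr rfl fun ψ _ => by rw [← conj_cX x χ ψ, Complex.mul_conj]
  rw [hsum, hre] at h
  have h' : ∑ ψ ∈ bset B, Complex.normSq (cX p b x χ ψ) =
      (p : ℝ) ^ Cfsg.blockDefect p b * (cX p b x χ χ).re := by exact_mod_cast h
  refine ⟨him, ?_, h'⟩
  have hq : (0 : ℝ) < (p : ℝ) ^ Cfsg.blockDefect p b :=
    pow_pos (Nat.cast_pos.mpr (Fact.out : p.Prime).pos) _
  have h0 : 0 ≤ ∑ ψ ∈ bset B, Complex.normSq (cX p b x χ ψ) :=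
    Finset.sum_nonneg fun ψ _ => Complex.normSq_nonneg _
  rw [h'] at h0
  exact nonneg_of_mul_nonneg_right h0 hq

end general

section two

variable {G : Type u} [Group G] [Fintype G] {H : Subgroup G} [Fintype H]
  {b : Set (Cfsg.IrrCharacter H)} {M : Ideal Cfsg.AlgInt} [M.IsMaximal] (hM : Cfsg.IsPModular 2 M) [Fact (Nat.Prime 2)]
  {x : H} (hx : Pelt 2 x) {j : ℕ} (hj : orderOf x = 2 ^ j) {B : Set (Cfsg.IrrCharacter G)}
  (hind : Cfsg.IsInducedBlock M H b B)

include hM hx hj hind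

/-- The mean of a diagonal contribution of height zero is odd. -/
theorem exists_mean_self {χ : Cfsg.IrrCharacter G} (hχ : χ ∈ B) (h0 : vdeg 2 χ = minVdeg 2 B) :
    ∃ a : ℤ, Odd a ∧ ∑ k ∈ Finset.range (2 ^ j),
      formX 2 b (fun θ => lam x θ ^ (2 * k + 1)) χ χ = (2 : ℂ) ^ j * (a : ℂ) := by
  classical
  let c : bset b × bset b → ℤ := fun i =>
    (mult H χ i.1 : ℤ) * nq 2 b i.1 i.2 * (mult H χ i.2 : ℤ)
  obtain ⟨a, ha, hsum⟩ := mean_root_parity (fun i : bset b × bset b => (i.2, i.1))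
    (fun i => rfl) c (fun i => by simp only [c]; rw [nq_comm]; ring)
    (fun i => lam x i.1 * (lam x i.2)⁻¹) (fun i => by rw [mul_inv, inv_inv, mul_comm]) j
    (fun i => by
      rw [mul_pow, inv_pow, lam_pow hx.commute (hj ▸ pow_orderOf_eq_one x),
        lam_pow hx.commute (hj ▸ pow_orderOf_eq_one x), inv_one, one_mul])
  have hS := coef_sum_ne_zero hM hind hχ hχ h0 h0
  have hc : ∑ i, c i =
      ∑ ζ ∈ bset b, (∑ θ ∈ bset b, (mult H χ θ : ℤ) * nq 2 b θ ζ) * (mult H χ ζ : ℤ) := by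
    simp only [Fintype.sum_prod_type, c, Finset.sum_mul]
    rw [Finset.sum_comm]
    exact (Finset.sum_coe_sort (bset b) fun ζ => ∑ θ : bset b,
      (mult H χ θ : ℤ) * nq 2 b θ ζ * (mult H χ ζ : ℤ)).trans
        (Finset.sum_congr rfl fun ζ _ => Finset.sum_coe_sort (bset b) fun θ =>
          (mult H χ θ : ℤ) * nq 2 b θ ζ * (mult H χ ζ : ℤ))
  rw [← hc, Ne, ZMod.intCast_zmod_eq_zero_iff_dvd] at hS
  refine ⟨a, Int.odd_iff.mpr (by push_cast at hS; omega), ?_⟩
  rw [← hsum]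
  refine Finset.sum_congr rfl fun k _ => ?_
  simp only [formX, Fintype.sum_prod_type, c, Finset.sum_mul]
  rw [Finset.sum_comm, ← Finset.sum_coe_sort (bset b)]
  refine Finset.sum_congr rfl fun θ _ => ?_
  rw [← Finset.sum_coe_sort (bset b)]
  refine Finset.sum_congr rfl fun ζ _ => ?_
  rw [mul_pow, inv_pow]
  push_cast
  ring

/-- The mean of the square of a contribution of height zero characters is odd. -/
theorem exists_mean_mul {χ ψ : Cfsg.IrrCharacter G} (hχ : χ ∈ B) (hψ : ψ ∈ B)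
    (hχ0 : vdeg 2 χ = minVdeg 2 B) (hψ0 : vdeg 2 ψ = minVdeg 2 B) :
    ∃ a : ℤ, Odd a ∧ ∑ k ∈ Finset.range (2 ^ j),
      formX 2 b (fun θ => lam x θ ^ (2 * k + 1)) χ ψ *
        formX 2 b (fun θ => lam x θ ^ (2 * k + 1)) ψ χ = (2 : ℂ) ^ j * (a : ℂ) := by
  classical
  let d : Cfsg.IrrCharacter G → Cfsg.IrrCharacter G → bset b × bset b → ℤ := fun φ φ' i =>
    (mult H φ i.1 : ℤ) * nq 2 b i.1 i.2 * (mult H φ' i.2 : ℤ)
  let w : bset b × bset b → ℂ := fun i => lam x i.1 * (lam x i.2)⁻¹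
  have hd : ∀ φ φ' i, d φ φ' (i.2, i.1) = d φ' φ i := fun φ φ' i => by
    simp only [d]; rw [nq_comm]; ring
  have hsw : ∀ i : bset b × bset b, w (i.2, i.1) = (w i)⁻¹ := fun i => by
    simp only [w]; rw [mul_inv, inv_inv, mul_comm]
  have hwj : ∀ i, w i ^ 2 ^ j = 1 := fun i => by
    simp only [w]
    rw [mul_pow, inv_pow, lam_pow hx.commute (hj ▸ pow_orderOf_eq_one x),
      lam_pow hx.commute (hj ▸ pow_orderOf_eq_one x), inv_one, one_mul]
  obtain ⟨a, ha, hsum⟩ := mean_root_parity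
    (fun i : (bset b × bset b) × (bset b × bset b) => ((i.2.2, i.2.1), (i.1.2, i.1.1)))
    (fun i => rfl) (fun i => d χ ψ i.1 * d ψ χ i.2)
    (fun i => by dsimp only; rw [hd, hd]; ring) (fun i => w i.1 * w i.2)
    (fun i => by dsimp only; rw [hsw i.2, hsw i.1, ← mul_inv, mul_comm]) j
    (fun i => by rw [mul_pow, hwj, hwj, one_mul])
  have hform : ∀ (k : ℕ) φ φ', formX 2 b (fun θ => lam x θ ^ k) φ φ' =
      ∑ i : bset b × bset b, (d φ φ' i : ℂ) * w i ^ k := by
    intro k φ φ'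
    simp only [formX, Fintype.sum_prod_type, d, w, Finset.sum_mul]
    rw [Finset.sum_comm, ← Finset.sum_coe_sort (bset b)]
    refine Finset.sum_congr rfl fun θ _ => ?_
    rw [← Finset.sum_coe_sort (bset b)]
    refine Finset.sum_congr rfl fun ζ _ => ?_
    rw [mul_pow, inv_pow]
    push_cast
    ring
  have hc : ∀ φ φ', φ ∈ B → φ' ∈ B → vdeg 2 φ = minVdeg 2 B → vdeg 2 φ' = minVdeg 2 B →
      ((∑ i, d φ φ' i : ℤ) : ZMod 2) ≠ 0 := by
    intro φ φ' h1 h2 h3 h4
    rw [show ∑ i, d φ φ' i = ∑ ζ ∈ bset b, (∑ θ ∈ bset b, (mult H φ θ : ℤ) * nq 2 b θ ζ) *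
        (mult H φ' ζ : ℤ) from ?_]
    · exact coef_sum_ne_zero hM hind h1 h2 h3 h4
    simp only [Fintype.sum_prod_type, d, Finset.sum_mul]
    rw [Finset.sum_comm]
    exact (Finset.sum_coe_sort (bset b) fun ζ => ∑ θ : bset b,
      (mult H φ θ : ℤ) * nq 2 b θ ζ * (mult H φ' ζ : ℤ)).trans
        (Finset.sum_congr rfl fun ζ _ => Finset.sum_coe_sort (bset b) fun θ =>
          (mult H φ θ : ℤ) * nq 2 b θ ζ * (mult H φ' ζ : ℤ))
  refine ⟨a, ?_, ?_⟩
  · have hS : ((∑ i : (bset b × bset b) × (bset b × bset b), d χ ψ i.1 * d ψ χ i.2 : ℤ) :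
        ZMod 2) ≠ 0 := by
      rw [Fintype.sum_prod_type, ← Finset.sum_mul_sum, Int.cast_mul]
      exact mul_ne_zero (hc χ ψ hχ hψ hχ0 hψ0) (hc ψ χ hψ hχ hψ0 hχ0)
    rw [Ne, ZMod.intCast_zmod_eq_zero_iff_dvd] at hS
    exact Int.odd_iff.mpr (by push_cast at hS; omega)
  · rw [← hsum]
    refine Finset.sum_congr rfl fun k _ => ?_
    rw [hform, hform, Finset.sum_mul_sum, ← Finset.sum_product', Finset.univ_product_univ]
    refine Finset.sum_congr rfl fun i _ => ?_
    rw [mul_pow]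
    push_cast
    ring

/-- The means of the diagonal contributions of the characters of height zero. -/
theorem exists_means :
    ∃ (Z : Finset (Cfsg.IrrCharacter G)) (a : Cfsg.IrrCharacter G → ℤ),
      (∀ χ, χ ∈ Z ↔ χ ∈ B ∧ vdeg 2 χ = minVdeg 2 B) ∧
      (∀ χ ∈ Z, Odd (a χ) ∧ 1 ≤ a χ ∧
        (Z.card : ℤ) - 1 + a χ * a χ ≤ 2 ^ Cfsg.blockDefect 2 b * a χ) ∧
      ∑ χ ∈ Z, a χ ≤ 2 ^ Cfsg.blockDefect 2 b * (Cfsg.blockRank 2 b : ℤ) := by
  classical
  have hB := hind.2.1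
  set Z := (bset B).filter fun χ => vdeg 2 χ = minVdeg 2 B with hZ
  have hmem : ∀ χ, χ ∈ Z ↔ χ ∈ B ∧ vdeg 2 χ = minVdeg 2 B := fun χ => by
    rw [hZ, Finset.mem_filter, mem_bset]
  choose! a hodd hmean using fun χ (hχ : χ ∈ Z) =>
    exists_mean_self hM hx hj hind ((hmem χ).mp hχ).1 ((hmem χ).mp hχ).2
  let F : ℕ → Cfsg.IrrCharacter G → Cfsg.IrrCharacter G → ℂ := fun k =>
    formX 2 b fun θ => lam x θ ^ (2 * k + 1)
  have htw : ∀ k : ℕ, ∃ e : Cfsg.IrrCharacter G → Cfsg.IrrCharacter G, Function.Injective e ∧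
      (∀ χ ∈ bset B, e χ ∈ bset B) ∧ ∀ χ ψ, F k χ ψ = cX 2 b x (e χ) (e ψ) := by
    intro k
    obtain ⟨k', hk', hreg, hF⟩ := form_pow_eq hM hind.1 hx
      (k := 2 * k + 1) (Nat.coprime_two_right.mpr ⟨k, rfl⟩)
    exact ⟨twistChar hk', twistChar_injective hk',
      fun χ hχ => mem_bset.mpr (twistChar_mem hM hk' hreg hB (mem_bset.mp hχ)), hF⟩
  choose e he hemem hF using htw
  have himage : ∀ k, (bset B).image (e k) = bset B := fun k =>
    Finset.eq_of_subset_of_card_le (Finset.image_subset_iff.mpr (hemem k))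
      (Finset.card_image_of_injective _ (he k)).ge
  set Q : ℝ := (2 : ℝ) ^ Cfsg.blockDefect 2 b with hQ
  have hQ0 : 0 < Q := by positivity
  have hrow : ∀ k χ, (F k χ χ).im = 0 ∧ 0 ≤ (F k χ χ).re ∧
      ∑ ψ ∈ bset B, Complex.normSq (F k χ ψ) = Q * (F k χ χ).re := by
    intro k χ
    obtain ⟨h1, h2, h3⟩ := cX_self_nonneg hM hx hind (e k χ)
    simp only [hF]
    refine ⟨h1, h2, ?_⟩
    conv_lhs at h3 => rw [← himage k, Finset.sum_image ((he k).injOn)]
    rw [h3, hQ]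
    norm_num
  set N : ℝ := (2 : ℝ) ^ j with hN
  have hN0 : 0 < N := by positivity
  have hNcard : ((Finset.range (2 ^ j)).card : ℝ) = N := by rw [Finset.card_range, hN]; norm_num
  have hdiag : ∀ χ ∈ Z, ∑ k ∈ Finset.range (2 ^ j), (F k χ χ).re = N * a χ := by
    intro χ hχ
    have h := congrArg Complex.re (hmean χ hχ)
    rw [Complex.re_sum] at h
    rw [h, hN]
    have : ((2 : ℂ) ^ j * (a χ : ℂ)) = (((2 : ℝ) ^ j * (a χ : ℝ) : ℝ) : ℂ) := by push_cast; ring
    rw [this, Complex.ofReal_re]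
  refine ⟨Z, a, hmem, fun χ hχ => ?_, ?_⟩
  · have hpart : ∀ ψ ∈ Z, N ≤ ∑ k ∈ Finset.range (2 ^ j), Complex.normSq (F k χ ψ) := by
      intro ψ hψ
      obtain ⟨c, hc, hsum⟩ := exists_mean_mul hM hx hj hind ((hmem χ).mp hχ).1 ((hmem ψ).mp hψ).1
        ((hmem χ).mp hχ).2 ((hmem ψ).mp hψ).2
      have e1 : ((∑ k ∈ Finset.range (2 ^ j), Complex.normSq (F k χ ψ) : ℝ) : ℂ) =
          (((2 : ℝ) ^ j * (c : ℝ) : ℝ) : ℂ) := by
        push_cast
        rw [← hsum]
        refine Finset.sum_congr rfl fun k _ => ?_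
        rw [← Complex.mul_conj]
        congr 1
        rw [hF k χ ψ, conj_cX]
        exact (hF k ψ χ).symm
      have e2 := Complex.ofReal_injective e1
      have h0 : 0 ≤ (c : ℝ) := by
        have : 0 ≤ N * (c : ℝ) := e2 ▸ Finset.sum_nonneg fun k _ => Complex.normSq_nonneg _
        exact nonneg_of_mul_nonneg_right this hN0
      have h0' : (0 : ℤ) ≤ c := by exact_mod_cast h0
      have h1 : (1 : ℝ) ≤ c := by
        obtain ⟨t, ht⟩ := hc
        have : (1 : ℤ) ≤ c := by omega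
        exact_mod_cast this
      rw [e2]
      exact le_mul_of_one_le_right hN0.le h1
    have hsq : N * ((a χ : ℝ) * a χ) ≤
        ∑ k ∈ Finset.range (2 ^ j), Complex.normSq (F k χ χ) := by
      have h := sq_sum_le_card_mul_sum_sq (s := Finset.range (2 ^ j))
        (f := fun k => (F k χ χ).re)
      rw [hdiag χ hχ, hNcard] at h
      have h' : ∑ k ∈ Finset.range (2 ^ j), Complex.normSq (F k χ χ) =
          ∑ k ∈ Finset.range (2 ^ j), (F k χ χ).re ^ 2 :=
        Finset.sum_congr rfl fun k _ => by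
          rw [Complex.normSq_apply, (hrow k χ).1]; ring
      rw [h']
      nlinarith
    have hmain : (((Z.card : ℤ) - 1 : ℤ) : ℝ) * N + N * ((a χ : ℝ) * a χ) ≤ Q * (N * a χ) := by
      rw [← hdiag χ hχ, Finset.mul_sum, Finset.sum_congr rfl fun k _ => (hrow k χ).2.2.symm,
        Finset.sum_comm]
      refine le_trans ?_ (Finset.sum_le_sum_of_subset_of_nonneg (Finset.filter_subset
        (fun χ => vdeg 2 χ = minVdeg 2 B) (bset B)) fun ψ _ _ =>
          Finset.sum_nonneg fun k _ => Complex.normSq_nonneg _)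
      rw [← hZ, ← Finset.sum_erase_add Z _ hχ]
      refine add_le_add ?_ hsq
      have := Finset.card_nsmul_le_sum (Z.erase χ) _ N fun ψ hψ =>
        hpart ψ (Finset.mem_of_mem_erase hψ)
      rw [nsmul_eq_mul, Finset.card_erase_of_mem hχ, Nat.cast_sub (Finset.card_pos.mpr ⟨χ, hχ⟩),
        Nat.cast_one] at this
      push_cast
      exact this
    have h2 : (((Z.card : ℤ) - 1 : ℤ) : ℝ) + (a χ : ℝ) * a χ ≤ Q * a χ :=
      le_of_mul_le_mul_left (by linarith) hN0
    have h3 : (Z.card : ℤ) - 1 + a χ * a χ ≤ 2 ^ Cfsg.blockDefect 2 b * a χ := by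
      rw [hQ] at h2
      exact_mod_cast h2
    have h4 : 0 ≤ a χ := by
      have : 0 ≤ N * (a χ : ℝ) := hdiag χ hχ ▸ Finset.sum_nonneg fun k _ => (hrow k χ).2.1
      exact_mod_cast nonneg_of_mul_nonneg_right this hN0
    refine ⟨hodd χ hχ, ?_, h3⟩
    obtain ⟨t, ht⟩ := hodd χ hχ
    omega
  · have htot : ∀ k, ∑ χ ∈ bset B, (F k χ χ).re = Q * (Cfsg.blockRank 2 b : ℝ) := by
      intro k
      have h := congrArg Complex.re (sum_cX_self hM hx hind)
      conv_lhs at h => rw [← himage k, Finset.sum_image ((he k).injOn), Complex.re_sum]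
      simp only [← hF] at h
      rw [h, hQ]
      have : ((2 : ℕ) : ℂ) ^ Cfsg.blockDefect 2 b * (Cfsg.blockRank 2 b : ℂ) =
          (((2 : ℝ) ^ Cfsg.blockDefect 2 b * (Cfsg.blockRank 2 b : ℝ) : ℝ) : ℂ) := by
        push_cast; ring
      rw [this, Complex.ofReal_re]
    have h1 : N * ((∑ χ ∈ Z, a χ : ℤ) : ℝ) ≤ N * (Q * (Cfsg.blockRank 2 b : ℝ)) := by
      rw [Int.cast_sum, Finset.mul_sum, Finset.sum_congr rfl fun χ hχ => (hdiag χ hχ).symm,
        Finset.sum_comm, ← hNcard, ← nsmul_eq_mul, ← Finset.sum_const]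
      exact Finset.sum_le_sum fun k _ => (htot k) ▸ Finset.sum_le_sum_of_subset_of_nonneg
        (Finset.filter_subset _ _) fun χ _ _ => (hrow k χ).2.1
    have h2 := le_of_mul_le_mul_left h1 hN0
    rw [hQ] at h2
    exact_mod_cast h2

end two

end Cfsg.Agent.Lib.BC78.SectionMeans
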