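import Cfsg.Agent.Lib.BC78.GlueExt
import Cfsg.Agent.Lib.BC78.CyclicExt
import Cfsg.Agent.Lib.BC78.RealOdd.Tools
import Cfsg.Agent.Lib.Chars82.StableExtension
import Cfsg.Agent.Lib.Chars82.RealChars
import Cfsg.Agent.Lib.Clifford.Gallagher

/-!
# Characters fixed by `g ↦ g ^ k` over a normal subgroup of odd index

Here `k` is prime to the order and inverts the elements of odd order.  A fixed character of a
normal subgroup of odd index lies under exactly one fixed character of the group, which is an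
extension if the character is invariant.
-/

set_option autoImplicit false

namespace Cfsg.Agent.Lib.BC78.SigmaFixed

open scoped ComplexConjugate
open Cfsg.Agent.Lib.Induced.Basic Cfsg.Agent.Lib.Characters.Basic
open Cfsg.Agent.Lib.Characters Cfsg.Agent.Lib.BC78
open Cfsg.Agent.Lib.Clifford.Basic (conjC inertia)

universe u

/-- The hypotheses on the exponent. -/
structure Pow (k : ℕ) (G : Type u) [Group G] : Prop where
  coprime : Nat.Coprime k (Nat.card G)
  inv : ∀ g : G, Odd (orderOf g) → g ^ k = g⁻¹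

/-- Unchanged by composing with `g ↦ g ^ k`. -/
def Fix (k : ℕ) {A : Type u} [Group A] (f : A → ℂ) : Prop := ∀ a : A, f (a ^ k) = f a

variable {G : Type u} [Group G] [Finite G] {k : ℕ}

omit [Finite G] in
theorem Pow.subgroup (h : Pow k G) (H : Subgroup G) : Pow k H :=
  ⟨h.coprime.coprime_dvd_right H.card_subgroup_dvd_card, fun g hg => Subtype.ext (by
    rw [Subgroup.coe_pow, Subgroup.coe_inv]
    exact h.inv g (by rwa [Subgroup.orderOf_coe]))⟩

variable (hp : Pow k G) (L : Subgroup G) [hL : L.Normal] (hodd : Odd L.index)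

include hodd in
/-- Every coset contains an element of odd order. -/
theorem exists_odd_rep (g : G) : ∃ g' : G, Odd (orderOf g') ∧ g' * g⁻¹ ∈ L := by
  obtain ⟨a, o, ho, hao⟩ := Nat.exists_eq_two_pow_mul_odd (orderOf_pos g).ne'
  have hcop : Nat.Coprime L.index (2 ^ a) :=
    Nat.Coprime.pow_right a (Nat.coprime_two_right.2 hodd)
  obtain ⟨u, hu1, hu2⟩ := Nat.chineseRemainder hcop 1 0
  refine ⟨g ^ u, ?_, ?_⟩
  · obtain ⟨c, hc⟩ := Nat.modEq_zero_iff_dvd.1 hu2
    refine Odd.of_dvd_nat ho (orderOf_dvd_of_pow_eq_one ?_)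
    rw [← pow_mul, hc, mul_right_comm, ← hao, pow_mul, pow_orderOf_eq_one, one_pow]
  · rw [← QuotientGroup.eq_one_iff, QuotientGroup.mk_mul, QuotientGroup.mk_inv,
      QuotientGroup.mk_pow, mul_inv_eq_one]
    conv_rhs => rw [← pow_one (g : G ⧸ L)]
    rw [pow_eq_pow_iff_modEq]
    refine hu1.of_dvd ?_
    rw [Subgroup.index_eq_card]
    exact orderOf_dvd_natCard _

include hp hodd in
/-- Linear characters of the quotient are inverted. -/
theorem hom_pow (l : G →* ℂˣ) (hl : ∀ x ∈ L, l x = 1) (g : G) : l (g ^ k) = (l g)⁻¹ := by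
  obtain ⟨g', ho, hg'⟩ := exists_odd_rep L hodd g
  have h1 : l g' = l g := by
    have := hl _ hg'
    rwa [map_mul, map_inv, mul_inv_eq_one] at this
  rw [map_pow, ← h1, ← map_pow, hp.inv g' ho, map_inv]

omit [Finite G] in
include hodd in
theorem hom_eq_one_of_sq [Finite G] (l : G →* ℂˣ) (hl : ∀ x ∈ L, l x = 1)
    (h : ∀ g, l g = (l g)⁻¹) : l = 1 := by
  refine MonoidHom.ext fun g => ?_
  have h2 : l g ^ 2 = 1 := by rw [pow_two]; nth_rw 2 [h g]; exact mul_inv_cancel _
  have h3 : l g ^ L.index = 1 := by rw [← map_pow]; exact hl _ (Subgroup.pow_index_mem L g)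
  have h4 := pow_gcd_eq_one.2 ⟨h2, h3⟩
  rw [Nat.coprime_two_left.2 hodd, pow_one] at h4
  exact h4

variable [Fintype G] [Fintype L]

include hp hodd in
/-- Two fixed extensions along a commutative quotient coincide. -/
theorem ext_unique (hab : ∀ a b : G ⧸ L, a * b = b * a) (ξ : Cfsg.IrrCharacter L)
    (χ χ' : Cfsg.IrrCharacter G) (hχ : ∀ x : L, (χ : G → ℂ) x = (ξ : L → ℂ) x)
    (hχ' : ∀ x : L, (χ' : G → ℂ) x = (ξ : L → ℂ) x) (hf : Fix k (χ : G → ℂ))
    (hf' : Fix k (χ' : G → ℂ)) : χ = χ' := by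
  classical
  obtain ⟨l, hl, hlχ⟩ := LinTwist.exists_twist L hab χ χ' (by
    rw [show (fun x : L => (χ : G → ℂ) x) = (ξ : L → ℂ) from funext hχ,
      show (fun x : L => (χ' : G → ℂ) x) = (ξ : L → ℂ) from funext hχ', classInner_self_irr]
    exact one_ne_zero)
  suffices l = 1 by
    rw [← hlχ, this]
    exact Subtype.ext (funext fun g => by simp)
  refine hom_eq_one_of_sq L hodd l hl fun g => ?_
  -- some element of the coset is not a zero of `χ`
  obtain ⟨x, hx⟩ : ∃ x : L, (χ : G → ℂ) ((x : G) * g) ≠ 0 := by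
    by_contra hcon
    push Not at hcon
    have h := LinTwist.coset_norm L hab χ ξ hχ g
    simp only [hcon, zero_mul, Finset.sum_const_zero] at h
    exact subgroup_card_ne_zero L h.symm
  have hxg : l ((x : G) * g) = l g := by rw [map_mul, hl _ x.2, one_mul]
  have h1 := hf' ((x : G) * g)
  rw [← hlχ] at h1
  simp only [LinTwist.twist_apply, hf ((x : G) * g), hom_pow hp L hodd l hl, hxg] at h1
  exact (Units.ext (mul_right_cancel₀ hx h1)).symm

include hp hodd in
/-- An invariant fixed character has a fixed extension along a cyclic quotient. -/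
theorem ext_exists [IsCyclic (G ⧸ L)] (ξ : Cfsg.IrrCharacter L)
    (hinv : ∀ g : G, Clifford.conjIrr L ξ g = ξ) (hfix : Fix k (ξ : L → ℂ)) :
    ∃ χ : Cfsg.IrrCharacter G, (∀ x : L, (χ : G → ℂ) x = (ξ : L → ℂ) x) ∧ Fix k (χ : G → ℂ) := by
  classical
  obtain ⟨χ, hχ⟩ := CyclicExt.exists_extension L ξ hinv
  let χ' : Cfsg.IrrCharacter G := ⟨fun g => (χ : G → ℂ) (g ^ k), PowChar.isIrrCharacter_pow χ.2 hp.coprime⟩
  have hχ' : ∀ x : L, (χ' : G → ℂ) x = (ξ : L → ℂ) x := fun x => by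
    show (χ : G → ℂ) ((x : G) ^ k) = _
    rw [← Subgroup.coe_pow, hχ, hfix]
  obtain ⟨l, hl, hlχ⟩ := LinTwist.exists_twist L LinTwist.isCyclic_comm χ χ' (by
    rw [show (fun x : L => (χ : G → ℂ) x) = (ξ : L → ℂ) from funext hχ,
      show (fun x : L => (χ' : G → ℂ) x) = (ξ : L → ℂ) from funext hχ', classInner_self_irr]
    exact one_ne_zero)
  obtain ⟨m, hm⟩ := hodd
  have hidx : ∀ g, l g ^ (2 * m + 1) = 1 := fun g => by
    rw [← hm, ← map_pow]; exact hl _ (Subgroup.pow_index_mem L g)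
  refine ⟨LinTwist.twist (l ^ (m + 1)) χ, fun x => ?_, fun g => ?_⟩
  · rw [LinTwist.twist_apply, MonoidHom.pow_apply, hl _ x.2, one_pow, Units.val_one, one_mul, hχ]
  · have h1 : (χ : G → ℂ) (g ^ k) = (l g : ℂ) * (χ : G → ℂ) g := by
      have := congrArg (fun φ : Cfsg.IrrCharacter G => (φ : G → ℂ) g) hlχ
      simp only [LinTwist.twist_apply] at this
      exact this.symm
    rw [LinTwist.twist_apply, LinTwist.twist_apply, h1, MonoidHom.pow_apply, MonoidHom.pow_apply,
      hom_pow hp L ⟨m, hm⟩ l hl, ← mul_assoc, ← Units.val_mul]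
    congr 2
    rw [inv_pow, inv_mul_eq_iff_eq_mul, ← pow_add, show m + 1 + (m + 1) = (2 * m + 1) + 1 by omega,
      pow_succ, hidx, one_mul]

omit hL in
/-- The distinguished extensions of `θ`. -/
def Val (k : ℕ) (θ : Cfsg.IrrCharacter L) (H : Subgroup G) (χ : Cfsg.IrrCharacter H) : Prop :=
  (∀ (n : L) (h : H), (h : G) = n → (χ : H → ℂ) h = (θ : L → ℂ) n) ∧ Fix k (χ : H → ℂ)

variable {θ : Cfsg.IrrCharacter L} (hθ : Fix k (θ : L → ℂ))
  (hinv : ∀ g, conjC L g (θ : L → ℂ) = (θ : L → ℂ))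

include hp hodd hθ hinv in
/-- Fixed extensions exist and are unique over a solvable quotient. -/
theorem exists_solvable (E : Subgroup G) [Group.IsSolvable E] :
    ∃! χ : Cfsg.IrrCharacter ↥(L ⊔ E), Val L k θ (L ⊔ E) χ := by
  classical
  refine GlueExt.solvable_induction L (fun H => ∃! χ : Cfsg.IrrCharacter H, Val L k θ H χ) ?_ ?_ E
  · refine ⟨θ, ⟨fun n h e => congrArg (θ : L → ℂ) (Subtype.ext e), hθ⟩, fun χ hχ => ?_⟩
    exact Subtype.ext (funext fun n => hχ.1 n n rfl)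
  rintro K H hLK hKH hKn hcyc ⟨ξ, hξ, hξu⟩
  haveI := hKn
  haveI := hcyc
  haveI := Fintype.ofFinite H
  haveI := Fintype.ofFinite (K.subgroupOf H)
  have hoddK : Odd (K.subgroupOf H).index :=
    Odd.of_dvd_nat hodd (dvd_trans (Subgroup.relIndex_dvd_of_le_left H hLK)
      (Subgroup.relIndex_dvd_index_of_normal L H))
  let e := Subgroup.subgroupOfEquivOfLe hKH
  let ξ' : Cfsg.IrrCharacter (K.subgroupOf H) :=
    ⟨(ξ : K → ℂ) ∘ e.toMonoidHom, isIrrCharacter_comp _ e.surjective ξ.2⟩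
  have hfix' : Fix k (ξ' : K.subgroupOf H → ℂ) := fun a => by
    show (ξ : K → ℂ) (e (a ^ k)) = (ξ : K → ℂ) (e a)
    rw [map_pow, hξ.2]
  -- the restriction of a distinguished character of `H` is `ξ`
  have hres : ∀ χ : Cfsg.IrrCharacter H, Val L k θ H χ →
      ∀ x : K.subgroupOf H, (χ : H → ℂ) x = (ξ' : K.subgroupOf H → ℂ) x := by
    intro χ hχ x
    obtain ⟨ψ, hψ⟩ := GlueExt.exists_restrict L hLK hKH χ hχ.1
    have : ψ = ξ := hξu ψ ⟨fun n h e => by rw [hψ]; exact hχ.1 n _ e,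
      fun a => by rw [hψ, hψ, map_pow]; exact hχ.2 _⟩
    show _ = (ξ : K → ℂ) (e x)
    rw [← this, hψ]
    rfl
  have hinvξ : ∀ h : H, Clifford.conjIrr (K.subgroupOf H) ξ' h = ξ' := by
    intro h
    let f : Cfsg.IrrCharacter K := ⟨(Clifford.conjIrr (K.subgroupOf H) ξ' h : _ → ℂ) ∘ e.symm.toMonoidHom,
      isIrrCharacter_comp _ e.symm.surjective (Clifford.conjIrr (K.subgroupOf H) ξ' h).2⟩
    have hf : f = ξ := hξu f ⟨fun n x hx => by
        have hc : (h : G) * n * (h : G)⁻¹ ∈ L := ‹L.Normal›.conj_mem n n.2 h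
        show (ξ : K → ℂ) (e ⟨h * (e.symm x : K.subgroupOf H) * h⁻¹, _⟩) = _
        rw [hξ.1 ⟨_, hc⟩ _ (by
          show (h : G) * (x : G) * (h : G)⁻¹ = _
          rw [hx])]
        exact congrFun (hinv h) n,
      fun a => by
        show (ξ : K → ℂ) (e ⟨h * (e.symm (a ^ k) : K.subgroupOf H) * h⁻¹, _⟩) =
          (ξ : K → ℂ) (e ⟨h * (e.symm a : K.subgroupOf H) * h⁻¹, _⟩)
        refine Eq.trans ?_ (hξ.2 _)
        refine congrArg (ξ : K → ℂ) (Subtype.ext ?_)
        show (h : G) * ((a ^ k : K) : G) * (h : G)⁻¹ = ((h : G) * (a : G) * (h : G)⁻¹) ^ k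
        rw [conj_pow, Subgroup.coe_pow]⟩
    apply Subtype.ext
    funext x
    have := congrArg (fun φ : Cfsg.IrrCharacter K => (φ : K → ℂ) (e x)) hf
    simp [f] at this
    exact this
  obtain ⟨χ, hχ, hχf⟩ := ext_exists (hp.subgroup H) (K.subgroupOf H) hoddK ξ' hinvξ hfix'
  have hχV : Val L k θ H χ := ⟨fun n x hx => by
    have hxK : x ∈ K.subgroupOf H := by rw [Subgroup.mem_subgroupOf, hx]; exact hLK n.2
    rw [show x = ((⟨x, hxK⟩ : K.subgroupOf H) : H) from rfl, hχ]
    exact hξ.1 n (e ⟨x, hxK⟩) hx, hχf⟩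
  exact ⟨χ, hχV, fun χ' h' => ext_unique (hp.subgroup H) (K.subgroupOf H) hoddK
    LinTwist.isCyclic_comm ξ' χ' χ (hres χ' h') hχ h'.2 hχf⟩

include hp hodd hθ hinv in
/-- An invariant fixed character extends to exactly one fixed character, the only one over it. -/
theorem invariant :
    ∃ η : Cfsg.IrrCharacter G, (∀ n : L, (η : G → ℂ) n = (θ : L → ℂ) n) ∧ Fix k (η : G → ℂ) ∧
      ∀ χ : Cfsg.IrrCharacter G, Fix k (χ : G → ℂ) →
        Cfsg.classInner (fun n : L => (χ : G → ℂ) n) (θ : L → ℂ) ≠ 0 → χ = η := by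
  classical
  have hsZ : ∀ g : G, Group.IsSolvable (Subgroup.zpowers g) := fun g =>
    Group.isSolvable_of_comm fun a b => Subtype.ext (by
      obtain ⟨i, hi⟩ := Subgroup.mem_zpowers_iff.1 a.2
      obtain ⟨j, hj⟩ := Subgroup.mem_zpowers_iff.1 b.2
      rw [Subgroup.coe_mul, Subgroup.coe_mul, ← hi, ← hj, ← zpow_add, ← zpow_add, add_comm])
  obtain ⟨η, hηN, hag⟩ := GlueExt.glue L (θ := θ) (fun H χ => Val L k θ H χ)
    (fun H _ χ h => h.1)
    (fun E hE => by haveI := hE; exact (exists_solvable hp L hodd hθ hinv E).exists)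
    (fun K H hKH hLK χ ψ h hψ => ⟨fun n l e => by rw [hψ]; exact h.1 n _ e,
      fun a => by rw [hψ, hψ, map_pow]; exact h.2 _⟩)
    (fun g χ χ' h h' => by
      haveI := hsZ g
      exact (exists_solvable hp L hodd hθ hinv (Subgroup.zpowers g)).unique h h')
    Set.univ (by rw [Subgroup.closure_univ, sup_top_eq])
    (fun x _ H H' hLH hLH' χ ψ h hmem hψ => by
      refine ⟨fun n h' e => ?_, fun a => ?_⟩
      · have hc : x⁻¹ * (n : G) * x ∈ L := by simpa using hL.conj_mem _ n.2 x⁻¹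
        rw [hψ ⟨_, hLH hc⟩ h' (by rw [e]; show _ = x * (x⁻¹ * (n : G) * x) * x⁻¹; group),
          h.1 ⟨_, hc⟩ _ rfl]
        have := congrFun (hinv x⁻¹) n
        rw [← this]
        exact congrArg (θ : L → ℂ) (Subtype.ext (by simp))
      · rw [hψ (⟨_, hmem a⟩ ^ k) (a ^ k) (by
            simp only [Subgroup.coe_pow]
            rw [show x * (x⁻¹ * (a : G) * x) ^ k * x⁻¹ = (x * (x⁻¹ * (a : G) * x) * x⁻¹) ^ k from
              (conj_pow).symm]
            group),
          hψ ⟨_, hmem a⟩ a (by show (a : G) = x * (x⁻¹ * a * x) * x⁻¹; group)]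
        exact h.2 _)
  have hηf : Fix k (η : G → ℂ) := by
    intro g
    haveI := hsZ g
    obtain ⟨χ, hχ⟩ := (exists_solvable hp L hodd hθ hinv (Subgroup.zpowers g)).exists
    have hg : g ∈ L ⊔ Subgroup.zpowers g := Subgroup.mem_sup_right (Subgroup.mem_zpowers g)
    rw [hag _ le_sup_left χ hχ ⟨g, hg⟩, ← hχ.2 ⟨g, hg⟩, ← hag _ le_sup_left χ hχ]
    rfl
  refine ⟨η, hηN, hηf, fun χ hχf hne => ?_⟩
  have hmul1 : (fun _ : L => (1 : ℂ)) * (θ : L → ℂ) = θ := funext fun n => one_mul _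
  obtain ⟨-, hinj, hG⟩ := Lib.Clifford.Gallagher.gallagher L (fun _ : L => (1 : ℂ)) (θ : L → ℂ)
    (oneChar L).2 (fun g => rfl) hinv (by rw [hmul1]; exact θ.2) η.2 hηN
  obtain ⟨β, hβ, hβη⟩ := hG χ (by
    rw [hmul1, frobenius_reciprocity L _ (isClassFunction_irr χ)]
    exact Lib.Clifford.Basic.classInner_ne_zero_symm hne)
  -- `β` is fixed
  have hβN := Lib.Clifford.Gallagher.apply_mul_of_over_one L β hβ
  have hcoset : ∀ a b : G, a * b⁻¹ ∈ L → (β : G → ℂ) a = (β : G → ℂ) b := fun a b h => by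
    have := hβN ⟨_, h⟩ b
    rwa [inv_mul_cancel_right] at this
  let βk : Cfsg.IrrCharacter G := ⟨fun g => (β : G → ℂ) (g ^ k), PowChar.isIrrCharacter_pow β.2 hp.coprime⟩
  have hover : ∀ γ : Cfsg.IrrCharacter G, (∀ n : L, (γ : G → ℂ) n = (γ : G → ℂ) 1) →
      Cfsg.classInner (Cfsg.indFun L (fun _ : L => (1 : ℂ))) γ ≠ 0 := by
    intro γ hγ
    rw [frobenius_reciprocity L _ (isClassFunction_irr γ), Cfsg.classInner]
    simp only [hγ, one_mul, Finset.sum_const, Finset.card_univ, nsmul_eq_mul,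
      conj_apply_one (isCharacter_irr γ)]
    refine mul_ne_zero (inv_ne_zero natCard_ne_zero) (mul_ne_zero ?_ (Blocks.char_one_ne_zero γ))
    exact Nat.cast_ne_zero.2 Fintype.card_ne_zero
  have hβ1 : ∀ n : L, (β : G → ℂ) n = (β : G → ℂ) 1 := fun n => hcoset _ _ (by simp)
  have hβf : βk = β := by
    refine hinj βk β (hover βk fun n => ?_) hβ ?_
    · show (β : G → ℂ) ((n : G) ^ k) = (β : G → ℂ) ((1 : G) ^ k)
      rw [← Subgroup.coe_pow, hβ1, one_pow]
    · funext g
      show (β : G → ℂ) (g ^ k) * (η : G → ℂ) g = (β : G → ℂ) g * (η : G → ℂ) g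
      have h2 := hχf g
      rw [congrFun hβη, congrFun hβη, Pi.mul_apply, Pi.mul_apply, hηf g] at h2
      exact h2
  have hreal : ∀ g : G, ((β : G → ℂ) g).im = 0 := by
    intro g
    rw [← Complex.conj_eq_iff_im]
    obtain ⟨g', ho, hg'⟩ := exists_odd_rep L hodd g
    have h1 : (β : G → ℂ) g' = (β : G → ℂ) g := hcoset _ _ hg'
    have h2 := congrArg (fun φ : Cfsg.IrrCharacter G => (φ : G → ℂ) g') hβf
    change (β : G → ℂ) (g' ^ k) = (β : G → ℂ) g' at h2
    rw [hp.inv g' ho, apply_inv (isCharacter_irr β)] at h2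
    rw [← h1, h2]
  have hone : ∀ n : L, ((oneChar L : L → ℂ) n).im = 0 := fun n => by simp [oneChar_apply]
  obtain ⟨γ, -, -, -, hγ⟩ := Chars82.RealChars.existsUnique_real_over L hodd (oneChar L) hone
  have hb : β = oneChar G := by
    refine (hγ β hreal ?_).trans (hγ (oneChar G) (fun g => by simp [oneChar_apply]) ?_).symm
    · rw [frobenius_reciprocity L _ (isClassFunction_irr β)] at hβ
      exact Lib.Clifford.Basic.classInner_ne_zero_symm hβ
    · rw [show (fun x : L => (oneChar G : G → ℂ) x) = (oneChar L : L → ℂ) from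
        funext fun x => by simp [oneChar_apply], classInner_self_irr]
      exact one_ne_zero
  refine Subtype.ext ?_
  rw [hβη, hb]
  funext g
  simp [oneChar_apply]

omit hinv in
include hp hodd hθ in
/-- A fixed character of `L` lies under exactly one fixed character of `G`. -/
theorem exists_unique_over :
    ∃ χ : Cfsg.IrrCharacter G,
      Cfsg.classInner (fun n : L => (χ : G → ℂ) n) (θ : L → ℂ) ≠ 0 ∧ Fix k (χ : G → ℂ) ∧
      ((∀ g, conjC L g (θ : L → ℂ) = (θ : L → ℂ)) → ∀ n : L, (χ : G → ℂ) n = (θ : L → ℂ) n) ∧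
      ∀ χ' : Cfsg.IrrCharacter G, Cfsg.classInner (fun n : L => (χ' : G → ℂ) n) (θ : L → ℂ) ≠ 0 →
        Fix k (χ' : G → ℂ) → χ' = χ := by
  classical
  set T := inertia L (θ : L → ℂ) with hT
  have hLT : L ≤ T := Lib.Clifford.Basic.le_inertia L (isClassFunction_irr θ)
  haveI := Fintype.ofFinite T
  haveI := Fintype.ofFinite (L.subgroupOf T)
  let e := Subgroup.subgroupOfEquivOfLe hLT
  let θ' : Cfsg.IrrCharacter (L.subgroupOf T) :=
    ⟨(θ : L → ℂ) ∘ e.toMonoidHom, isIrrCharacter_comp _ e.surjective θ.2⟩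
  have hθ' : Fix k (θ' : L.subgroupOf T → ℂ) := fun a => by
    show (θ : L → ℂ) (e (a ^ k)) = (θ : L → ℂ) (e a)
    rw [map_pow, hθ]
  have hinv' : ∀ t : T, conjC (L.subgroupOf T) t (θ' : L.subgroupOf T → ℂ) = θ' := fun t =>
    funext fun x => congrFun (t.2 : (t : G) ∈ inertia L (θ : L → ℂ)) (e x)
  obtain ⟨ψ, hψN, hψf, hψu⟩ := invariant (hp.subgroup T) (L.subgroupOf T)
    (Odd.of_dvd_nat hodd (Subgroup.relIndex_dvd_index_of_normal L T)) hθ' hinv'
  have hψres : ∀ n : L, (ψ : T → ℂ) (Subgroup.inclusion hLT n) = (θ : L → ℂ) n :=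
    fun n => hψN (e.symm n)
  obtain ⟨χ, hχ, -, hχψ, -⟩ := Chars82.StableExtension.induced_spec L (φ := θ) (hNI := hLT) hT ψ hψres
  have hover : Cfsg.classInner (fun n : L => (χ : G → ℂ) n) (θ : L → ℂ) ≠ 0 := by
    refine CoprimeFix.inner_ne_zero_comp (Subgroup.inclusion hLT)
      (isCharacter_comp T.subtype (isCharacter_irr χ)) ψ (isCharacter_irr θ) hχψ ?_
    rw [show (ψ : T → ℂ) ∘ Subgroup.inclusion hLT = (θ : L → ℂ) from funext hψres,
      classInner_self_irr]
    exact one_ne_zero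
  have hχf : Fix k (χ : G → ℂ) := fun g => by
    have h := congrFun (PowChar.indFun_pow T (ψ : T → ℂ) hp.coprime) g
    rw [hχ]
    refine h.trans ?_
    rw [show (fun h : T => (ψ : T → ℂ) (h ^ k)) = (ψ : T → ℂ) from funext hψf]
  refine ⟨χ, hover, hχf, fun hinv n => ?_, fun χ' h' hf' => ?_⟩
  · have hTtop : T = ⊤ := eq_top_iff.mpr fun g _ => hinv g
    obtain ⟨η, hηN, hηf, hηu⟩ := invariant hp L hodd hθ hinv
    rw [hηu χ hχf hover]
    exact hηN n
  obtain ⟨φ, hφirr, hind, hres, hφne⟩ :=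
    Lib.Clifford.Basic.exists_correspondent L χ'.2 θ h' T hT hLT
  let φ' : Cfsg.IrrCharacter T := ⟨fun t => φ (t ^ k), PowChar.isIrrCharacter_pow hφirr (hp.subgroup T).coprime⟩
  have hφone : Cfsg.classInner ((χ' : G → ℂ) ∘ T.subtype) φ = 1 := by
    have := frobenius_reciprocity T φ (isClassFunction_irr χ')
    rw [hind, classInner_self_irr] at this
    rw [← classInner_conj_symm]
    exact (congrArg conj this.symm).trans (map_one _)
  have hlow : Cfsg.classInner (φ ∘ Subgroup.inclusion hLT) (θ : L → ℂ) =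
      Cfsg.classInner (fun n : L => (χ' : G → ℂ) n) (θ : L → ℂ) := by
    rw [show φ ∘ Subgroup.inclusion hLT = _ from hres, classInner_smul_left, classInner_self_irr,
      mul_one]
  -- the correspondent is the only constituent over `θ`
  have honly : φ' = ⟨φ, hφirr⟩ := by
    by_contra hne
    have h1 : Cfsg.classInner ((χ' : G → ℂ) ∘ T.subtype) φ' ≠ 0 := by
      rw [show Cfsg.classInner ((χ' : G → ℂ) ∘ T.subtype) (φ' : T → ℂ) =
        Cfsg.classInner ((χ' : G → ℂ) ∘ T.subtype) φ from ?_, hφone]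
      · exact one_ne_zero
      simp only [Cfsg.classInner, Function.comp_apply]
      congr 1
      refine Fintype.sum_bijective (fun t : T => t ^ k)
        (powCoprime (G := T) (hp.subgroup T).coprime.symm).bijective _ _ fun t => ?_
      show (χ' : G → ℂ) (t : G) * conj (φ (t ^ k)) = (χ' : G → ℂ) ((t ^ k : T) : G) * conj (φ (t ^ k))
      rw [Subgroup.coe_pow, hf']
    have h2 : Cfsg.classInner ((φ' : T → ℂ) ∘ Subgroup.inclusion hLT) (θ : L → ℂ) ≠ 0 := by
      rw [show Cfsg.classInner ((φ' : T → ℂ) ∘ Subgroup.inclusion hLT) (θ : L → ℂ) =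
        Cfsg.classInner (φ ∘ Subgroup.inclusion hLT) (θ : L → ℂ) from ?_, hlow]
      · exact h'
      simp only [Cfsg.classInner, Function.comp_apply]
      congr 1
      refine Fintype.sum_bijective (fun t : L => t ^ k)
        (powCoprime (G := L) (hp.subgroup L).coprime.symm).bijective _ _ fun t => ?_
      rw [← hθ t, map_pow]
    obtain ⟨m, r, hr, hm, -, hdec⟩ := Lib.Clifford.Basic.exists_eq_nsmul_add
      (isCharacter_comp T.subtype (isCharacter_irr χ')) ⟨φ, hφirr⟩
    have hm1 : m = 1 := by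
      have : (m : ℂ) = 1 := hm.symm.trans hφone
      exact_mod_cast this
    have hrφ : Cfsg.classInner r φ' ≠ 0 := by
      rw [hdec, classInner_add_left, Lib.Clifford.Basic.classInner_nsmul_left,
        classInner_irr_of_ne (Ne.symm hne), mul_zero, zero_add] at h1
      exact h1
    apply CoprimeFix.inner_ne_zero_comp (Subgroup.inclusion hLT) hr φ' (isCharacter_irr θ) hrφ h2
    have e2 : (fun n : L => (χ' : G → ℂ) n) =
        φ ∘ Subgroup.inclusion hLT + r ∘ Subgroup.inclusion hLT := by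
      funext n
      have := congrFun hdec (Subgroup.inclusion hLT n)
      simpa [hm1] using this
    rw [e2, classInner_add_left] at hlow
    exact add_eq_left.1 hlow.symm
  have hφψ : (⟨φ, hφirr⟩ : Cfsg.IrrCharacter T) = ψ := by
    refine hψu _ (fun t => congrFun (congrArg Subtype.val honly) t) ?_
    rw [← hlow] at h'
    convert h' using 1
    exact RealOdd.inner_equiv e (φ ∘ Subgroup.inclusion hLT) (θ : L → ℂ)
  apply Subtype.ext
  rw [hχ, ← hind, ← hφψ]

end Cfsg.Agent.Lib.BC78.SigmaFixed
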