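import Cfsg.Agent.Lib.BC78.LinTwist
import Cfsg.Agent.Lib.BC78.Clifford
import Cfsg.Agent.Lib.BlocksChars5.Basic
import Cfsg.Agent.Lib.DegreeBounds.Basic
import Cfsg.Agent.Lib.Fgs9.HallNumbers
import Mathlib.GroupTheory.RegularWreathProduct

/-!
# Wreath products of monomial groups by groups of prime order

* `Mono` : every irreducible character is monomial;
* `exists_indFun` : over a normal subgroup of prime index a character restricts irreducibly or is
  induced;
* `mono_wreath` : the regular wreath product of a monomial group by a group of prime order is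
  monomial;
* `exists_mono` : every finite solvable group embeds in a monomial group.
-/

set_option autoImplicit false

namespace Cfsg.Agent.Lib.BC78.WreathMonomial

open scoped ComplexConjugate
open Cfsg.Agent.Lib.Induced.Basic Cfsg.Agent.Lib.Characters.Basic
open Cfsg.Agent.Lib.Characters

universe u v

/-- Every irreducible character is monomial. -/
def Mono (M : Type u) [Group M] [Fintype M] : Prop :=
  ∀ χ : M → ℂ, Cfsg.IsIrrCharacter M χ →
    ∃ (H : Subgroup M) (lam : H →* ℂˣ), χ = Cfsg.indFun H (fun h => (lam h : ℂ))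

section primeIndex

variable {G : Type u} [Group G] [Fintype G] (N : Subgroup G) [hN : N.Normal]

omit hN in
/-- Characters with a common constituent meet. -/
theorem classInner_ne_zero_of_common [Fintype N] {φ φ' : N → ℂ} (hφ : Cfsg.IsCharacter N φ)
    (hφ' : Cfsg.IsCharacter N φ') {a : Cfsg.IrrCharacter N}
    (h : Cfsg.classInner φ a ≠ 0) (h' : Cfsg.classInner φ' a ≠ 0) :
    Cfsg.classInner φ φ' ≠ 0 := by
  obtain ⟨m, r, hr, hm, hr0, rfl⟩ := Lib.Clifford.Basic.exists_eq_nsmul_add hφ a
  obtain ⟨m', r', hr', hm', hr0', rfl⟩ := Lib.Clifford.Basic.exists_eq_nsmul_add hφ' a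
  obtain ⟨k, hk⟩ := exists_classInner_nat hr hr'
  have h0 : Cfsg.classInner (a : N → ℂ) r' = 0 := by
    rw [← classInner_conj_symm, hr0', map_zero]
  rw [hm, Nat.cast_ne_zero] at h
  rw [hm', Nat.cast_ne_zero] at h'
  simp only [classInner_add_left, classInner_add_right, Lib.Clifford.Basic.classInner_nsmul_left,
    Lib.Clifford.Basic.classInner_nsmul_right, classInner_self_irr, h0, hr0, hk, mul_one, mul_zero,
    add_zero, zero_add]
  have : m * m' + k ≠ 0 := by positivity
  rw [mul_comm m m'] at this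
  exact_mod_cast this

/-- Over a normal subgroup of prime index, a character restricts irreducibly or is induced. -/
theorem exists_indFun [Fintype N] (hp : N.index.Prime) (hab : ∀ a b : G ⧸ N, a * b = b * a)
    (χ : Cfsg.IrrCharacter G)
    (hred : ¬ Cfsg.IsIrrCharacter N (fun x : N => (χ : G → ℂ) x)) :
    ∃ θ : Cfsg.IrrCharacter N, (χ : G → ℂ) = Cfsg.indFun N (θ : N → ℂ) := by
  classical
  obtain ⟨l, hl, hfix, hne⟩ : ∃ l : G →* ℂˣ, (∀ x ∈ N, l x = 1) ∧
      LinTwist.twist l χ = χ ∧ l ≠ 1 := by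
    by_contra hcon
    push Not at hcon
    exact hred (LinTwist.isIrr_restrict_of_stable N hab χ hcon)
  have hker : ∀ g, g ∉ N → l g ≠ 1 := by
    intro g hg h
    have hlt : N < l.ker :=
      lt_of_le_of_ne (fun x hx => hl x hx) fun he => hg (he ▸ h)
    have h2 := Subgroup.index_strictAnti hlt
    rcases (Nat.dvd_prime hp).1 (Subgroup.index_dvd_of_le hlt.le) with h3 | h3
    · exact hne (MonoidHom.ext fun x => (Subgroup.index_eq_one.1 h3).ge (Subgroup.mem_top x))
    · omega
  have hvan : ∀ g, g ∉ N → (χ : G → ℂ) g = 0 := by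
    intro g hg
    have h := congrFun (congrArg Subtype.val hfix) g
    simp only [LinTwist.twist_apply] at h
    by_contra h0
    exact hker g hg (Units.ext ((mul_eq_right₀ h0).1 h))
  obtain ⟨θ, hθ⟩ := Clifford.exists_constituent N χ
  obtain ⟨m, hm⟩ := exists_classInner_nat
    (isCharacter_comp N.subtype (isCharacter_irr χ)) (isCharacter_irr θ)
  have hm' : Cfsg.classInner (fun x : N => (χ : G → ℂ) x) θ = m := hm
  have hI : Cfsg.IsCharacter G (Cfsg.indFun N (θ : N → ℂ)) :=
    Lib.Induced.Character.isCharacter_indFun N (isCharacter_irr θ)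
  have hind : Cfsg.indFun N (θ : N → ℂ) = (m : ℂ) • (χ : G → ℂ) := by
    haveI := Fintype.ofFinite (Cfsg.IrrCharacter G)
    conv_lhs => rw [character_eq_finsum hI, finsum_eq_sum_of_fintype]
    rw [Finset.sum_eq_single χ]
    · rw [frobenius_reciprocity N _ (isClassFunction_irr χ),
        ← classInner_conj_symm, hm', map_natCast]
    · intro ψ _ hψ
      rw [frobenius_reciprocity N _ (isClassFunction_irr ψ)]
      rw [show Cfsg.classInner (θ : N → ℂ) (fun x : N => (ψ : G → ℂ) x) = 0 from ?_, zero_smul]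
      by_contra h0
      have hc := classInner_ne_zero_of_common N
        (isCharacter_comp N.subtype (isCharacter_irr χ))
        (isCharacter_comp N.subtype (isCharacter_irr ψ)) hθ
        (Lib.Clifford.Basic.classInner_ne_zero_symm h0)
      obtain ⟨l', hl', htw⟩ := LinTwist.exists_twist N hab χ ψ hc
      apply hψ
      rw [← htw]
      refine Subtype.ext (funext fun g => ?_)
      rw [LinTwist.twist_apply]
      by_cases hg : g ∈ N
      · rw [hl' g hg, Units.val_one, one_mul]
      · rw [hvan g hg, mul_zero]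
    · exact fun h => absurd (Finset.mem_univ _) h
  -- the stabiliser of `θ`
  let S : Subgroup G :=
    { carrier := {g | Clifford.conjIrr N θ g = θ}
      mul_mem' := fun {a b} ha hb => by
        simp only [Set.mem_setOf_eq] at ha hb ⊢
        have h := Clifford.conjIrr_conjIrr N θ a b
        rw [ha, hb] at h
        exact h.symm
      one_mem' := Clifford.conjIrr_one N θ
      inv_mem' := fun {a} ha => by
        simp only [Set.mem_setOf_eq] at ha ⊢
        have h := Clifford.conjIrr_conjIrr N θ a a⁻¹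
        rw [ha, mul_inv_cancel, Clifford.conjIrr_one] at h
        exact h }
  have hS : N ≤ S := fun g hg => Clifford.conjIrr_mem N θ hg
  have hnorm : (Nat.card N : ℂ) * ((m : ℂ) * m) = (Nat.card S : ℂ) := by
    have e : Cfsg.classInner (Cfsg.indFun N (θ : N → ℂ)) (Cfsg.indFun N (θ : N → ℂ)) =
        (m : ℂ) * m := by
      rw [hind, classInner_smul_left, classInner_smul_right, classInner_self_irr, map_natCast,
        mul_one]
    rw [← e, frobenius_reciprocity N _ (isClassFunction_of_isCharacter hI),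
      show (fun h : N => Cfsg.indFun N (θ : N → ℂ) h) =
        (Nat.card N : ℂ)⁻¹ • ∑ g : G, (Clifford.conjIrr N θ g : N → ℂ) from funext fun h => by
          rw [Clifford.indFun_restrict_normal, Pi.smul_apply, Finset.sum_apply, smul_eq_mul]
          rfl,
      classInner_smul_right, map_inv₀, map_natCast, classInner_sum_right,
      mul_inv_cancel_left₀ natCard_ne_zero]
    simp only [classInner_irr]
    rw [Finset.sum_boole, Nat.card_eq_fintype_card, Fintype.card_subtype]
    congr 2
    exact Finset.filter_congr fun g _ => eq_comm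
  have hnorm' : Nat.card N * (m * m) = Nat.card S := by exact_mod_cast hnorm
  have hm1 : m = 1 := by
    rcases (Nat.dvd_prime hp).1 (Subgroup.index_dvd_of_le hS) with h | h
    · exfalso
      rw [Subgroup.index_eq_one] at h
      rw [h, Subgroup.card_top, ← Subgroup.card_mul_index N] at hnorm'
      have h2 := Nat.eq_of_mul_eq_mul_left Nat.card_pos hnorm'
      rw [← h2, Nat.prime_mul_iff] at hp
      rcases hp with ⟨h3, h4⟩ | ⟨h3, h4⟩ <;> rw [h4] at h3 <;> exact Nat.not_prime_one h3
    · rw [show S = N from (eq_of_le_of_not_lt hS fun hlt => by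
        have := Subgroup.index_strictAnti hlt; omega).symm] at hnorm'
      have h2 : m * m = 1 := by
        nlinarith [Nat.card_pos (α := N)]
      exact Nat.eq_one_of_mul_eq_one_left h2
  exact ⟨θ, by rw [hind, hm1, Nat.cast_one, one_smul]⟩

end primeIndex

section wreath

open RegularWreathProduct

variable {M : Type u} [Group M] [Fintype M] {Q : Type v} [Group Q] [Fintype Q]

/-- The base group. -/
abbrev base (M : Type u) [Group M] (Q : Type v) [Group Q] : Subgroup (M ≀ᵣ Q) :=
  (rightHom : M ≀ᵣ Q →* Q).ker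

theorem mem_base {w : M ≀ᵣ Q} : w ∈ base M Q ↔ w.right = 1 := MonoidHom.mem_ker

/-- A projection of the base group. -/
def proj (q : Q) : base M Q →* M where
  toFun b := (b : M ≀ᵣ Q).left q
  map_one' := rfl
  map_mul' a b := by simp [mem_base.1 a.2]

/-- The base group as functions. -/
def baseEquiv : base M Q ≃ (Q → M) where
  toFun b := (b : M ≀ᵣ Q).left
  invFun f := ⟨⟨f, 1⟩, mem_base.2 rfl⟩
  left_inv b := Subtype.ext (RegularWreathProduct.ext rfl (mem_base.1 b.2).symm)
  right_inv _ := rfl

/-- The product character. -/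
noncomputable def prodFun (θ : Q → Cfsg.IrrCharacter M) : base M Q → ℂ :=
  fun b => ∏ q, (θ q : M → ℂ) (proj q b)

theorem isCharacter_prodFun (θ : Q → Cfsg.IrrCharacter M) :
    Cfsg.IsCharacter (base M Q) (prodFun θ) := by
  have h : ∀ s : Finset Q, Cfsg.IsCharacter (base M Q)
      (fun b => ∏ q ∈ s, (θ q : M → ℂ) (proj q b)) := by
    classical
    intro s
    induction s using Finset.induction_on with
    | empty =>
      simp only [Finset.prod_empty]
      exact isCharacter_one
    | insert a s ha ih =>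
      simp only [Finset.prod_insert ha]
      exact isCharacter_mul (isCharacter_comp (proj a) (isCharacter_irr (θ a))) ih
  exact h Finset.univ

theorem classInner_prodFun [Fintype (base M Q)] (θ θ' : Q → Cfsg.IrrCharacter M) :
    Cfsg.classInner (prodFun θ) (prodFun θ') =
      ∏ q, Cfsg.classInner (θ q : M → ℂ) (θ' q : M → ℂ) := by
  classical
  simp only [Cfsg.classInner, Finset.prod_mul_distrib, Fintype.prod_sum]
  rw [Finset.prod_const, Finset.card_univ, Nat.card_congr baseEquiv, Nat.card_fun, Nat.cast_pow,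
    inv_pow, ← Nat.card_eq_fintype_card (α := Q)]
  congr 1
  refine Fintype.sum_equiv baseEquiv _ _ fun b => ?_
  rw [prodFun, prodFun, map_prod]
  simp only [← Finset.prod_mul_distrib]
  rfl

open scoped Classical in
theorem isIrr_prodFun [Fintype (base M Q)] (θ : Q → Cfsg.IrrCharacter M) :
    Cfsg.IsIrrCharacter (base M Q) (prodFun θ) :=
  isIrrCharacter_of_classInner_self (isCharacter_prodFun θ) (by
    rw [classInner_prodFun]
    exact Finset.prod_eq_one fun q _ => classInner_self_irr (θ q))

theorem prodFun_injective {θ θ' : Q → Cfsg.IrrCharacter M} (h : prodFun θ = prodFun θ') :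
    θ = θ' := by
  classical
  haveI := Fintype.ofFinite (base M Q)
  have h1 := classInner_prodFun θ θ'
  rw [h, classInner_prodFun] at h1
  funext q
  by_contra hq
  have h0 : ∏ q, Cfsg.classInner (θ q : M → ℂ) (θ' q : M → ℂ) = 0 :=
    Finset.prod_eq_zero (Finset.mem_univ q) (by rw [classInner_irr, if_neg hq])
  rw [h0, Finset.prod_eq_one fun q _ => classInner_self_irr (θ' q)] at h1
  exact one_ne_zero h1

/-- Every irreducible character of the base group is a product. -/
theorem exists_prodFun (φ : Cfsg.IrrCharacter (base M Q)) :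
    ∃ θ : Q → Cfsg.IrrCharacter M, (φ : base M Q → ℂ) = prodFun θ := by
  classical
  haveI := Fintype.ofFinite (base M Q)
  haveI := Fintype.ofFinite (Cfsg.IrrCharacter M)
  haveI := Fintype.ofFinite (Cfsg.IrrCharacter (base M Q))
  let P : (Q → Cfsg.IrrCharacter M) ↪ Cfsg.IrrCharacter (base M Q) :=
    ⟨fun θ => ⟨prodFun θ, isIrr_prodFun θ⟩,
      fun a b h => prodFun_injective (congrArg Subtype.val h)⟩
  by_contra hcon
  push Not at hcon
  have hdeg : ∀ θ, Cfsg.charDegree (P θ : base M Q → ℂ) =
      ∏ q, Cfsg.charDegree (θ q : M → ℂ) := by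
    intro θ
    have h : (P θ : base M Q → ℂ) 1 = ∏ q, (θ q : M → ℂ) 1 := by
      show prodFun θ 1 = _
      simp [prodFun]
    simp only [BlocksChars5.Basic.apply_one] at h
    exact_mod_cast h
  have hφ : φ ∉ Finset.univ.map P := by
    simp only [Finset.mem_map, Finset.mem_univ, true_and, not_exists]
    exact fun θ hθ => hcon θ (congrArg Subtype.val hθ).symm
  have hsum : ∑ ψ ∈ Finset.univ.map P, Cfsg.charDegree (ψ : base M Q → ℂ) ^ 2 =
      Nat.card (base M Q) := by
    rw [Finset.sum_map, Nat.card_congr baseEquiv, Nat.card_fun, Nat.card_eq_fintype_card (α := Q),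
      ← DegreeBounds.Basic.sum_charDegree_sq (G := M), ← Finset.card_univ, ← Finset.prod_const]
    simp only [Fintype.prod_sum]
    exact Finset.sum_congr rfl fun θ _ => by rw [hdeg, Finset.prod_pow]
  have hlt : ∑ ψ ∈ Finset.univ.map P, Cfsg.charDegree (ψ : base M Q → ℂ) ^ 2 <
      ∑ ψ : Cfsg.IrrCharacter (base M Q), Cfsg.charDegree (ψ : base M Q → ℂ) ^ 2 :=
    Finset.sum_lt_sum_of_subset (Finset.subset_univ _) (Finset.mem_univ φ) hφ
      (pow_pos (BlocksChars5.Basic.degree_pos φ) 2) (fun _ _ _ => Nat.zero_le _)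
  rw [hsum] at hlt
  have := DegreeBounds.Basic.sum_charDegree_sq (G := base M Q)
  omega

/-- The product of monomial characters. -/
theorem mono_prodFun [Fintype (base M Q)] (hM : Mono M) (θ : Q → Cfsg.IrrCharacter M) :
    ∃ (H : Subgroup (base M Q)) (lam : H →* ℂˣ),
      prodFun θ = Cfsg.indFun H (fun h => (lam h : ℂ)) := by
  classical
  choose H lam hlam using fun q => hM _ (θ q).2
  refine ⟨⨅ q, (H q).comap (proj q), ?_⟩
  let K : Subgroup (base M Q) := ⨅ q, (H q).comap (proj q)
  have hK : ∀ b, b ∈ K ↔ ∀ q, proj q b ∈ H q := fun b => by simp [K, Subgroup.mem_iInf]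
  refine ⟨∏ q, (lam q).comp (((proj q).comp K.subtype).codRestrict (H q)
    (fun b => (hK b.1).1 b.2 q)), funext fun b => ?_⟩
  simp only [prodFun, hlam, Cfsg.indFun, Finset.prod_mul_distrib]
  congr 1
  · rw [Finset.prod_inv_distrib, ← Nat.cast_prod, ← Nat.card_pi]
    congr 2
    exact Nat.card_congr
      { toFun := fun f => ⟨baseEquiv.symm fun q => (f q : M), (hK _).2 fun q => (f q).2⟩
        invFun := fun b q => ⟨proj q b.1, (hK b.1).1 b.2 q⟩
        left_inv := fun f => rfl
        right_inv := fun b => Subtype.ext (baseEquiv.symm_apply_apply b.1) }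
  · rw [Fintype.prod_sum]
    refine Fintype.sum_equiv baseEquiv.symm _ _ fun f => ?_
    have hconj : ∀ q, proj q ((baseEquiv.symm f)⁻¹ * b * baseEquiv.symm f) =
        (f q)⁻¹ * proj q b * f q := fun q => by rw [map_mul, map_mul, map_inv]; rfl
    by_cases hb : ∀ q, proj q ((baseEquiv.symm f)⁻¹ * b * baseEquiv.symm f) ∈ H q
    · rw [extendByZero_of_mem _ _ ((hK _).2 hb), MonoidHom.finsetProd_apply, Units.coe_prod]
      refine Finset.prod_congr rfl fun q _ => ?_
      rw [extendByZero_of_mem _ _ (hconj q ▸ hb q), MonoidHom.comp_apply]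
      refine congrArg (fun x => ((lam q x : ℂˣ) : ℂ)) ?_
      exact Subtype.ext (hconj q).symm
    · rw [extendByZero_of_not_mem _ _ fun h => hb ((hK _).1 h)]
      push Not at hb
      obtain ⟨q, hq⟩ := hb
      exact Finset.prod_eq_zero (Finset.mem_univ q)
        (extendByZero_of_not_mem _ _ fun h => hq ((hconj q).symm ▸ h))

variable [Fintype (M ≀ᵣ Q)]

/-- An extension of a product of equal monomial characters. -/
theorem exists_ext [Fintype (base M Q)] (H : Subgroup M) (lam : H →* ℂˣ) :
    ∃ (K : Subgroup (M ≀ᵣ Q)) (μ : K →* ℂˣ), ∀ b : base M Q,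
      Cfsg.indFun K (fun h => (μ h : ℂ)) b =
        ∏ q, Cfsg.indFun H (fun h => (lam h : ℂ)) (proj q b) := by
  classical
  let K : Subgroup (M ≀ᵣ Q) :=
    { carrier := {w | ∀ q, w.left q ∈ H}
      mul_mem' := fun {a b} ha hb q => by
        rw [mul_left, Pi.mul_apply]; exact mul_mem (ha q) (hb _)
      one_mem' := fun q => one_mem H
      inv_mem' := fun {a} ha q => by
        rw [inv_left]
        simpa using inv_mem (ha (a.right * q)) }
  let μ : K →* ℂˣ :=
    { toFun := fun w => ∏ q, lam ⟨w.1.left q, w.2 q⟩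
      map_one' := Finset.prod_eq_one fun q _ => by
        rw [← map_one lam]; exact congrArg lam (Subtype.ext rfl)
      map_mul' := fun a b => by
        rw [show (∏ q, lam ⟨b.1.left q, b.2 q⟩) =
          ∏ q, lam ⟨b.1.left (a.1.right⁻¹ * q), b.2 _⟩ from
            (Fintype.prod_equiv (Equiv.mulLeft a.1.right⁻¹) _ _ fun q => rfl).symm,
          ← Finset.prod_mul_distrib]
        exact Finset.prod_congr rfl fun q _ => by
          rw [← map_mul]; exact congrArg lam (Subtype.ext rfl) }
  refine ⟨K, μ, fun b => ?_⟩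
  have hcard : Nat.card K = Nat.card H ^ Nat.card Q * Nat.card Q := by
    rw [← Nat.card_fun, ← Nat.card_prod]
    exact Nat.card_congr
      { toFun := fun w => (fun q => ⟨w.1.left q, w.2 q⟩, w.1.right)
        invFun := fun z => ⟨⟨fun q => (z.1 q : M), z.2⟩, fun q => (z.1 q).2⟩
        left_inv := fun w => rfl
        right_inv := fun z => rfl }
  simp only [Cfsg.indFun, Finset.prod_mul_distrib, hcard, Fintype.prod_sum]
  rw [Finset.prod_const, Finset.card_univ, inv_pow, ← Nat.card_eq_fintype_card (α := Q),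
    Nat.cast_mul, Nat.cast_pow, mul_inv, mul_assoc]
  congr 1
  rw [inv_mul_eq_iff_eq_mul₀ natCard_ne_zero,
    ← Fintype.sum_equiv (equivProd M Q).symm
      (fun z => Cfsg.extendByZero K (fun h => (μ h : ℂ))
        (((equivProd M Q).symm z)⁻¹ * (b : M ≀ᵣ Q) * (equivProd M Q).symm z)) _ (fun z => rfl),
    Fintype.sum_prod_type, Nat.card_eq_fintype_card, ← nsmul_eq_mul, Finset.smul_sum]
  refine Finset.sum_congr rfl fun a _ => ?_
  rw [← Finset.card_univ, ← Finset.sum_const]
  refine Finset.sum_congr rfl fun c _ => ?_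
  set x : M ≀ᵣ Q := (equivProd M Q).symm (a, c) with hx
  have hl : ∀ q, (x⁻¹ * (b : M ≀ᵣ Q) * x).left q =
      (a (c * q))⁻¹ * proj (c * q) b * a (c * q) := by
    intro q
    simp [hx, equivProd, proj, mem_base.1 b.2]
  by_cases hb : ∀ q, (x⁻¹ * (b : M ≀ᵣ Q) * x).left q ∈ H
  · rw [extendByZero_of_mem _ _ (show x⁻¹ * (b : M ≀ᵣ Q) * x ∈ K from hb)]
    show ((∏ q, lam ⟨(x⁻¹ * (b : M ≀ᵣ Q) * x).left q, hb q⟩ : ℂˣ) : ℂ) = _
    rw [Units.coe_prod]
    refine Fintype.prod_equiv (Equiv.mulLeft c) _ _ fun q => ?_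
    rw [extendByZero_of_mem _ _ (show _ ∈ H from hl q ▸ hb q)]
    exact congrArg (fun y => ((lam y : ℂˣ) : ℂ)) (Subtype.ext (hl q))
  · rw [extendByZero_of_not_mem _ _ (show _ ∉ K from fun h => hb h)]
    push Not at hb
    obtain ⟨q, hq⟩ := hb
    exact (Finset.prod_eq_zero (Finset.mem_univ (c * q))
      (extendByZero_of_not_mem H _ fun h => hq (by rw [hl q]; exact h))).symm

/-- The wreath product of a monomial group by a group of prime order is monomial. -/
theorem mono_wreath (hM : Mono M) (hQ : (Nat.card Q).Prime) : Mono (M ≀ᵣ Q) := by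
  classical
  intro χ₀ hχ₀
  let χ : Cfsg.IrrCharacter (M ≀ᵣ Q) := ⟨χ₀, hχ₀⟩
  haveI := Fintype.ofFinite (base M Q)
  haveI : Fact (Nat.card Q).Prime := ⟨hQ⟩
  haveI : IsCyclic Q := isCyclic_of_prime_card (p := Nat.card Q) rfl
  have hab : ∀ a b : (M ≀ᵣ Q) ⧸ base M Q, a * b = b * a := by
    intro a b
    induction a using QuotientGroup.induction_on with | _ a => ?_
    induction b using QuotientGroup.induction_on with | _ b => ?_
    rw [← QuotientGroup.mk_mul, ← QuotientGroup.mk_mul, QuotientGroup.eq, mem_base]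
    simp only [mul_right, inv_right]
    rw [LinTwist.isCyclic_comm a.right b.right, mul_inv_rev]
    group
  have hidx : (base M Q).index = Nat.card Q := by
    rw [Subgroup.index_ker]
    exact Nat.card_congr ((Equiv.setCongr (Set.range_eq_univ.2
      fun q => ⟨inl q, rfl⟩)).trans (Equiv.Set.univ Q))
  by_cases hirr : Cfsg.IsIrrCharacter (base M Q) (fun b : base M Q => (χ : M ≀ᵣ Q → ℂ) b)
  · obtain ⟨θ, hθ⟩ := exists_prodFun ⟨_, hirr⟩
    have hθc : ∀ c q, θ q = θ (c⁻¹ * q) := by
      intro c
      have heq : prodFun θ = prodFun fun q => θ (c⁻¹ * q) := by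
        funext b
        have hn : (inl c : M ≀ᵣ Q)⁻¹ * (b : M ≀ᵣ Q) * inl c ∈ base M Q := by
          rw [mem_base]; simp [mem_base.1 b.2]
        have h1 : (χ : M ≀ᵣ Q → ℂ) ((inl c)⁻¹ * (b : M ≀ᵣ Q) * inl c) =
            (χ : M ≀ᵣ Q → ℂ) b := by
          simpa using isClassFunction_irr χ (b : M ≀ᵣ Q) (inl c)⁻¹
        have h2 := congrFun hθ ⟨_, hn⟩
        have h3 := congrFun hθ b
        simp only at h2 h3
        rw [h1, h3] at h2
        rw [h2]
        refine Fintype.prod_equiv (Equiv.mulLeft c) _ _ fun q => ?_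
        simp [proj, mem_base.1 b.2]
      exact fun q => congrFun (prodFun_injective heq) q
    obtain ⟨H, lam, hlam⟩ := hM _ (θ 1).2
    obtain ⟨K, μ, hμ⟩ := exists_ext (Q := Q) H lam
    have hres : ∀ b : base M Q, Cfsg.indFun K (fun h => (μ h : ℂ)) b = (χ : M ≀ᵣ Q → ℂ) b := by
      intro b
      rw [hμ, show (χ : M ≀ᵣ Q → ℂ) b = prodFun θ b from congrFun hθ b]
      exact Finset.prod_congr rfl fun q _ => by
        rw [← hlam, hθc q q, inv_mul_cancel]
    have hψc : Cfsg.IsCharacter (M ≀ᵣ Q) (Cfsg.indFun K (fun h => (μ h : ℂ))) :=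
      Lib.Induced.Character.isCharacter_indFun K (isCharacter_irr (Linear.linChar μ))
    have hψ : Cfsg.IsIrrCharacter (M ≀ᵣ Q) (Cfsg.indFun K (fun h => (μ h : ℂ))) :=
      Lib.Clifford.Monomial.isIrr_of_comp_irr (base M Q).subtype hψc
        (by rw [show Cfsg.indFun K (fun h => (μ h : ℂ)) ∘ (base M Q).subtype =
          fun b : base M Q => (χ : M ≀ᵣ Q → ℂ) b from funext hres]; exact hirr)
    obtain ⟨l, -, hl⟩ := LinTwist.exists_twist (base M Q) hab ⟨_, hψ⟩ χ (by
      rw [show (fun b : base M Q => Cfsg.indFun K (fun h => (μ h : ℂ)) b) =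
        fun b : base M Q => (χ : M ≀ᵣ Q → ℂ) b from funext hres,
        classInner_self_irr ⟨_, hirr⟩]
      exact one_ne_zero)
    refine ⟨K, μ * l.comp K.subtype, ?_⟩
    rw [show χ₀ = (LinTwist.twist l ⟨_, hψ⟩ : M ≀ᵣ Q → ℂ) from congrArg Subtype.val hl.symm]
    funext g
    rw [LinTwist.twist_apply, mul_comm]
    have hcl : Cfsg.IsClassFunction (M ≀ᵣ Q) (fun g => (l g : ℂ)) :=
      isClassFunction_irr (Linear.linChar l)
    rw [show (fun h : K => (((μ * l.comp K.subtype) h : ℂˣ) : ℂ)) =
      fun h : K => (μ h : ℂ) * (l h : ℂ) from funext fun h => rfl,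
      indFun_mul_restrict K (fun h => (μ h : ℂ)) hcl]
  · obtain ⟨θ, hθ⟩ := exists_indFun (base M Q) (hidx ▸ hQ) hab χ hirr
    obtain ⟨θ', hθ'⟩ := exists_prodFun θ
    obtain ⟨H, lam, hlam⟩ := mono_prodFun hM θ'
    obtain ⟨H', hH', rfl⟩ : ∃ H' ≤ base M Q, H = H'.subgroupOf (base M Q) :=
      ⟨H.map (base M Q).subtype, Subgroup.map_subtype_le H, by
        rw [Subgroup.subgroupOf, Subgroup.comap_map_eq_self_of_injective Subtype.val_injective]⟩
    let e := Subgroup.subgroupOfEquivOfLe hH'
    refine ⟨H', lam.comp e.symm.toMonoidHom, ?_⟩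
    show χ₀ = _
    rw [show χ₀ = _ from hθ, hθ', hlam, ← indFun_trans H' (base M Q) hH']
    refine congrArg _ (congrArg _ (funext fun x => ?_))
    exact congrArg (fun y => ((lam y : ℂˣ) : ℂ)) (Subtype.ext (Subtype.ext rfl))

end wreath

/-- Every finite solvable group embeds in a monomial group. -/
theorem exists_mono : ∀ (n : ℕ) (G : Type u) [Group G] [Finite G], Group.IsSolvable G →
    Nat.card G = n → ∃ (M : Type u) (_ : Group M) (_ : Fintype M), Mono M ∧
      ∃ f : G →* M, Function.Injective f := by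
  intro n
  induction n using Nat.strong_induction_on with
  | _ n ih =>
    intro G _ _ hsolv hn
    rcases subsingleton_or_nontrivial G with hG | hG
    · refine ⟨G, inferInstance, Fintype.ofFinite G, fun χ hχ => ?_, MonoidHom.id G,
        Function.injective_id⟩
      letI := Fintype.ofFinite G
      have h1 := Linear.degree_eq_one_of_comm (fun a b => Subsingleton.elim _ _) ⟨χ, hχ⟩
      refine ⟨⊤, 1, funext fun g => ?_⟩
      classical
      rw [indFun_apply, Subsingleton.elim g 1, Nat.card_congr Subgroup.topEquiv.toEquiv,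
        show χ 1 = 1 from h1]
      simp [Nat.card_eq_fintype_card]
    · haveI := hsolv
      obtain ⟨N, hN, hp⟩ := Lib.Fgs9.HallNumbers.exists_normal_prime_index G
      have hlt : Nat.card N < n := by
        rw [← hn, ← N.card_mul_index]
        exact lt_mul_of_one_lt_right Nat.card_pos hp.one_lt
      obtain ⟨M, _, _, hM, f, hf⟩ := ih _ hlt N inferInstance rfl
      letI := Fintype.ofFinite (G ⧸ N)
      letI := Fintype.ofFinite (M ≀ᵣ (G ⧸ N))
      refine ⟨M ≀ᵣ (G ⧸ N), inferInstance, Fintype.ofFinite _,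
        mono_wreath hM (Subgroup.index_eq_card N ▸ hp), ?_⟩
      have hs : ∀ q : G ⧸ N, ((q.out : G) : G ⧸ N) = q := Quotient.out_eq
      let φ : G →* M ≀ᵣ (G ⧸ N) := MonoidHom.mk' (fun g => ⟨fun q =>
        f ⟨q.out⁻¹ * g * ((g : G ⧸ N)⁻¹ * q).out, by
          rw [← QuotientGroup.eq_one_iff, QuotientGroup.mk_mul, QuotientGroup.mk_mul,
            QuotientGroup.mk_inv, hs, hs]
          group⟩, (g : G ⧸ N)⟩) (fun a b => by
        refine RegularWreathProduct.ext (funext fun q => ?_) rfl
        simp only [RegularWreathProduct.mul_left, Pi.mul_apply]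
        rw [← map_mul]
        refine congrArg f (Subtype.ext ?_)
        show _ = q.out⁻¹ * a * ((a : G ⧸ N)⁻¹ * q).out *
          (((a : G ⧸ N)⁻¹ * q).out⁻¹ * b * ((b : G ⧸ N)⁻¹ * ((a : G ⧸ N)⁻¹ * q)).out)
        simp only [show ((a * b : G) : G ⧸ N)⁻¹ * q = (b : G ⧸ N)⁻¹ * ((a : G ⧸ N)⁻¹ * q) by
          rw [QuotientGroup.mk_mul, mul_inv_rev, mul_assoc]]
        group)
      refine ⟨φ, (injective_iff_map_eq_one φ).2 fun g hg => ?_⟩
      have h1 : (g : G ⧸ N) = 1 := congrArg RegularWreathProduct.right hg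
      have h2 : f _ = 1 := congrFun (congrArg RegularWreathProduct.left hg) 1
      rw [← map_one f] at h2
      have h3 : (1 : G ⧸ N).out⁻¹ * g * ((g : G ⧸ N)⁻¹ * 1).out = 1 :=
        congrArg Subtype.val (hf h2)
      rw [h1, inv_one, one_mul, mul_assoc, inv_mul_eq_one] at h3
      exact right_eq_mul.1 h3 |> id

end Cfsg.Agent.Lib.BC78.WreathMonomial
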